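import Mathlib

/-!
# Additivity of the multiplicities of eigenvalues (helper943)

* `subRep`, `quotRep`;
* `finrank_eig` : the dimension of the eigenspaces of an element of order prime to the characteristic is additive;
* `exists_irr_sub` : minimal invariant subspaces.
-/

set_option autoImplicit false

namespace Cfsg.Agent.H943.RepAdd

variable {k : Type*} [Field k] {G : Type*} [Group G]

section

variable {V : Type*} [AddCommGroup V] [Module k V] (ρ : Representation k G V)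

/-- the restriction to an invariant subspace -/
def subRep (W : Submodule k V) (hW : ∀ g, ∀ x ∈ W, ρ g x ∈ W) : Representation k G W where
  toFun g := (ρ g).restrict (hW g)
  map_one' := by
    ext x
    simp
  map_mul' a b := by
    ext x
    simp

/-- the quotient by an invariant subspace -/
def quotRep (W : Submodule k V) (hW : ∀ g, ∀ x ∈ W, ρ g x ∈ W) : Representation k G (V ⧸ W) where
  toFun g := W.mapQ W (ρ g) (hW g)
  map_one' := by
    ext x
    simp
  map_mul' a b := by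
    ext x
    simp

theorem coe_subRep (W : Submodule k V) (hW : ∀ g, ∀ x ∈ W, ρ g x ∈ W) (g : G) (x : W) :
    ((subRep ρ W hW g x : W) : V) = ρ g x := rfl

theorem quotRep_mk (W : Submodule k V) (hW : ∀ g, ∀ x ∈ W, ρ g x ∈ W) (g : G) (x : V) :
    quotRep ρ W hW g (W.mkQ x) = W.mkQ (ρ g x) := rfl

/-- the eigenspace of an element -/
def eig (g : G) (μ : k) : Submodule k V := LinearMap.ker (ρ g - μ • (1 : Module.End k V))

theorem mem_eig {g : G} {μ : k} {x : V} : x ∈ eig ρ g μ ↔ ρ g x = μ • x := by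
  unfold eig
  rw [LinearMap.mem_ker, LinearMap.sub_apply, LinearMap.smul_apply, Module.End.one_apply, sub_eq_zero]

theorem pow_apply_eig {g : G} {μ : k} {x : V} (hx : ρ g x = μ • x) (n : ℕ) : (ρ g ^ n) x = μ ^ n • x := by
  induction n with
  | zero => rw [pow_zero, pow_zero, one_smul]; rfl
  | succ n ih =>
    rw [pow_succ, Module.End.mul_apply, hx, map_smul, ih, smul_smul, pow_succ, mul_comm]

/-- the projection to the eigenspace -/
noncomputable def proj (g : G) (n : ℕ) (μ : k) : Module.End k V :=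
  (n : k)⁻¹ • ∑ i ∈ Finset.range n, (μ⁻¹) ^ i • (ρ g) ^ i

theorem proj_apply (g : G) (n : ℕ) (μ : k) (x : V) :
    proj ρ g n μ x = (n : k)⁻¹ • ∑ i ∈ Finset.range n, (μ⁻¹) ^ i • ((ρ g) ^ i) x := by
  simp [proj, LinearMap.sum_apply]

theorem proj_mem {g : G} {n : ℕ} (hg : ρ g ^ n = 1) {μ : k} (hμ : μ ^ n = 1) (hμ0 : μ ≠ 0) (x : V) :
    proj ρ g n μ x ∈ eig ρ g μ := by
  rw [mem_eig, proj_apply, map_smul, map_sum, smul_comm μ]
  congr 1
  rw [Finset.smul_sum]
  have h1 : ∀ i, ρ g ((μ⁻¹) ^ i • ((ρ g) ^ i) x) = μ • ((μ⁻¹) ^ (i + 1) • ((ρ g) ^ (i + 1)) x) := by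
    intro i
    rw [map_smul, ← Module.End.mul_apply, ← pow_succ', smul_smul μ, pow_succ (μ⁻¹), mul_comm μ, mul_assoc,
      inv_mul_cancel₀ hμ0, mul_one]
  rw [Finset.sum_congr rfl fun i _ => h1 i, ← Finset.smul_sum, ← Finset.smul_sum]
  congr 1
  have h2 := Finset.sum_range_succ (fun i => (μ⁻¹) ^ i • ((ρ g) ^ i) x) n
  rw [Finset.sum_range_succ'] at h2
  have h3 : (μ⁻¹) ^ n • ((ρ g) ^ n) x = (μ⁻¹) ^ 0 • ((ρ g) ^ 0) x := by
    rw [inv_pow, hμ, hg, inv_one, pow_zero, pow_zero]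
  rw [h3] at h2
  exact add_right_cancel h2

theorem proj_of_mem {g : G} {n : ℕ} (hn : (n : k) ≠ 0) {μ : k} (hμ0 : μ ≠ 0) {x : V}
    (hx : x ∈ eig ρ g μ) : proj ρ g n μ x = x := by
  rw [mem_eig] at hx
  rw [proj_apply]
  have h1 : ∀ i ∈ Finset.range n, (μ⁻¹) ^ i • ((ρ g) ^ i) x = x := by
    intro i _
    rw [pow_apply_eig ρ hx, smul_smul, ← mul_pow, inv_mul_cancel₀ hμ0, one_pow, one_smul]
  rw [Finset.sum_congr rfl h1, Finset.sum_const, Finset.card_range, ← Nat.cast_smul_eq_nsmul k, smul_smul,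
    inv_mul_cancel₀ hn, one_smul]

variable [FiniteDimensional k V]

/-- **the dimensions of the eigenspaces are additive** -/
theorem finrank_eig (W : Submodule k V) (hW : ∀ g, ∀ x ∈ W, ρ g x ∈ W) {g : G} {n : ℕ} (hg : ρ g ^ n = 1)
    (hn : (n : k) ≠ 0) {μ : k} (hμ : μ ^ n = 1) (hμ0 : μ ≠ 0) :
    Module.finrank k (eig ρ g μ) = Module.finrank k (eig (subRep ρ W hW) g μ) +
      Module.finrank k (eig (quotRep ρ W hW) g μ) := by
  have hmap : ∀ x ∈ eig ρ g μ, W.mkQ x ∈ eig (quotRep ρ W hW) g μ := by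
    intro x hx
    rw [mem_eig] at hx ⊢
    rw [quotRep_mk, hx, map_smul]
  let f : eig ρ g μ →ₗ[k] eig (quotRep ρ W hW) g μ := W.mkQ.restrict hmap
  have hf : Function.Surjective f := by
    rintro ⟨y, hy⟩
    obtain ⟨v, rfl⟩ := W.mkQ_surjective y
    refine ⟨⟨proj ρ g n μ v, proj_mem ρ hg hμ hμ0 v⟩, Subtype.ext ?_⟩
    show W.mkQ (proj ρ g n μ v) = W.mkQ v
    have h1 : W.mkQ (proj ρ g n μ v) = proj (quotRep ρ W hW) g n μ (W.mkQ v) := by
      rw [proj_apply, proj_apply, map_smul, map_sum]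
      congr 1
      refine Finset.sum_congr rfl fun i _ => ?_
      rw [map_smul]
      congr 1
      rw [← map_pow, ← map_pow, quotRep_mk]
    rw [h1, proj_of_mem _ hn hμ0 hy]
  have hk : Module.finrank k (LinearMap.ker f) = Module.finrank k (eig (subRep ρ W hW) g μ) := by
    refine LinearEquiv.finrank_eq (LinearEquiv.ofBijective
      ({ toFun := fun x => ⟨⟨(x : eig ρ g μ), ?_⟩, ?_⟩, map_add' := fun x y => rfl, map_smul' := fun c x => rfl } :
        LinearMap.ker f →ₗ[k] eig (subRep ρ W hW) g μ) ⟨?_, ?_⟩)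
    · have h1 : f x = 0 := x.2
      have h2 : W.mkQ ((x : eig ρ g μ) : V) = 0 := congrArg Subtype.val h1
      rwa [Submodule.mkQ_apply, Submodule.Quotient.mk_eq_zero] at h2
    · rw [mem_eig]
      apply Subtype.ext
      show ρ g ((x : eig ρ g μ) : V) = μ • ((x : eig ρ g μ) : V)
      exact (mem_eig ρ).1 (x : eig ρ g μ).2
    · intro x y e
      apply Subtype.ext
      apply Subtype.ext
      exact congrArg (fun z => ((z : W) : V)) (congrArg Subtype.val e)
    · rintro ⟨⟨x, hxW⟩, hx⟩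
      have hx' : x ∈ eig ρ g μ := by
        rw [mem_eig] at hx ⊢
        exact congrArg Subtype.val hx
      refine ⟨⟨⟨x, hx'⟩, ?_⟩, rfl⟩
      show f ⟨x, hx'⟩ = 0
      apply Subtype.ext
      show W.mkQ x = 0
      rwa [Submodule.mkQ_apply, Submodule.Quotient.mk_eq_zero]
  have h1 := LinearMap.finrank_range_add_finrank_ker f
  rw [LinearMap.range_eq_top.2 hf, finrank_top, hk] at h1
  omega

/-- **minimal invariant subspaces** -/
theorem exists_irr_sub [Nontrivial V] : ∃ (W : Submodule k V) (_ : ∀ g, ∀ x ∈ W, ρ g x ∈ W), W ≠ ⊥ ∧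
    ∀ W' ≤ W, (∀ g, ∀ x ∈ W', ρ g x ∈ W') → W' = ⊥ ∨ W' = W := by
  obtain ⟨W, ⟨h1, h2⟩, hmin⟩ := (wellFounded_lt (α := Submodule k V)).has_min
    {W : Submodule k V | W ≠ ⊥ ∧ ∀ g, ∀ x ∈ W, ρ g x ∈ W} ⟨⊤, top_ne_bot, fun _ _ _ => Submodule.mem_top⟩
  refine ⟨W, h2, h1, fun W' hle hW' => ?_⟩
  by_contra hcon
  push Not at hcon
  exact hmin W' ⟨hcon.1, hW'⟩ (lt_of_le_of_ne hle hcon.2)

end

end Cfsg.Agent.H943.RepAdd
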