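import Mathlib
import Cfsg.Agent.H943.E8Tab

/-!
# Alcove points for `E8` (helper943)
-/

set_option autoImplicit false
set_option maxRecDepth 100000

namespace Cfsg.Agent.H943.E8Tab

open Cfsg.Agent.ChevalleyStructure.CoxeterGeom Cfsg.Agent.Tits.Roots
  Cfsg.Agent.Nodes.RGDChev
open Cfsg.Lie Cfsg.Agent.ChevalleyStructure Cfsg.Agent.ChevalleyStructure.Elts
  Cfsg.Agent.ChevalleyStructure.RootVec Cfsg.Agent.ChevalleyStructure.RootVecTab
  Cfsg.Agent.ChevalleyStructure.NPerm Cfsg.Agent.ChevalleyStructure.CoxeterGeomTypes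
open Cfsg.Agent.H944.RootVals Cfsg.Agent.H944.Kac Cfsg.Agent.H944.Tab

/-- a list as a vector modulo `N` -/
def vecOf (N : ℕ) (Y : List ℕ) : Fin 8 → ZMod N := fun i => ((Y.getD i 0 : ℕ) : ZMod N)

/-- **the alcove points of `E8`** -/
theorem alcove8 {N : ℕ} (hN : 0 < N) (P : (Fin 8 → ZMod N) → Prop) (hP : ∀ v j, P v → P (srefl chevE8 8 j v))
    {v₀ : Fin 8 → ZMod N} (h0 : P v₀) : ∃ Y : List ℕ, Y.length = 8 ∧ dotN th8 Y ≤ N ∧ P (vecOf N Y) := by
  obtain ⟨y, hy, hθ⟩ := exists_alcove e8T hN _ _ 60 (by norm_num) theta8 (by decide) _ pos8 P hP h0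
  let Y : List ℕ := List.ofFn y
  have hY : ∀ i : Fin 8, Y.getD i 0 = y i := by
    intro i
    rw [List.getD_eq_getElem _ _ (by rw [List.length_ofFn]; exact i.2), List.getElem_ofFn]
  refine ⟨Y, List.length_ofFn, ?_, ?_⟩
  · rw [dotN_eq 8 th8 Y (by decide)]
    have h2 : ∑ i : Fin 8, th8.getD i 0 * Y.getD i 0 = ∑ i : Fin 8, th8.getD i 0 * y i :=
      Finset.sum_congr rfl fun i _ => by rw [hY]
    rw [h2]
    simp only [Fin.sum_univ_eight, Matrix.cons_val] at hθ ⊢
    simp only [th8, List.getD_cons_zero, List.getD_cons_succ, Fin.val_zero, Fin.val_one, Fin.val_two] at hθ ⊢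
    norm_num at hθ ⊢
    omega
  · convert hy using 2 with i
    unfold vecOf
    rw [hY]

theorem dotF_vecOf {N : ℕ} {r : List ℕ} (hr : r.length ≤ 8) (Y : List ℕ) :
    dotF r (vecOf N Y) = ((dotN r Y : ℕ) : ZMod N) := by
  rw [dotN_eq 8 r Y hr]
  unfold dotF vecOf
  push_cast
  rfl

theorem sum_vecOf {N : ℕ} {A : Type*} [AddCommMonoid A] (Y : List ℕ) (g : ZMod N → A) :
    ((ms chevE8 8 (vecOf N Y)).map g).sum =
      (R8.map fun r => g ((dotN r Y : ℕ) : ZMod N) + g (-((dotN r Y : ℕ) : ZMod N))).sum := by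
  rw [sum_ms tab8]
  congr 1
  exact List.map_congr_left fun r hr => by rw [dotF_vecOf (len8 r hr)]

theorem count_eq_sum {N : ℕ} (v : Fin 8 → ZMod N) (a : ZMod N) :
    (ms chevE8 8 v).count a = ((ms chevE8 8 v).map fun b => if b = a then 1 else 0).sum := by
  rw [Multiset.count_eq_card_filter_eq]
  generalize ms chevE8 8 v = s
  induction s using Multiset.induction_on with
  | empty => simp
  | cons b s ih =>
    rw [Multiset.map_cons, Multiset.sum_cons, ← ih]
    by_cases h : b = a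
    · subst h
      rw [Multiset.filter_cons_of_pos _ rfl, Multiset.card_cons, if_pos rfl]
      ring
    · rw [Multiset.filter_cons_of_neg _ (fun h' => h h'.symm), if_neg h, zero_add]

theorem check2 : allAlc th8 2 (fun y => (y == [0, 0, 0, 0, 0, 0, 0, 0] || y == [0, 0, 0, 0, 0, 0, 0, 1] ||
    y == [1, 0, 0, 0, 0, 0, 0, 0])) = true := by decide +kernel

/-- **the values of an involution** -/
theorem count_two {v : Fin 8 → ZMod 2} (hv : v ≠ 0) :
    (ms chevE8 8 v).count 0 = 128 ∨ (ms chevE8 8 v).count 0 = 112 := by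
  obtain ⟨Y, hYl, hYθ, hms, hY0⟩ := alcove8 (N := 2) (by norm_num)
    (fun w => ms chevE8 8 w = ms chevE8 8 v ∧ w ≠ 0)
    (fun w j h => ⟨by rw [ms_srefl e8T, h.1], fun h0 => h.2 (srefl_eq_zero e8T h0)⟩) ⟨rfl, hv⟩
  have h1 := allAlc_spec th8 2 _ (by decide) check2 Y hYl hYθ
  simp only [Bool.or_eq_true, beq_iff_eq] at h1
  rw [← hms, count_eq_sum, sum_vecOf]
  rcases h1 with (h1 | h1) | h1
  · refine absurd ?_ hY0
    subst h1
    funext i
    fin_cases i <;> rfl
  · left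
    subst h1
    decide +kernel
  · right
    subst h1
    decide +kernel

end Cfsg.Agent.H943.E8Tab
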