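import Mathlib

/-!
# Relations in `SL(2, F)` (helper943)

`u t`, `w`, `h a`; `w u(t) w = u(-1/t) h(-1/t) w u(-1/t)`; generation.
-/

set_option autoImplicit false
set_option linter.unusedSimpArgs false

namespace Cfsg.Agent.H943.SL2Rel

open Matrix

variable {F : Type*} [Field F]

/-- unipotent elements -/
def u (t : F) : SpecialLinearGroup (Fin 2) F := ⟨!![1, t; 0, 1], by simp [Matrix.det_fin_two]⟩

/-- the Weyl element -/
def w : SpecialLinearGroup (Fin 2) F := ⟨!![0, 1; -1, 0], by simp [Matrix.det_fin_two]⟩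

/-- the torus -/
def h (a : Fˣ) : SpecialLinearGroup (Fin 2) F :=
  ⟨!![(a : F), 0; 0, (a : F)⁻¹], by simp [Matrix.det_fin_two]⟩

theorem u_add (s t : F) : u (s + t) = u s * u t := by
  refine Subtype.ext ?_
  show !![1, s + t; 0, 1] = !![1, s; 0, 1] * !![1, t; 0, 1]
  rw [Matrix.mul_fin_two]
  simp [add_comm]

theorem u_zero : u (0 : F) = 1 := by
  refine Subtype.ext ?_
  show !![1, (0 : F); 0, 1] = 1
  rw [Matrix.one_fin_two]

theorem h_mul (a b : Fˣ) : h (a * b) = h a * h b := by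
  refine Subtype.ext ?_
  show !![((a * b : Fˣ) : F), 0; 0, ((a * b : Fˣ) : F)⁻¹] = !![(a : F), 0; 0, (a : F)⁻¹] * !![(b : F), 0; 0, (b : F)⁻¹]
  rw [Matrix.mul_fin_two]
  simp [mul_comm]

theorem h_one : h (1 : Fˣ) = 1 := by
  refine Subtype.ext ?_
  show !![((1 : Fˣ) : F), 0; 0, ((1 : Fˣ) : F)⁻¹] = 1
  rw [Matrix.one_fin_two]
  simp

/-- the torus as a homomorphism -/
def hHom : Fˣ →* SpecialLinearGroup (Fin 2) F where
  toFun := h
  map_one' := h_one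
  map_mul' := h_mul

theorem h_inv (a : Fˣ) : h a⁻¹ = (h a)⁻¹ := map_inv hHom a

theorem h_pow (a : Fˣ) (n : ℕ) : h (a ^ n) = h a ^ n := map_pow hHom a n

theorem u_neg (t : F) : u (-t) = (u t)⁻¹ := by
  rw [eq_inv_iff_mul_eq_one, ← u_add, neg_add_cancel, u_zero]

theorem h_u (a : Fˣ) (t : F) : h a * u t = u ((a : F) ^ 2 * t) * h a := by
  have ha : (a : F) ≠ 0 := a.ne_zero
  refine Subtype.ext ?_
  show !![(a : F), 0; 0, (a : F)⁻¹] * !![1, t; 0, 1] = !![1, (a : F) ^ 2 * t; 0, 1] * !![(a : F), 0; 0, (a : F)⁻¹]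
  rw [Matrix.mul_fin_two, Matrix.mul_fin_two]
  congr 1
  ext i j
  fin_cases i <;> fin_cases j <;> simp
  field_simp

theorem h_w (a : Fˣ) : h a * w = w * h a⁻¹ := by
  refine Subtype.ext ?_
  show !![(a : F), 0; 0, (a : F)⁻¹] * !![0, 1; -1, 0] = !![0, 1; -1, 0] * !![((a⁻¹ : Fˣ) : F), 0; 0, ((a⁻¹ : Fˣ) : F)⁻¹]
  rw [Matrix.mul_fin_two, Matrix.mul_fin_two]
  simp

theorem w_w : (w : SpecialLinearGroup (Fin 2) F) * w = h (-1) := by
  refine Subtype.ext ?_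
  show !![(0 : F), 1; -1, 0] * !![0, 1; -1, 0] = !![((-1 : Fˣ) : F), 0; 0, ((-1 : Fˣ) : F)⁻¹]
  rw [Matrix.mul_fin_two]
  simp [inv_neg]

/-- the unit `-1/t` -/
def mi (t : F) (ht : t ≠ 0) : Fˣ := Units.mk0 (-t⁻¹) (neg_ne_zero.2 (inv_ne_zero ht))

theorem w_u_w (t : F) (ht : t ≠ 0) : w * u t * w = u (-t⁻¹) * h (mi t ht) * w * u (-t⁻¹) := by
  refine Subtype.ext ?_
  show !![(0 : F), 1; -1, 0] * !![1, t; 0, 1] * !![0, 1; -1, 0] =
    !![1, -t⁻¹; 0, 1] * !![-t⁻¹, 0; 0, (-t⁻¹)⁻¹] * !![0, 1; -1, 0] * !![1, -t⁻¹; 0, 1]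
  simp only [Matrix.mul_fin_two]
  ext i j
  fin_cases i <;> fin_cases j <;> simp [ht]

/-- Bruhat decomposition -/
theorem bruhat (g : SpecialLinearGroup (Fin 2) F) :
    (∃ a t, g = h a * u t) ∨ ∃ s a t, g = u s * h a * w * u t := by
  obtain ⟨m, hm⟩ := g
  by_cases hc : m 1 0 = 0
  · left
    have hm' := hm
    rw [Matrix.det_fin_two, hc, mul_zero, sub_zero] at hm'
    have ha : m 0 0 ≠ 0 := left_ne_zero_of_mul_eq_one hm'
    refine ⟨Units.mk0 _ ha, (m 0 0)⁻¹ * m 0 1, ?_⟩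
    refine Subtype.ext ?_
    show m = !![m 0 0, 0; 0, (m 0 0)⁻¹] * !![1, (m 0 0)⁻¹ * m 0 1; 0, 1]
    rw [Matrix.mul_fin_two]
    ext i j
    fin_cases i <;> fin_cases j
    · simp
    · simp [ha]
    · simp [hc]
    · simp
      exact eq_inv_of_mul_eq_one_right hm'
  · right
    have hm' := hm
    rw [Matrix.det_fin_two] at hm'
    refine ⟨m 0 0 * (m 1 0)⁻¹, Units.mk0 (-(m 1 0)⁻¹) (neg_ne_zero.2 (inv_ne_zero hc)), (m 1 0)⁻¹ * m 1 1, ?_⟩
    refine Subtype.ext ?_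
    show m = !![1, m 0 0 * (m 1 0)⁻¹; 0, 1] * !![-(m 1 0)⁻¹, 0; 0, (-(m 1 0)⁻¹)⁻¹] * !![0, 1; -1, 0] *
      !![1, (m 1 0)⁻¹ * m 1 1; 0, 1]
    simp only [Matrix.mul_fin_two]
    ext i j
    fin_cases i <;> fin_cases j
    · simp [hc]
    · simp [hc]
      field_simp
      linear_combination -hm'
    · simp [hc]
    · simp [hc]

/-- induction on `SL(2, F)` -/
theorem induct {P : SpecialLinearGroup (Fin 2) F → Prop} (hu : ∀ t, P (u t)) (hh : ∀ a, P (h a)) (hw : P w)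
    (hm : ∀ a b, P a → P b → P (a * b)) (g : SpecialLinearGroup (Fin 2) F) : P g := by
  rcases bruhat g with ⟨a, t, rfl⟩ | ⟨s, a, t, rfl⟩
  · exact hm _ _ (hh a) (hu t)
  · exact hm _ _ (hm _ _ (hm _ _ (hu s) (hh a)) hw) (hu t)

end Cfsg.Agent.H943.SL2Rel
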