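import Mathlib
import Cfsg.Agent.H944.RootVals

/-!
# Root values and the dimensions of the eigenspaces (helper943)

`exists_vals_dim` : the vector of `H944.RootVals.exists_vals` relative to a given primitive root of unity, with the
dimensions of the eigenspaces over the algebraic closure.
-/

set_option autoImplicit false
set_option linter.unusedSectionVars false

namespace Cfsg.Agent.H943.TorDim

open Cfsg.Agent.ChevalleyStructure.CoxeterGeom Cfsg.Agent.Tits.Roots
  Cfsg.Agent.Nodes.Reps Cfsg.Agent.Nodes.BNOf Cfsg.Agent.Nodes.RGDChev Cfsg.Agent.KFacts.RgdChevCoord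
open Cfsg.Lie Cfsg.Agent.ChevalleyStructure Cfsg.Agent.ChevalleyStructure.Elts
  Cfsg.Agent.ChevalleyStructure.RootVecTab
  Cfsg.Agent.ChevalleyStructure.CoxeterGeomTypes
  Cfsg.Agent.BpExc.TorAll Cfsg.Agent.BpExc.TorChev
open Cfsg.Agent.GpExc.Field (glMap emb coe_emb coe_glMap emb_injective)
open Cfsg.Agent.H944.RootVals

universe u

theorem finrank_ker_conj_diag {ι K : Type*} [Fintype ι] [DecidableEq ι] [Field K] [DecidableEq K] (P : GL ι K)
    (d : ι → K) {A : Matrix ι ι K}
    (hA : (P : Matrix ι ι K) * A * ((P⁻¹ : GL ι K) : Matrix ι ι K) = Matrix.diagonal d) (μ : K) :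
    Module.finrank K (LinearMap.ker (Matrix.toLin' A - μ • (1 : Module.End K (ι → K)))) =
      (Finset.univ.filter fun i => d i = μ).card := by
  have e1 : Matrix.toLin' A - μ • (1 : Module.End K (ι → K)) = Matrix.toLin' (A - Matrix.scalar ι μ) := by
    rw [map_sub]
    congr 1
    ext i j
    simp [Matrix.toLin'_apply, Matrix.scalar_apply, Matrix.mulVec_diagonal]
  have e2 : (A - Matrix.scalar ι μ).rank = Fintype.card {i // d i - μ ≠ 0} := by
    rw [← Matrix.rank_diagonal]
    have h1 : Matrix.diagonal (fun i => d i - μ) = (P : Matrix ι ι K) * (A - Matrix.scalar ι μ) *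
        ((P⁻¹ : GL ι K) : Matrix ι ι K) := by
      rw [Matrix.mul_sub, Matrix.sub_mul, hA]
      have h2 : (P : Matrix ι ι K) * Matrix.scalar ι μ * ((P⁻¹ : GL ι K) : Matrix ι ι K) = Matrix.diagonal fun _ => μ := by
        have h3 : (P : Matrix ι ι K) * Matrix.scalar ι μ = Matrix.scalar ι μ * (P : Matrix ι ι K) := by
          exact ((Matrix.scalar_commute μ (fun r => mul_comm _ _) _)).symm.eq
        rw [h3, Matrix.mul_assoc, ← Units.val_mul, mul_inv_cancel, Units.val_one, mul_one]
        rfl
      rw [h2, Matrix.diagonal_sub]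
    rw [h1]
    have hP : IsUnit ((P : Matrix ι ι K)).det := (Matrix.isUnit_iff_isUnit_det _).1 P.isUnit
    have hP' : IsUnit (((P⁻¹ : GL ι K) : Matrix ι ι K)).det := (Matrix.isUnit_iff_isUnit_det _).1 (P⁻¹).isUnit
    rw [Matrix.rank_mul_eq_left_of_isUnit_det _ _ hP', Matrix.rank_mul_eq_right_of_isUnit_det _ _ hP]
  have e3 : (A - Matrix.scalar ι μ).rank + Module.finrank K (LinearMap.ker (Matrix.toLin' (A - Matrix.scalar ι μ))) =
      Fintype.card ι := by
    have := LinearMap.finrank_range_add_finrank_ker (Matrix.toLin' (A - Matrix.scalar ι μ))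
    rw [Module.finrank_fintype_fun_eq_card] at this
    rw [← this]
    rfl
  rw [e1]
  have e4 : Fintype.card {i // d i - μ ≠ 0} = (Finset.univ.filter fun i => ¬ d i = μ).card := by
    rw [Fintype.card_subtype]
    congr 1
    ext i
    simp [sub_eq_zero]
  have e5 := Finset.card_filter_add_card_filter_not (s := (Finset.univ : Finset ι)) (fun i => d i = μ)
  rw [Finset.card_univ] at e5
  omega

theorem card_filter_eq_count {ι K : Type*} [Fintype ι] [DecidableEq K] (d : ι → K) (μ : K) :
    (Finset.univ.filter fun i => d i = μ).card = ((Finset.univ : Finset ι).val.map d).count μ := by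
  rw [Multiset.count_map]
  show (Multiset.filter (fun i => d i = μ) Finset.univ.val).card = _
  congr 1
  exact Multiset.filter_congr fun i _ => eq_comm

theorem univ_elim {m : ℕ} {β K : Type*} [Fintype β] [Field K] (f : β → K) :
    (Finset.univ : Finset (Fin m ⊕ β)).val.map (Sum.elim (fun _ => (1 : K)) f) =
      Multiset.replicate m (1 : K) + (Finset.univ : Finset β).val.map f := by
  rw [← Finset.univ_disjSum_univ, Finset.val_disjSum, Multiset.disjSum, Multiset.map_add, Multiset.map_map,
    Multiset.map_map]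
  congr 1
  have : (Sum.elim (fun _ : Fin m => (1 : K)) f ∘ Sum.inl) = fun _ => (1 : K) := rfl
  rw [this, Multiset.map_const']
  congr 1
  exact Finset.card_fin m

variable {D : ChevalleyDatum} {l : ℕ} {M : CoxeterMatrix (Fin l)} (hp : IsType D l M)

include hp in
/-- **Root values of an element of order prime to `p`, with the dimensions of the eigenspaces.** -/
theorem exists_vals_dim (p : ℕ) [Fact p.Prime] {F : Type u} [Field F] [Finite F] [CharP F p] {x : ↥(D.group F)} {N : ℕ}
    (hN0 : N ≠ 0) (hN : N.Coprime p) (hx : x ^ N = 1) {ζ : AlgebraicClosure F} (hζ : IsPrimitiveRoot ζ N)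
    [DecidableEq (AlgebraicClosure F)] :
    ∃ v : Fin l → ZMod N, Vals (l := l) x N v ∧ ∀ μ : AlgebraicClosure F,
      Module.finrank (AlgebraicClosure F) (LinearMap.ker (Matrix.toLin' ((((x : ↥(D.group F)) : GL D.Idx F) :
        Matrix D.Idx D.Idx F).map (algebraMap F (AlgebraicClosure F))) - μ • (1 : Module.End (AlgebraicClosure F)
          (D.Idx → AlgebraicClosure F)))) =
        (Multiset.replicate D.rank (1 : AlgebraicClosure F) + (ms D l v).map (fun b => ζ ^ b.val)).count μ := by
  classical
  have : NeZero N := ⟨hN0⟩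
  have : Fintype F := Fintype.ofFinite F
  let k := AlgebraicClosure F
  have hkch : CharP k p := charP_of_injective_algebraMap (algebraMap F k).injective p
  have hk' : HAlg p k := hAlg_closure p F
  set f : F →+* k := algebraMap F k with hf
  set x' : ↥(D.group k) := emb hp.inList f x with hx'
  have hxN : x' ^ N = 1 := by rw [hx', ← map_pow, hx, map_one]
  obtain ⟨g, hg⟩ := Cfsg.Agent.H944.TorAnyChev.exists_conj_mem_TT hp p hk' hN0 hN hxN
  set t := g * x' * g⁻¹ with ht
  obtain ⟨c, hc⟩ := TT_diag hp hg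
  have htN : t ^ N = 1 := by rw [ht, conj_pow, hxN, mul_one, mul_inv_cancel]
  -- the powers of `t`
  have hpow : ∀ d : ℕ, (((t ^ d : ↥(D.group k)) : GL D.Idx k) : Matrix D.Idx D.Idx k) =
      Matrix.diagonal (Sum.elim (fun _ => (1 : k)) (fun s : Fin D.nroots =>
        ((∏ i, c i ^ (vec D l s i) : kˣ) : k) ^ d)) := by
    intro d
    rw [Subgroup.coe_pow, Units.val_pow_eq_pow_val, hc, Matrix.diagonal_pow]
    congr 1
    funext i
    rcases i with i | i
    · simp
    · simp
  -- the value on the simple roots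
  have hsimple : ∀ j : Fin l, ∃ s : Fin D.nroots, (∏ i, c i ^ (vec D l s i) : kˣ) = c j := by
    intro j
    have hlt := NPerm.simple_lt hp.inList (lt_rank hp j)
    refine ⟨⟨D.simple j, hlt⟩, ?_⟩
    show (∏ i, c i ^ (vec D l (D.simple j) i) : kˣ) = c j
    rw [vec_simple hp j, Finset.prod_eq_single j]
    · rw [sr_self, zpow_one]
    · intro i _ hij
      rw [sr_ne hij, zpow_zero]
    · intro h
      exact absurd (Finset.mem_univ j) h
  have hcN : ∀ d : ℕ, t ^ d = 1 ↔ ∀ j, c j ^ d = 1 := by
    intro d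
    constructor
    · intro h1 j
      obtain ⟨s, hs⟩ := hsimple j
      have h2 := hpow d
      rw [h1, Subgroup.coe_one, Units.val_one] at h2
      have h3 := congrFun (congrFun h2 (Sum.inr s)) (Sum.inr s)
      rw [Matrix.one_apply_eq, Matrix.diagonal_apply_eq, Sum.elim_inr, hs, ← Units.val_pow_eq_pow_val] at h3
      exact Units.ext h3.symm
    · intro h1
      apply Subtype.ext
      apply Units.ext
      rw [hpow, Subgroup.coe_one, Units.val_one, ← Matrix.diagonal_one]
      congr 1
      funext i
      rcases i with i | i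
      · rfl
      · rw [Sum.elim_inr, ← Units.val_pow_eq_pow_val, ← Finset.prod_pow]
        have : ∀ j ∈ (Finset.univ : Finset (Fin l)), (c j ^ vec D l i j) ^ d = 1 := by
          intro j _
          rw [← zpow_natCast, ← zpow_mul, mul_comm, zpow_mul, zpow_natCast, h1, one_zpow]
        rw [Finset.prod_congr rfl this, Finset.prod_const_one, Units.val_one]
  have hcN' : ∀ j, c j ^ N = 1 := (hcN N).1 htN
  -- a primitive root of unity
  have hNk : ((N : ℕ) : k) ≠ 0 := by
    intro h0
    have h1 : p ∣ N := (CharP.cast_eq_zero_iff k p N).1 h0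
    have h2 : p ∣ 1 := by
      rw [← hN]
      exact Nat.dvd_gcd h1 dvd_rfl
    exact (Fact.out : p.Prime).one_lt.ne' (Nat.dvd_one.1 h2)
  have : NeZero ((N : ℕ) : k) := ⟨hNk⟩
  have hζu : IsPrimitiveRoot (hζ.toRootsOfUnity : kˣ) N := by
    rw [IsPrimitiveRoot.coe_units_iff.symm]
    exact hζ
  set z : kˣ := (hζ.toRootsOfUnity : kˣ) with hz
  have hex : ∀ j, ∃ a : ℕ, z ^ a = c j := by
    intro j
    have h1 : ((c j : kˣ) : k) ^ N = 1 := by
      rw [← Units.val_pow_eq_pow_val, hcN' j, Units.val_one]
    obtain ⟨a, -, ha⟩ := hζ.eq_pow_of_pow_eq_one h1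
    refine ⟨a, Units.ext ?_⟩
    rw [Units.val_pow_eq_pow_val, ← ha]
    rfl
  choose a ha using hex
  let v : Fin l → ZMod N := fun j => (a j : ZMod N)
  -- the values
  let pw : ZMod N → k := fun b => ((z ^ b.val : kˣ) : k)
  have hzpow : ∀ m : ℤ, z ^ m = z ^ ((m : ZMod N).val) := by
    intro m
    rw [← zpow_natCast, ZMod.val_intCast]
    have h1 : z ^ (N : ℤ) = 1 := by rw [zpow_natCast]; exact hζu.pow_eq_one
    conv_lhs => rw [← Int.emod_add_mul_ediv m N]
    rw [zpow_add, zpow_mul, h1, one_zpow, mul_one]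
  have hpw_inj : Function.Injective pw := by
    intro b b' h
    have h1 : z ^ b.val = z ^ b'.val := Units.ext h
    exact ZMod.val_injective N (hζu.pow_inj (ZMod.val_lt b) (ZMod.val_lt b') h1)
  have hval : ∀ s : Fin D.nroots, ((∏ i, c i ^ (vec D l s i) : kˣ) : k) =
      pw (∑ i, (vec D l s i : ZMod N) * v i) := by
    intro s
    have h1 : ∏ i, c i ^ (vec D l s i) = z ^ (∑ i, vec D l s i * (a i : ℤ)) := by
      have h2 : ∀ S : Finset (Fin l), ∏ i ∈ S, c i ^ (vec D l s i) = z ^ (∑ i ∈ S, vec D l s i * (a i : ℤ)) := by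
        intro S
        induction S using Finset.induction_on with
        | empty => simp
        | insert b S hb ih =>
          rw [Finset.prod_insert hb, Finset.sum_insert hb, zpow_add, ih, ← ha b, mul_comm (vec D l s b), zpow_mul,
            zpow_natCast]
      exact h2 _
    rw [h1, hzpow]
    congr 3
    push_cast
    rfl
  have hpwmul : ∀ (m : ℕ) (b : ZMod N), pw b ^ m = pw ((m : ZMod N) * b) := by
    intro m b
    show (((z ^ b.val : kˣ) : k)) ^ m = ((z ^ ((m : ZMod N) * b).val : kˣ) : k)
    rw [← Units.val_pow_eq_pow_val, ← pow_mul]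
    congr 1
    have h1 := hzpow ((b.val * m : ℕ) : ℤ)
    rw [zpow_natCast] at h1
    rw [h1]
    congr 2
    push_cast
    rw [ZMod.natCast_zmod_val, mul_comm]
  -- multisets
  have hms : ∀ m : ℕ, (Finset.univ : Finset (Fin D.nroots)).val.map
      (fun s : Fin D.nroots => ((∏ i, c i ^ (vec D l s i) : kˣ) : k) ^ m) = ((ms D l v).map (fun b => (m : ZMod N) * b)).map pw := by
    intro m
    unfold ms
    rw [Multiset.map_map, Multiset.map_map]
    refine Multiset.map_congr rfl fun s _ => ?_
    simp only [Function.comp_apply]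
    rw [hval, hpwmul]
  have hms1 : (Finset.univ : Finset (Fin D.nroots)).val.map
      (fun s : Fin D.nroots => ((∏ i, c i ^ (vec D l s i) : kˣ) : k)) = (ms D l v).map pw := by
    unfold ms
    rw [Multiset.map_map]
    refine Multiset.map_congr rfl fun s _ => ?_
    exact hval s
  -- the characteristic polynomial of `t`
  have hchart : ∀ d : ℕ, (((t ^ d : ↥(D.group k)) : GL D.Idx k) : Matrix D.Idx D.Idx k).charpoly =
      ((((x ^ d : ↥(D.group F)) : GL D.Idx F) : Matrix D.Idx D.Idx F).charpoly).map f := by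
    intro d
    have h1 : t ^ d = g * x' ^ d * g⁻¹ := by rw [ht, conj_pow]
    rw [h1, Subgroup.coe_mul, Subgroup.coe_mul, Subgroup.coe_inv, Units.val_mul, Units.val_mul,
      Matrix.coe_units_inv]
    have h2 := Matrix.charpoly_units_conj ((g : GL D.Idx k)) (((x' ^ d : ↥(D.group k)) : GL D.Idx k) : Matrix D.Idx D.Idx k)
    rw [h2, ← Matrix.charpoly_map]
    congr 1
    rw [hx', ← map_pow, coe_emb, coe_glMap]
  refine ⟨v, ⟨?_, ?_, ?_⟩, ?_⟩
  · intro d
    have h1 : x ^ d = 1 ↔ t ^ d = 1 := by
      have h2 : t ^ d = g * x' ^ d * g⁻¹ := by rw [ht, conj_pow]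
      rw [h2, conj_eq_one_iff, hx', ← map_pow]
      constructor
      · intro h; rw [h, map_one]
      · intro h
        exact emb_injective hp.inList f (by rw [h, map_one])
    rw [h1, hcN]
    refine forall_congr' fun j => ?_
    have h3 : c j ^ d = z ^ (((d : ZMod N) * v j).val) := by
      rw [← ha j, ← pow_mul]
      have h4 := hzpow ((a j * d : ℕ) : ℤ)
      rw [zpow_natCast] at h4
      rw [h4]
      congr 2
      show (((a j * d : ℕ) : ℤ) : ZMod N) = (d : ZMod N) * (a j : ZMod N)
      push_cast
      rw [mul_comm]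
    rw [h3]
    constructor
    · intro h; rw [h, ZMod.val_zero, pow_zero]
    · intro h
      have h5 : z ^ (((d : ZMod N) * v j).val) = z ^ (0 : ZMod N).val := by rw [h, ZMod.val_zero, pow_zero]
      have h6 := hζu.pow_inj (ZMod.val_lt _) (ZMod.val_lt _) h5
      exact ZMod.val_injective N h6
  · -- Frobenius
    have hq : Nat.card F = Fintype.card F := Nat.card_eq_fintype_card
    obtain ⟨⟨m, hm⟩, hp', hcard⟩ := FiniteField.card F p
    simp only [PNat.mk_coe] at hcard
    let φ : k →+* k := iterateFrobenius k p m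
    have hφf : ∀ b : F, φ (f b) = f b := by
      intro b
      show iterateFrobenius k p m (f b) = f b
      rw [iterateFrobenius_def, ← map_pow, ← hcard, FiniteField.pow_card]
    have h1 := hchart 1
    rw [pow_one, pow_one] at h1
    have h2 : ((((t : ↥(D.group k)) : GL D.Idx k) : Matrix D.Idx D.Idx k).map φ).charpoly =
        (((t : ↥(D.group k)) : GL D.Idx k) : Matrix D.Idx D.Idx k).charpoly := by
      rw [Matrix.charpoly_map, h1, Polynomial.map_map]
      congr 1
      ext b
      exact hφf b
    rw [hc, Matrix.diagonal_map (map_zero φ)] at h2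
    have h3 := diag_multiset h2
    have h4 : (φ ∘ Sum.elim (fun _ : Fin D.rank => (1 : k)) (fun s : Fin D.nroots => ((∏ i, c i ^ (vec D l s i) : kˣ) : k))) =
        Sum.elim (fun _ : Fin D.rank => (1 : k)) (fun s : Fin D.nroots => ((∏ i, c i ^ (vec D l s i) : kˣ) : k) ^ (Nat.card F)) := by
      funext i
      rcases i with i | i
      · simp
      · simp only [Function.comp_apply, Sum.elim_inr]
        show iterateFrobenius k p m _ = _
        rw [iterateFrobenius_def, hq, hcard]
    have h3' : (Finset.univ : Finset (Fin D.rank ⊕ Fin D.nroots)).val.map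
        (φ ∘ Sum.elim (fun _ => (1 : k)) (fun s : Fin D.nroots => ((∏ i, c i ^ (vec D l s i) : kˣ) : k))) =
        (Finset.univ : Finset (Fin D.rank ⊕ Fin D.nroots)).val.map
        (Sum.elim (fun _ => (1 : k)) (fun s : Fin D.nroots => ((∏ i, c i ^ (vec D l s i) : kˣ) : k))) := h3
    rw [h4] at h3'
    have h5 := cancel_inl h3'
    rw [hms1, hms] at h5
    exact (Multiset.map_injective hpw_inj h5).symm
  · -- conjugation
    rintro b ⟨g', hg'⟩
    have h1 := hchart 1
    rw [pow_one, pow_one] at h1
    have h2 : (((t ^ b : ↥(D.group k)) : GL D.Idx k) : Matrix D.Idx D.Idx k).charpoly =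
        (((t : ↥(D.group k)) : GL D.Idx k) : Matrix D.Idx D.Idx k).charpoly := by
      rw [hchart, h1, ← hg', Subgroup.coe_mul, Subgroup.coe_mul, Subgroup.coe_inv, Units.val_mul, Units.val_mul,
        Matrix.coe_units_inv, Matrix.charpoly_units_conj]
    rw [hpow, hc] at h2
    have h3 := cancel_inl (diag_multiset h2)
    rw [hms1, hms] at h3
    exact (Multiset.map_injective hpw_inj h3).symm
  · -- the dimensions of the eigenspaces
    intro μ
    have h1 : ((g : GL D.Idx k) : Matrix D.Idx D.Idx k) * (((x : ↥(D.group F)) : GL D.Idx F) :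
        Matrix D.Idx D.Idx F).map (algebraMap F (AlgebraicClosure F)) * ((((g : GL D.Idx k))⁻¹ : GL D.Idx k) : Matrix D.Idx D.Idx k) =
        Matrix.diagonal (Sum.elim (fun _ => (1 : k)) (fun s : Fin D.nroots =>
        ((∏ i, c i ^ (vec D l s i) : kˣ) : k))) := by
      rw [← hc, ht, Subgroup.coe_mul, Subgroup.coe_mul, Subgroup.coe_inv, Units.val_mul, Units.val_mul, hx', coe_emb,
        coe_glMap]
    rw [finrank_ker_conj_diag _ _ h1 μ, card_filter_eq_count, univ_elim, hms1]
    have hpw : pw = fun b => ζ ^ b.val := by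
      funext b
      show ((z ^ b.val : kˣ) : k) = ζ ^ b.val
      rw [Units.val_pow_eq_pow_val]
      rfl
    rw [hpw]

end Cfsg.Agent.H943.TorDim
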