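import Mathlib
import Cfsg.Agent.H943.SL2Rel
import Cfsg.Agent.H943.TorDim

/-!
# Subgroups isomorphic to `PSL(2, F)` of a Chevalley group as representations (helper943)
-/

set_option autoImplicit false

namespace Cfsg.Agent.H943.PSLHom

open Matrix Cfsg.Agent.H943.SL2Rel

variable {F : Type*} [Field F]

/-- pull back to `SL(2, F)` -/
theorem exists_hom {G : Type*} [Group G] (H : Subgroup G) (e : ↥H ≃* ProjectiveSpecialLinearGroup (Fin 2) F) :
    ∃ φ : SpecialLinearGroup (Fin 2) F →* G,
      ∀ g, φ g = 1 ↔ g ∈ Subgroup.center (SpecialLinearGroup (Fin 2) F) := by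
  refine ⟨(H.subtype.comp e.symm.toMonoidHom).comp (QuotientGroup.mk' (Subgroup.center (SpecialLinearGroup (Fin 2) F))),
    fun g => ?_⟩
  show ((e.symm (QuotientGroup.mk' (Subgroup.center (SpecialLinearGroup (Fin 2) F)) g) : ↥H) : G) = 1 ↔ _
  rw [OneMemClass.coe_eq_one, map_eq_one_iff _ e.symm.injective]
  exact QuotientGroup.eq_one_iff g

theorem h_mem_center {a : Fˣ} : h a ∈ Subgroup.center (SpecialLinearGroup (Fin 2) F) ↔ a ^ 2 = 1 := by
  rw [Matrix.SpecialLinearGroup.mem_center_iff]
  constructor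
  · rintro ⟨r, -, hr⟩
    have h0 := congrFun (congrFun hr 0) 0
    have h1 := congrFun (congrFun hr 1) 1
    have e0 : r = (a : F) := by simpa [h, Matrix.scalar_apply] using h0
    have e1 : r = (a : F)⁻¹ := by simpa [h, Matrix.scalar_apply] using h1
    apply Units.ext
    rw [Units.val_pow_eq_pow_val, Units.val_one, pow_two]
    have ha : (a : F) ≠ 0 := a.ne_zero
    nth_rw 1 [← e0]
    rw [e1, inv_mul_cancel₀ ha]
  · intro ha
    have ha' : (a : F) * a = 1 := by
      have := congrArg Units.val ha
      rwa [Units.val_pow_eq_pow_val, Units.val_one, pow_two] at this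
    refine ⟨(a : F), ?_, ?_⟩
    · rw [Fintype.card_fin, pow_two]
      exact ha'
    · have hi : (a : F)⁻¹ = a := inv_eq_of_mul_eq_one_left ha'
      ext i j
      fin_cases i <;> fin_cases j <;> simp [h, Matrix.scalar_apply, hi]

theorem w_not_mem_center : (w : SpecialLinearGroup (Fin 2) F) ∉ Subgroup.center (SpecialLinearGroup (Fin 2) F) := by
  rw [Matrix.SpecialLinearGroup.mem_center_iff]
  rintro ⟨r, -, hr⟩
  have h0 := congrFun (congrFun hr 0) 1
  simp [w, Matrix.scalar_apply] at h0

open Cfsg.Lie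

/-- the representation on the vectors over an extension field -/
noncomputable def rep {D : ChevalleyDatum} {K k : Type*} [Field K] [Field k] (f : K →+* k) {G : Type*} [Group G]
    (φ : G →* ↥(D.group K)) : Representation k G (D.Idx → k) where
  toFun g := Matrix.toLin' ((((φ g : ↥(D.group K)) : GL D.Idx K) : Matrix D.Idx D.Idx K).map f)
  map_one' := by
    rw [map_one, Subgroup.coe_one, Units.val_one, Matrix.map_one f (map_zero f) (map_one f), Matrix.toLin'_one]
    rfl
  map_mul' a b := by
    rw [map_mul, Subgroup.coe_mul, Units.val_mul, Matrix.map_mul, Matrix.toLin'_mul]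
    rfl

theorem rep_eq_one {D : ChevalleyDatum} {K k : Type*} [Field K] [Field k] (f : K →+* k) {G : Type*} [Group G]
    (φ : G →* ↥(D.group K)) {g : G} (h : φ g = 1) : rep f φ g = 1 := by
  show Matrix.toLin' ((((φ g : ↥(D.group K)) : GL D.Idx K) : Matrix D.Idx D.Idx K).map f) = 1
  rw [h, Subgroup.coe_one, Units.val_one, Matrix.map_one f (map_zero f) (map_one f), Matrix.toLin'_one]
  rfl

end Cfsg.Agent.H943.PSLHom
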