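import Mathlib
import Cfsg.Agent.H943.TracePow

/-!
# Power sums of the roots of a polynomial (helper943)
-/

set_option autoImplicit false

namespace Cfsg.Agent.H943.PowSum

open Polynomial

variable {k : Type*} [Field k]

/-- the sum of the `j`-th powers of the roots -/
noncomputable def S (j : ℕ) (P : k[X]) : k := (P.roots.map (fun x => x ^ j)).sum

theorem S_mul (j : ℕ) {P Q : k[X]} (hP : P ≠ 0) (hQ : Q ≠ 0) : S j (P * Q) = S j P + S j Q := by
  rw [S, S, S, roots_mul (mul_ne_zero hP hQ), Multiset.map_add, Multiset.sum_add]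

theorem S_pow (j : ℕ) (P : k[X]) (n : ℕ) : S j (P ^ n) = (n : k) * S j P := by
  rw [S, S, roots_pow, Multiset.map_nsmul, Multiset.sum_nsmul, nsmul_eq_mul]

theorem S_X_sub_one (j : ℕ) : S j (X - 1 : k[X]) = 1 := by
  rw [S, show (X - 1 : k[X]) = X - C 1 by rw [map_one], roots_X_sub_C]
  simp

theorem S_X_pow_sub_one {n : ℕ} (j : ℕ) {z : k} (hz : IsPrimitiveRoot z n) (hn : n ≠ 0) :
    S j (X ^ n - 1 : k[X]) = if n ∣ j then (n : k) else 0 := by
  have h1 : (X ^ n - 1 : k[X]).roots = (Multiset.range n).map (z ^ ·) := by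
    have h2 := hz.nthRoots_eq (α := 1) (a := 1) (one_pow n)
    rw [nthRoots, map_one] at h2
    rw [h2]
    simp
  rw [S, h1, Multiset.map_map]
  have h3 : (Multiset.map ((fun x => x ^ j) ∘ fun x => z ^ x) (Multiset.range n)).sum =
      ∑ i ∈ Finset.range n, (z ^ j) ^ i := by
    rw [Finset.sum]
    congr 1
    refine Multiset.map_congr rfl fun i _ => ?_
    show (z ^ i) ^ j = (z ^ j) ^ i
    rw [← pow_mul, ← pow_mul, mul_comm]
  rw [h3]
  split_ifs with h
  · rw [(hz.pow_eq_one_iff_dvd j).2 h]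
    simp
  · have h4 : z ^ j ≠ 1 := fun h5 => h ((hz.pow_eq_one_iff_dvd j).1 h5)
    rw [geom_sum_eq h4, ← pow_mul, mul_comm, pow_mul, hz.pow_eq_one, one_pow, sub_self, zero_div]

theorem X_sub_one_ne_zero : (X - 1 : k[X]) ≠ 0 := by
  rw [show (X - 1 : k[X]) = X - C 1 by rw [map_one]]
  exact X_sub_C_ne_zero 1

theorem X_pow_sub_one_ne_zero {n : ℕ} (hn : n ≠ 0) : (X ^ n - 1 : k[X]) ≠ 0 := by
  rw [show (1 : k[X]) = C 1 by rw [map_one]]
  exact X_pow_sub_C_ne_zero (Nat.pos_of_ne_zero hn) 1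

/-! ### multiplicities -/

theorem rootMultiplicity_X_pow_sub_one {n : ℕ} (hn : (n : k) ≠ 0) {z : k} (hz : z ^ n = 1) :
    rootMultiplicity z (X ^ n - 1 : k[X]) = 1 := by
  have hn0 : n ≠ 0 := fun h => hn (by rw [h, Nat.cast_zero])
  have h1 : (X ^ n - 1 : k[X]).Separable := by
    rw [show (1 : k[X]) = C 1 by rw [map_one]]
    exact separable_X_pow_sub_C 1 hn one_ne_zero
  refine le_antisymm (rootMultiplicity_le_one_of_separable h1 z) ?_
  rw [Nat.one_le_iff_ne_zero, ne_eq, rootMultiplicity_eq_zero_iff]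
  intro h
  exact X_pow_sub_one_ne_zero hn0 (h (by simp [IsRoot, hz]))

theorem rootMultiplicity_X_sub_one {z : k} (hz : z ≠ 1) : rootMultiplicity z (X - 1 : k[X]) = 0 := by
  rw [rootMultiplicity_eq_zero_iff]
  intro h
  exact absurd (by simpa [IsRoot, sub_eq_zero] using h) hz

theorem rootMultiplicity_pow' (z : k) {P : k[X]} (hP : P ≠ 0) (n : ℕ) :
    rootMultiplicity z (P ^ n) = n * rootMultiplicity z P := by
  classical
  rw [← count_roots, ← count_roots, roots_pow, Multiset.count_nsmul]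

end Cfsg.Agent.H943.PowSum
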