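import Mathlib
import Cfsg.Agent.H943.PowSum
import Cfsg.Agent.H943.PSLHom
import Cfsg.Prelude
import Cfsg.Agent.H646.LTwoNineteen

/-!
# `PSL(2, 19)` is not a subgroup of `²E₆(2)` (S5741 N7, helper943): the assembly
-/

set_option autoImplicit false
set_option linter.unusedSectionVars false

namespace Cfsg.Agent.H943.L19

open Cfsg Cfsg.Lie Polynomial Module Cfsg.Agent.H943.PowSum
open Matrix (SpecialLinearGroup)

abbrev G : Type := SpecialLinearGroup (Fin 2) (ZMod 19)

instance fact19 : Fact (Nat.Prime 19) := ⟨by norm_num⟩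

/-! ### power sums -/

section

variable {k : Type*} [Field k] [IsAlgClosed k] [CharP k 2]

theorem natCast_ne {n : ℕ} (hn : n % 2 = 1) : (n : k) ≠ 0 := by
  rw [Ne, CharP.cast_eq_zero_iff k 2]
  omega

theorem exists_prim {n : ℕ} (hn : n % 2 = 1) : ∃ z : k, IsPrimitiveRoot z n := by
  have : NeZero ((n : ℕ) : k) := ⟨natCast_ne hn⟩
  exact HasEnoughRootsOfUnity.exists_primitiveRoot k n

theorem two0 : (2 : k) = 0 := by
  have := CharP.cast_eq_zero k 2
  exact_mod_cast this

theorem S_five {P : k[X]} (hP : P ≠ 0) (h : P * (X - 1) ^ 15 = (X - 1) ^ 18 * (X ^ 5 - 1) ^ 15) : S 1 P = 1 := by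
  obtain ⟨z, hz⟩ := exists_prim (k := k) (n := 5) (by norm_num)
  have h1 := congrArg (S 1) h
  rw [S_mul 1 hP (pow_ne_zero _ X_sub_one_ne_zero),
    S_mul 1 (pow_ne_zero _ X_sub_one_ne_zero) (pow_ne_zero _ (X_pow_sub_one_ne_zero (by norm_num))),
    S_pow, S_pow, S_pow, S_X_sub_one, S_X_pow_sub_one 1 hz (by norm_num), if_neg (by norm_num)] at h1
  push_cast at h1
  linear_combination h1 + two0 (k := k)

theorem S_nine {P : k[X]} (hP : P ≠ 0) {a b : ℕ}
    (h : P * (X - 1) ^ b * (X ^ 3 - 1) ^ 9 = (X - 1) ^ a * (X ^ 3 - 1) ^ b * (X ^ 9 - 1) ^ 9) :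
    S 1 P = a - b ∧ S 3 P = a + 2 * b - 27 := by
  obtain ⟨z, hz⟩ := exists_prim (k := k) (n := 3) (by norm_num)
  obtain ⟨y, hy⟩ := exists_prim (k := k) (n := 9) (by norm_num)
  have e3 : (X ^ 3 - 1 : k[X]) ≠ 0 := X_pow_sub_one_ne_zero (by norm_num)
  have e9 : (X ^ 9 - 1 : k[X]) ≠ 0 := X_pow_sub_one_ne_zero (by norm_num)
  have e1 : (X - 1 : k[X]) ≠ 0 := X_sub_one_ne_zero
  constructor
  · have h1 := congrArg (S 1) h
    rw [S_mul 1 (mul_ne_zero hP (pow_ne_zero _ e1)) (pow_ne_zero _ e3), S_mul 1 hP (pow_ne_zero _ e1),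
      S_mul 1 (mul_ne_zero (pow_ne_zero _ e1) (pow_ne_zero _ e3)) (pow_ne_zero _ e9),
      S_mul 1 (pow_ne_zero _ e1) (pow_ne_zero _ e3), S_pow, S_pow, S_pow, S_pow, S_pow, S_X_sub_one,
      S_X_pow_sub_one 1 hz (by norm_num), S_X_pow_sub_one 1 hy (by norm_num), if_neg (by norm_num),
      if_neg (by norm_num)] at h1
    push_cast at h1
    linear_combination h1
  · have h1 := congrArg (S 3) h
    rw [S_mul 3 (mul_ne_zero hP (pow_ne_zero _ e1)) (pow_ne_zero _ e3), S_mul 3 hP (pow_ne_zero _ e1),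
      S_mul 3 (mul_ne_zero (pow_ne_zero _ e1) (pow_ne_zero _ e3)) (pow_ne_zero _ e9),
      S_mul 3 (pow_ne_zero _ e1) (pow_ne_zero _ e3), S_pow, S_pow, S_pow, S_pow, S_pow, S_X_sub_one,
      S_X_pow_sub_one 3 hz (by norm_num), S_X_pow_sub_one 3 hy (by norm_num), if_pos (by norm_num),
      if_neg (by norm_num)] at h1
    push_cast at h1
    linear_combination h1

theorem S_nineteen {P : k[X]} (hP : P ≠ 0) (h : P * (X - 1) ^ 4 = (X - 1) ^ 6 * (X ^ 19 - 1) ^ 4) : S 1 P = 0 := by
  obtain ⟨z, hz⟩ := exists_prim (k := k) (n := 19) (by norm_num)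
  have h1 := congrArg (S 1) h
  rw [S_mul 1 hP (pow_ne_zero _ X_sub_one_ne_zero),
    S_mul 1 (pow_ne_zero _ X_sub_one_ne_zero) (pow_ne_zero _ (X_pow_sub_one_ne_zero (by norm_num))),
    S_pow, S_pow, S_pow, S_X_sub_one, S_X_pow_sub_one 1 hz (by norm_num), if_neg (by norm_num)] at h1
  push_cast at h1
  linear_combination h1 + two0 (k := k)

theorem mult_nineteen {P : k[X]} (hP : P ≠ 0) (h : P * (X - 1) ^ 4 = (X - 1) ^ 6 * (X ^ 19 - 1) ^ 4)
    {z : k} (hz : z ^ 19 = 1) (hz1 : z ≠ 1) : rootMultiplicity z P = 4 := by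
  have e19 : (X ^ 19 - 1 : k[X]) ≠ 0 := X_pow_sub_one_ne_zero (by norm_num)
  have e1 : (X - 1 : k[X]) ≠ 0 := X_sub_one_ne_zero
  have h1 := congrArg (rootMultiplicity z) h
  rw [rootMultiplicity_mul (mul_ne_zero hP (pow_ne_zero _ e1)),
    rootMultiplicity_mul (mul_ne_zero (pow_ne_zero _ e1) (pow_ne_zero _ e19)),
    rootMultiplicity_pow' z e1, rootMultiplicity_pow' z e1, rootMultiplicity_pow' z e19,
    rootMultiplicity_X_sub_one hz1, rootMultiplicity_X_pow_sub_one (natCast_ne (by norm_num)) hz] at h1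
  omega

end

/-! ### the representation -/

/-- the eigenvalues of the elements of order 5, 9 and 19 -/
structure Spec {ι : Type*} [Fintype ι] [DecidableEq ι] {K : Type*} [Field K] (φ : G →* GL ι K) : Prop where
  card : Fintype.card ι = 78
  ker : ∀ g, φ g = 1 ↔ g = 1 ∨ g = -1
  five : ∀ g, orderOf (φ g) = 5 →
    ((φ g : GL ι K) : Matrix ι ι K).charpoly * (X - 1) ^ 15 = (X - 1) ^ 18 * (X ^ 5 - 1) ^ 15
  nine : ∀ g, orderOf (φ g) = 9 → ∃ a b : ℕ,
    (a = 14 ∧ b = 5 ∨ a = 10 ∧ b = 7 ∨ a = 8 ∧ b = 8) ∧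
    ((φ g : GL ι K) : Matrix ι ι K).charpoly * (X - 1) ^ b * (X ^ 3 - 1) ^ 9 =
      (X - 1) ^ a * (X ^ 3 - 1) ^ b * (X ^ 9 - 1) ^ 9
  nineteen : ∀ g, orderOf (φ g) = 19 →
    ((φ g : GL ι K) : Matrix ι ι K).charpoly * (X - 1) ^ 4 = (X - 1) ^ 6 * (X ^ 19 - 1) ^ 4

section

variable {ι : Type*} [Fintype ι] [DecidableEq ι] {K : Type*} [Field K] {k : Type*} [Field k] (f : K →+* k)
  (φ : G →* GL ι K)

/-- the representation on the vectors over an extension field -/
noncomputable def rep : Representation k G (ι → k) where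
  toFun g := Matrix.toLin' (((φ g : GL ι K) : Matrix ι ι K).map f)
  map_one' := by
    rw [map_one, Units.val_one, Matrix.map_one f (map_zero f) (map_one f), Matrix.toLin'_one]
    rfl
  map_mul' a b := by
    rw [map_mul, Units.val_mul, Matrix.map_mul, Matrix.toLin'_mul]
    rfl

theorem charpoly_rep (g : G) : LinearMap.charpoly (rep f φ g) =
    ((φ g : GL ι K) : Matrix ι ι K).charpoly.map f := by
  have h : rep f φ g = Matrix.toLin' (((φ g : GL ι K) : Matrix ι ι K).map f) := rfl
  have h2 : LinearMap.charpoly (Matrix.toLin' (((φ g : GL ι K) : Matrix ι ι K).map f)) =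
      (((φ g : GL ι K) : Matrix ι ι K).map f).charpoly := Matrix.charpoly_toLin' _
  rw [h, h2]
  exact Matrix.charpoly_map _ f

theorem rep_eq_one {g : G} (h : φ g = 1) : rep f φ g = 1 := by
  show Matrix.toLin' (((φ g : GL ι K) : Matrix ι ι K).map f) = 1
  rw [h, Units.val_one, Matrix.map_one f (map_zero f) (map_one f), Matrix.toLin'_one]
  rfl

variable {φ} (hS : Spec φ)

include hS in
theorem orderOf_eq {g : G} {n : ℕ} (hn : n % 2 = 1) (hg : orderOf g = n) : orderOf (φ g) = n := by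
  apply Nat.dvd_antisymm
  · rw [← hg]; exact orderOf_map_dvd φ g
  · rw [← hg]
    apply orderOf_dvd_of_pow_eq_one
    have h1 : φ (g ^ orderOf (φ g)) = 1 := by rw [map_pow, pow_orderOf_eq_one]
    rcases (hS.ker _).1 h1 with h2 | h2
    · exact h2
    · exfalso
      have h3 : (g ^ orderOf (φ g)) ^ n = 1 := by rw [← pow_mul, mul_comm, pow_mul, ← hg, pow_orderOf_eq_one, one_pow]
      rw [h2] at h3
      have h4 : (-1 : G) ^ n = -1 := by
        obtain ⟨m, rfl⟩ : ∃ m, n = 2 * m + 1 := ⟨n / 2, by omega⟩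
        rw [pow_succ, pow_mul, neg_one_sq, one_pow, one_mul]
      rw [h4] at h3
      exact absurd h3 (by decide +kernel)

variable [IsAlgClosed k] [CharP k 2]

theorem trace_S (g : G) (j : ℕ) : LinearMap.trace k _ (rep f φ (g ^ j)) = S j (LinearMap.charpoly (rep f φ g)) := by
  rw [map_pow, TracePow.trace_pow, S]

include hS in
theorem trace_five {g : G} (h5 : g ^ 5 = 1) (h1 : g ≠ 1) : LinearMap.trace k _ (rep f φ g) = 1 := by
  have hp5 : Fact (Nat.Prime 5) := ⟨by norm_num⟩
  have ho' : orderOf g = 5 := orderOf_eq_prime h5 h1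
  have ho : orderOf (φ g) = 5 := orderOf_eq hS (by norm_num) ho'
  have h2 := congrArg (Polynomial.map f) (hS.five g ho)
  simp only [Polynomial.map_mul, Polynomial.map_pow, Polynomial.map_sub, Polynomial.map_X, Polynomial.map_one] at h2
  rw [← charpoly_rep] at h2
  have h3 := S_five (LinearMap.charpoly_monic _).ne_zero h2
  rw [← trace_S, pow_one] at h3
  exact h3

include hS in
theorem trace_nine {g : G} (ho : orderOf g = 9) :
    (LinearMap.trace k _ (rep f φ g) = 0 ∨ LinearMap.trace k _ (rep f φ g) = 1) ∧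
      LinearMap.trace k _ (rep f φ (g ^ 3)) = 1 := by
  obtain ⟨a, b, hab, h2⟩ := hS.nine g (orderOf_eq hS (by norm_num) ho)
  have h2 := congrArg (Polynomial.map f) h2
  simp only [Polynomial.map_mul, Polynomial.map_pow, Polynomial.map_sub, Polynomial.map_X, Polynomial.map_one] at h2
  rw [← charpoly_rep] at h2
  obtain ⟨h3, h4⟩ := S_nine (LinearMap.charpoly_monic _).ne_zero h2
  rw [← trace_S, pow_one] at h3
  rw [← trace_S] at h4
  have h20 := two0 (k := k)
  rw [h3, h4]
  rcases hab with ⟨rfl, rfl⟩ | ⟨rfl, rfl⟩ | ⟨rfl, rfl⟩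
  · refine ⟨Or.inr ?_, ?_⟩ <;> push_cast
    · linear_combination 4 * h20
    · linear_combination -2 * h20
  · refine ⟨Or.inr ?_, ?_⟩ <;> push_cast
    · linear_combination h20
    · linear_combination -2 * h20
  · refine ⟨Or.inl ?_, ?_⟩ <;> push_cast
    · ring
    · linear_combination -2 * h20

include hS in
theorem trace_nineteen {g : G} (h19 : g ^ 19 = 1) (h1 : g ≠ 1) : LinearMap.trace k _ (rep f φ g) = 0 := by
  have ho' : orderOf g = 19 := orderOf_eq_prime h19 h1
  have ho : orderOf (φ g) = 19 := orderOf_eq hS (by norm_num) ho'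
  have h2 := congrArg (Polynomial.map f) (hS.nineteen g ho)
  simp only [Polynomial.map_mul, Polynomial.map_pow, Polynomial.map_sub, Polynomial.map_X, Polynomial.map_one] at h2
  rw [← charpoly_rep] at h2
  have h3 := S_nineteen (LinearMap.charpoly_monic _).ne_zero h2
  rw [← trace_S, pow_one] at h3
  exact h3

include hS in
theorem finrank_le {g : G} (h19 : g ^ 19 = 1) (h1 : g ≠ 1) {z : k} (hz : z ^ 19 = 1) (hz1 : z ≠ 1) :
    finrank k (Module.End.eigenspace (rep f φ g) z) ≤ 4 := by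
  have ho : orderOf (φ g) = 19 := orderOf_eq hS (by norm_num) (orderOf_eq_prime h19 h1)
  have h2 := congrArg (Polynomial.map f) (hS.nineteen g ho)
  simp only [Polynomial.map_mul, Polynomial.map_pow, Polynomial.map_sub, Polynomial.map_X, Polynomial.map_one] at h2
  rw [← charpoly_rep] at h2
  have h3 := mult_nineteen (LinearMap.charpoly_monic _).ne_zero h2 hz hz1
  have h4 := LinearMap.finrank_eigenspace_le (rep f φ g) z
  rwa [h3] at h4

end

/-- **There is no such representation.** -/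
theorem false_of_spec {ι : Type*} [Fintype ι] [DecidableEq ι] {K : Type*} [Field K] [CharP K 2] {φ : G →* GL ι K}
    (hS : Spec φ) : False := by
  have hch : CharP (AlgebraicClosure K) 2 := charP_of_injective_algebraMap (algebraMap K (AlgebraicClosure K)).injective 2
  set f : K →+* AlgebraicClosure K := algebraMap K (AlgebraicClosure K) with hf
  obtain ⟨z, hz⟩ := exists_prim (k := AlgebraicClosure K) (n := 19) (by norm_num)
  have hz1 : z ≠ 1 := hz.ne_one (by norm_num)
  have h1 := Cfsg.Agent.H646.LTN.five_le (k := AlgebraicClosure K) (V := ι → AlgebraicClosure K) (rep f φ)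
    (rep_eq_one f φ ((hS.ker _).2 (Or.inr rfl)))
    (by rw [Module.finrank_fintype_fun_eq_card, hS.card]; decide)
    (fun g h19 hg => trace_nineteen f hS h19 hg)
    (fun g h9 h3 => by
      have hp3 : Fact (Nat.Prime 3) := ⟨by norm_num⟩
      have ho : orderOf g = 9 := by
        have := orderOf_eq_prime_pow (x := g) (p := 3) (n := 1) (by rwa [pow_one]) (by rw [← h9]; norm_num)
        norm_num at this
        exact this
      obtain ⟨e1, e2⟩ := trace_nine f hS ho
      refine ⟨?_, e2⟩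
      rcases e1 with h | h <;> rw [h] <;> ring)
    (fun g h5 hg => trace_five f hS h5 hg) hz.pow_eq_one hz1
  have h2 := finrank_le f hS (g := Cfsg.Agent.H646.SLT.u 1) (by decide +kernel) (by decide +kernel) hz.pow_eq_one hz1
  omega

/-! ### from subgroups to representations -/

theorem map_mem_center {F : Type*} [Field F] (i : ZMod 19 →+* F) (g : G) :
    SpecialLinearGroup.map (n := Fin 2) i g ∈ Subgroup.center (SpecialLinearGroup (Fin 2) F) ↔ g = 1 ∨ g = -1 := by
  rw [Matrix.SpecialLinearGroup.mem_center_iff]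
  constructor
  · rintro ⟨r, hr, h⟩
    have hr2 : (r - 1) * (r + 1) = 0 := by
      rw [Fintype.card_fin] at hr
      linear_combination hr
    have hij : ∀ a b : Fin 2, i ((g : Matrix (Fin 2) (Fin 2) (ZMod 19)) a b) = if a = b then r else 0 := by
      intro a b
      have := congrFun (congrFun h a) b
      rw [Matrix.scalar_apply, Matrix.diagonal_apply] at this
      exact this.symm
    rcases mul_eq_zero.1 hr2 with h1 | h1
    · left
      apply Subtype.ext
      ext a b
      apply i.injective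
      rw [hij]
      show _ = i ((1 : Matrix (Fin 2) (Fin 2) (ZMod 19)) a b)
      rw [Matrix.one_apply, sub_eq_zero.1 h1]
      split_ifs <;> simp
    · right
      apply Subtype.ext
      ext a b
      apply i.injective
      rw [hij]
      show _ = i ((-(1 : G) : G) a b)
      rw [Matrix.SpecialLinearGroup.coe_neg, Matrix.SpecialLinearGroup.coe_one, Matrix.neg_apply, Matrix.one_apply,
        eq_neg_of_add_eq_zero_left h1]
      split_ifs <;> simp
  · rintro (rfl | rfl)
    · exact ⟨1, by simp, by simp⟩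
    · refine ⟨-1, by simp, ?_⟩
      ext a b
      fin_cases a <;> fin_cases b <;> simp [Matrix.scalar_apply]

/-- a subgroup `PSL(2, 19)` gives a homomorphism from `SL(2, 19)` with kernel `{1, -1}` -/
theorem exists_hom {X : Type*} [Group X] (H : Subgroup X) {F : Type*} [Field F] [Fintype F] (hF : Fintype.card F = 19)
    (e : ↥H ≃* Matrix.ProjectiveSpecialLinearGroup (Fin 2) F) :
    ∃ φ : G →* X, ∀ g, φ g = 1 ↔ g = 1 ∨ g = -1 := by
  obtain ⟨φ, hφ⟩ := PSLHom.exists_hom H e
  have hch : CharP F 19 := by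
    obtain ⟨p, hp⟩ := CharP.exists F
    have hpp : p.Prime := CharP.char_is_prime F p
    obtain ⟨n, -, hn⟩ := FiniteField.card F p
    rw [hF] at hn
    have h1 : p ∣ 19 := by rw [hn]; exact dvd_pow_self p n.ne_zero
    have h2 : p = 19 := (Nat.prime_dvd_prime_iff_eq hpp (by norm_num)).1 h1
    rwa [← h2]
  refine ⟨φ.comp (SpecialLinearGroup.map (ZMod.castHom (dvd_refl 19) F)), fun g => ?_⟩
  rw [MonoidHom.comp_apply, hφ, map_mem_center]

end Cfsg.Agent.H943.L19
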