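import Mathlib
import Cfsg.Agent.H943.L19
import Cfsg.Agent.H944.TS.Iface
import Cfsg.Agent.H944.TS.EigMain

/-!
# `PSL(2, 19)` is not a subgroup of `²E₆(2)` (S5741 N7, helper943)
-/

set_option autoImplicit false

namespace Cfsg.Agent.H943.L19

open Cfsg Cfsg.Lie Polynomial Cfsg.Agent.H944.TS

universe u

theorem char_two_of_card {K : Type*} [Field K] [Fintype K] (hK : Fintype.card K = 4) : CharP K 2 := by
  obtain ⟨q, hq⟩ := CharP.exists K
  have hqp : q.Prime := CharP.char_is_prime K q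
  obtain ⟨n, -, hn⟩ := FiniteField.card K q
  rw [hK] at hn
  have h1 : q ∣ 2 ^ 2 := by
    have : q ∣ q ^ (n : ℕ) := dvd_pow_self q n.ne_zero
    rw [← hn] at this
    exact this
  have h2 : q = 2 := (Nat.prime_dvd_prime_iff_eq hqp Nat.prime_two).1 (hqp.dvd_of_dvd_pow h1)
  rwa [← h2]

section gen

variable {K : Type u} [Field K] {ι : Type} [Fintype ι] [DecidableEq ι]

/-- order 5 -/
def P5 (A : Matrix ι ι K) : Prop := A.charpoly * (X - 1) ^ 15 = (X - 1) ^ 18 * (X ^ 5 - 1) ^ 15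

/-- order 9 -/
def P9 (A : Matrix ι ι K) : Prop := ∃ a b : ℕ, (a = 14 ∧ b = 5 ∨ a = 10 ∧ b = 7 ∨ a = 8 ∧ b = 8) ∧
  A.charpoly * (X - 1) ^ b * (X ^ 3 - 1) ^ 9 = (X - 1) ^ a * (X ^ 3 - 1) ^ b * (X ^ 9 - 1) ^ 9

/-- order 19 -/
def P19 (A : Matrix ι ι K) : Prop := A.charpoly * (X - 1) ^ 4 = (X - 1) ^ 6 * (X ^ 19 - 1) ^ 4

theorem p5_of {A : Matrix ι ι K} (h : Eig.CP A 5 18 15) : P5 A := h

theorem p19_of {A : Matrix ι ι K} (h : Eig.CP A 19 6 4) : P19 A := h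

theorem cpNine_eq {A : Matrix ι ι K} {a b c : ℕ} (h : Eig.CPNine A a b c) :
    A.charpoly * (X - 1) ^ b * (X ^ 3 - 1) ^ c = (X - 1) ^ a * (X ^ 3 - 1) ^ b * (X ^ 9 - 1) ^ c := h

theorem p9_of {A : Matrix ι ι K}
    (h : ∃ ab ∈ ([(8, 8), (10, 7), (14, 5)] : List (ℕ × ℕ)), Eig.CPNine A ab.1 ab.2 9) : P9 A := by
  obtain ⟨ab, hab, hc⟩ := h
  refine ⟨ab.1, ab.2, ?_, cpNine_eq hc⟩
  simp only [List.mem_cons, List.not_mem_nil, or_false] at hab
  rcases hab with rfl | rfl | rfl <;> simp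

/-- a subgroup with such elements has no subgroup isomorphic to `PSL(2, 19)` -/
theorem false_of [CharP K 2] (T : Subgroup (GL ι K)) (hι : Fintype.card ι = 78)
    (h5 : ∀ x ∈ T, orderOf x = 5 → P5 (x : Matrix ι ι K)) (h9 : ∀ x ∈ T, orderOf x = 9 → P9 (x : Matrix ι ι K))
    (h19 : ∀ x ∈ T, orderOf x = 19 → P19 (x : Matrix ι ι K)) (L : Subgroup ↥T) {F : Type*} [Field F] [Fintype F]
    (hF : Fintype.card F = 19) (e : ↥L ≃* Matrix.ProjectiveSpecialLinearGroup (Fin 2) F) : False := by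
  obtain ⟨φ, hφ⟩ := exists_hom L hF e
  have hinj : Function.Injective T.subtype := T.subtype_injective
  exact false_of_spec (φ := T.subtype.comp φ)
    { card := hι
      ker := fun g => by rw [MonoidHom.comp_apply, map_eq_one_iff _ hinj, hφ]
      five := fun g h => h5 _ (φ g).2 h
      nine := fun g h => h9 _ (φ g).2 h
      nineteen := fun g h => h19 _ (φ g).2 h }

end gen

/-- **N7: `PSL(2, 19)` is not a subgroup of `²E₆(2)`.** -/
theorem notE_psl19 {K : Type u} [Field K] [Fintype K] (hK : Fintype.card K = 4) : NotE K (.psl 2 19) := by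
  intro L hL
  obtain ⟨F, iF, iFt, hF, ⟨e⟩⟩ := hL
  have hch : CharP K 2 := char_two_of_card hK
  exact false_of (twistedE6 K 2) rfl (fun x hx h => p5_of (Eig.cp5 hK hx h)) (fun x hx h => p9_of (Eig.cp9 hK hx h))
    (fun x hx h => p19_of (Eig.cp19 hK hx h)) L hF e

end Cfsg.Agent.H943.L19
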