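import Cfsg.Agent.H943.SL2Five

/-!
# Representations of `PSL(2, 2187)` over the field with three elements (helper943)

`seven` : `dim V = a + 2187 s + 7 m`, `dim C_V(w) = a + 1093 s + 7 m'` with `m' ≤ m`.
-/

set_option autoImplicit false
set_option linter.unusedSectionVars false

namespace Cfsg.Agent.H943.SL2Mod

open Matrix Cfsg.Agent.H943.SL2Rel Cfsg.Agent.H943.RepAdd

theorem seven_dvd_of_pow {n : ℕ} (h : 3 ^ n ≡ 1 [MOD 1093]) : 7 ∣ n := by
  have h1 : (3 ^ 7) ^ (n / 7) * 3 ^ (n % 7) = 3 ^ n := by rw [← pow_mul, ← pow_add, Nat.div_add_mod]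
  have h2 : (3 ^ 7) ^ (n / 7) * 3 ^ (n % 7) ≡ 3 ^ (n % 7) [MOD 1093] := by
    have h3 : 3 ^ 7 ≡ 1 [MOD 1093] := by decide
    have h4 := (h3.pow (n / 7)).mul_right (3 ^ (n % 7))
    rwa [one_pow, one_mul] at h4
  rw [h1] at h2
  have h5 : 3 ^ (n % 7) ≡ 1 [MOD 1093] := h2.symm.trans h
  have h6 : n % 7 < 7 := Nat.mod_lt _ (by norm_num)
  have h7 : n % 7 = 0 := by
    generalize n % 7 = r at h5 h6
    interval_cases r
    · rfl
    · exact absurd h5 (by decide)
    · exact absurd h5 (by decide)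
    · exact absurd h5 (by decide)
    · exact absurd h5 (by decide)
    · exact absurd h5 (by decide)
    · exact absurd h5 (by decide)
  exact Nat.dvd_of_mod_eq_zero h7

section

variable {k : Type*} [Field k] [Fintype k] [CharP k 3] {F : Type*} [Field F] [Fintype F] [DecidableEq F] [CharP F 3]

theorem finrank_seven {V : Type*} [AddCommGroup V] [Module k V] [FiniteDimensional k V] (hk : Fintype.card k = 3)
    {ρ : Representation k (SpecialLinearGroup (Fin 2) F) V} (hI : Irr ρ) {D : Submodule k V} {c : k}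
    (G : Good ρ D c) (hD : TSimple ρ D) (h1 : ρ (h (-1)) = 1) (hF : Fintype.card F = 2187) {b : Fˣ}
    (hb : ∃ d ∈ D, ρ (h b) d ≠ d) (g : SpecialLinearGroup (Fin 2) F) (μ : k) :
    7 ∣ Module.finrank k (eig ρ g μ) := by
  have : Fact (Nat.Prime 3) := ⟨by norm_num⟩
  have : Fact (Nat.Prime 1093) := ⟨by norm_num⟩
  obtain ⟨α, hα, hαD⟩ := exists_end ρ 3 hI G hD b
  have hpow : ∀ n : ℕ, (∀ g x, (α ^ n) (ρ g x) = ρ g ((α ^ n) x)) ∧ ∀ x ∈ D, (α ^ n) x = ρ (h (b ^ n)) x := by
    intro n
    induction n with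
    | zero =>
      refine ⟨fun g x => rfl, fun x _ => ?_⟩
      rw [pow_zero, pow_zero, h_one, map_one]
      rfl
    | succ n ih =>
      constructor
      · intro g x
        rw [pow_succ']
        show α ((α ^ n) (ρ g x)) = ρ g (α ((α ^ n) x))
        rw [ih.1, hα]
      · intro x hx
        rw [pow_succ', pow_succ']
        show α ((α ^ n) x) = _
        rw [ih.2 x hx, hαD _ (G.tinv _ _ hx), apply_mul, ← h_mul]
  have hcard : Fintype.card Fˣ = 2186 := by rw [Fintype.card_units, hF]
  have hb1 : ρ (h (b ^ 1093)) = 1 := by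
    have h2 : (b ^ 1093) ^ 2 = 1 := by
      rw [← pow_mul]
      have := pow_card_eq_one (x := b)
      rwa [hcard] at this
    have h3 : ((b ^ 1093 : Fˣ) : F) ^ 2 = 1 := by
      rw [← Units.val_pow_eq_pow_val, h2, Units.val_one]
    rcases mul_self_eq_one_iff.1 ((sq _).symm.trans h3) with h4 | h4
    · rw [show b ^ 1093 = 1 from Units.ext h4, h_one, map_one]
    · rw [show b ^ 1093 = -1 from Units.ext h4, h1]
  obtain ⟨d0, hd0, hd0'⟩ := Submodule.exists_mem_ne_zero_of_ne_bot hD.1
  -- `α ^ 1093 = 1`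
  have h1093 : ∀ x, (α ^ 1093) x = x := by
    rcases ker_eq ρ hI (((α ^ 1093 : V ≃ₗ[k] V) : Module.End k V) - 1) (by
      intro g x
      show (α ^ 1093) (ρ g x) - ρ g x = ρ g ((α ^ 1093) x - x)
      rw [(hpow 1093).1, map_sub]) with h2 | h2
    · exfalso
      have h3 : d0 ∈ LinearMap.ker (((α ^ 1093 : V ≃ₗ[k] V) : Module.End k V) - 1) := by
        rw [LinearMap.mem_ker]
        show (α ^ 1093) d0 - d0 = 0
        rw [(hpow 1093).2 d0 hd0, hb1]
        exact sub_self _
      rw [h2] at h3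
      exact hd0' ((Submodule.mem_bot k).1 h3)
    · intro x
      have h3 := LinearMap.congr_fun h2 x
      have h4 : (α ^ 1093) x - x = 0 := h3
      exact sub_eq_zero.1 h4
  have hα1 : ¬ ∀ x, α x = x := by
    intro h2
    obtain ⟨d, hd, hd'⟩ := hb
    exact hd' (by rw [← hαD d hd, h2])
  have hβf : ∀ x, α x = x → x = 0 := by
    rcases ker_eq ρ hI ((α : Module.End k V) - 1) (by
      intro g x
      show α (ρ g x) - ρ g x = ρ g (α x - x)
      rw [hα, map_sub]) with h2 | h2
    · intro x hx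
      have h3 : x ∈ LinearMap.ker ((α : Module.End k V) - 1) := by
        rw [LinearMap.mem_ker]
        show α x - x = 0
        rw [hx, sub_self]
      rw [h2] at h3
      exact (Submodule.mem_bot k).1 h3
    · exfalso
      apply hα1
      intro x
      have h3 : α x - x = 0 := LinearMap.congr_fun h2 x
      exact sub_eq_zero.1 h3
  have : Finite (eig ρ g μ) := Module.finite_of_finite k
  have hmod := card_modEq_one (k := k) (l := 1093) α h1093 hβf (eig ρ g μ) (fun x hx => by
    rw [mem_eig] at hx ⊢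
    rw [← hα, hx, map_smul])
  apply seven_dvd_of_pow
  rw [Module.natCard_eq_pow_finrank (K := k), Nat.card_eq_fintype_card, hk] at hmod
  exact hmod

theorem not_sq7 (hF : Fintype.card F = 2187) (x : F) : x ^ 2 ≠ -1 := by
  intro hx
  have hx0 : x ≠ 0 := by
    rintro rfl
    rw [zero_pow two_ne_zero] at hx
    exact one_ne_zero (neg_eq_zero.1 hx.symm)
  have h1 := FiniteField.pow_card_sub_one_eq_one x hx0
  rw [hF] at h1
  have h2 : x ^ 2186 = (x ^ 2) ^ 1093 := by rw [← pow_mul]
  rw [h2, hx] at h1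
  have h3 : (-1 : F) ^ 1093 = -1 := Odd.neg_one_pow (by decide)
  rw [h3] at h1
  have h4 : (2 : F) = 0 := by linear_combination -h1
  have h5 : ((2 : ℕ) : F) = 0 := by exact_mod_cast h4
  rw [CharP.cast_eq_zero_iff F 3] at h5
  omega

theorem irr_seven {V : Type*} [AddCommGroup V] [Module k V] [FiniteDimensional k V] (hk : Fintype.card k = 3)
    {ρ : Representation k (SpecialLinearGroup (Fin 2) F) V} (hI : Irr ρ) (h1 : ρ (h (-1)) = 1)
    (hF : Fintype.card F = 2187) : ∃ a s m m' : ℕ, Module.finrank k V = a + 2187 * s + 7 * m ∧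
      Module.finrank k (eig ρ w 1) = a + 1093 * s + 7 * m' ∧ m' ≤ m := by
  have : Fact (Nat.Prime 3) := ⟨by norm_num⟩
  obtain ⟨D, c, G, hD, hc⟩ := exists_type ρ 3 hI
  rcases hc with rfl | ⟨rfl, hT⟩
  · by_cases hT : ∀ a, ∀ d ∈ D, ρ (h a) d = d
    · obtain ⟨h2, h3⟩ := triv_of_type ρ hI G hD hT 3
      refine ⟨1, 0, 0, 0, by rw [h3], ?_, le_rfl⟩
      have h4 : eig ρ w 1 = ⊤ := by
        rw [eq_top_iff]
        intro x _
        rw [mem_eig, h2, one_smul]
      rw [h4, finrank_top, h3]
    · push Not at hT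
      obtain ⟨b, d, hd, hd'⟩ := hT
      have h2 := finrank_seven hk hI G hD h1 hF ⟨d, hd, hd'⟩
      have h3 : eig ρ 1 1 = ⊤ := by
        rw [eq_top_iff]
        intro x _
        rw [mem_eig, map_one, one_smul]
        rfl
      obtain ⟨m, hm⟩ := h2 1 1
      rw [h3, finrank_top] at hm
      obtain ⟨m', hm'⟩ := h2 w 1
      refine ⟨0, 0, m, m', by omega, by omega, ?_⟩
      have h4 := Submodule.finrank_le (eig ρ w 1)
      omega
  · obtain ⟨h2, h3⟩ := st_of_type ρ 3 hI G hD hT (not_sq7 hF) (two_ne k)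
    rw [hF] at h2 h3
    exact ⟨0, 1, 0, 0, by omega, by omega, le_rfl⟩

end

section

universe v

variable {k : Type*} [Field k] [Fintype k] [CharP k 3] {F : Type*} [Field F] [Fintype F] [DecidableEq F] [CharP F 3]

/-- **representations of `PSL(2, 2187)` in characteristic three** -/
theorem seven (hk : Fintype.card k = 3) (hF : Fintype.card F = 2187) (n : ℕ) :
    ∀ (V : Type v) [AddCommGroup V] [Module k V] [FiniteDimensional k V]
      (ρ : Representation k (SpecialLinearGroup (Fin 2) F) V) (_ : ρ (h (-1)) = 1) (_ : Module.finrank k V = n),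
      ∃ a s m m' : ℕ, Module.finrank k V = a + 2187 * s + 7 * m ∧
        Module.finrank k (eig ρ w 1) = a + 1093 * s + 7 * m' ∧ m' ≤ m := by
  induction n using Nat.strong_induction_on with
  | _ n ih =>
    intro V _ _ _ ρ h1 hn
    rcases subsingleton_or_nontrivial V with hV | hV
    · refine ⟨0, 0, 0, 0, ?_, ?_, le_rfl⟩
      · exact Module.finrank_zero_of_subsingleton
      · exact Module.finrank_zero_of_subsingleton
    · obtain ⟨W, hW, hW0, hmin⟩ := exists_irr_sub ρ
      have hIW := irr_subRep ρ hW hW0 hmin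
      have e1 : subRep ρ W hW (h (-1)) = 1 := by
        refine LinearMap.ext fun x => Subtype.ext ?_
        rw [coe_subRep, h1]
        rfl
      have e2 : quotRep ρ W hW (h (-1)) = 1 := by
        refine LinearMap.ext fun x => ?_
        obtain ⟨y, rfl⟩ := W.mkQ_surjective x
        rw [quotRep_mk, h1]
        rfl
      have hpos : 0 < Module.finrank k W := by
        have := hIW.1
        exact Module.finrank_pos
      have hadd := Submodule.finrank_quotient_add_finrank W
      obtain ⟨a, s, m, m', i1, i2, i3⟩ := irr_seven hk hIW e1 hF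
      obtain ⟨a', s', l, l', j1, j2, j3⟩ := ih (Module.finrank k (V ⧸ W)) (by omega) (V ⧸ W) (quotRep ρ W hW) e2 rfl
      have hww : ρ w ^ 2 = 1 := by
        rw [sq, ← map_mul, w_w, h1]
      have h2 : ((2 : ℕ) : k) ≠ 0 := by
        have := two_ne k
        exact_mod_cast this
      have hE := finrank_eig ρ W hW hww h2 (one_pow 2) one_ne_zero
      exact ⟨a + a', s + s', m + l, m' + l', by omega, by omega, by omega⟩

end

end Cfsg.Agent.H943.SL2Mod
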