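import Cfsg.Agent.H943.E8Fix
import Cfsg.Agent.H943.L243
import Cfsg.Agent.H943.SL2Seven

/-!
# No subgroup `L2(2187)` in `E8(3)` (helper943)

An involution has a fixed space of dimension 136 (`120 ≡ 1 mod 7` is not possible), so an element of order 1093, a
product of two involutions, fixes a space of dimension at least `2 * 136 - 248 = 24`; but the fixed space of such an
element has dimension at most `8 + 12`.
-/

set_option autoImplicit false

namespace Cfsg.Agent.H943.L2187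

open Matrix Cfsg.Agent.H943.SL2Rel Cfsg.Agent.H943.PSLHom Cfsg.Agent.H943.RepAdd
open Cfsg.Lie

theorem finrank_eig_conj {k G V : Type*} [Field k] [Group G] [AddCommGroup V] [Module k V] (ρ : Representation k G V)
    (c g : G) (μ : k) : Module.finrank k (eig ρ (c * g * c⁻¹) μ) = Module.finrank k (eig ρ g μ) := by
  have h1 : ∀ x : V, ρ c (ρ c⁻¹ x) = x := fun x => by
    rw [← Module.End.mul_apply, ← map_mul, mul_inv_cancel, map_one]; rfl
  have h2 : ∀ x : V, ρ c⁻¹ (ρ c x) = x := fun x => by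
    rw [← Module.End.mul_apply, ← map_mul, inv_mul_cancel, map_one]; rfl
  let e : V ≃ₗ[k] V := LinearEquiv.ofLinearMap (ρ c) (ρ c⁻¹) (LinearMap.ext h1) (LinearMap.ext h2)
  have h3 : (eig ρ g μ).map (e : V →ₗ[k] V) = eig ρ (c * g * c⁻¹) μ := by
    ext x
    constructor
    · rintro ⟨y, hy, rfl⟩
      rw [SetLike.mem_coe, mem_eig] at hy
      rw [mem_eig]
      show ρ (c * g * c⁻¹) (ρ c y) = μ • ρ c y
      rw [map_mul, map_mul, Module.End.mul_apply, Module.End.mul_apply, h2, hy, map_smul]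
    · intro hx
      rw [mem_eig] at hx
      refine ⟨ρ c⁻¹ x, ?_, h1 x⟩
      rw [SetLike.mem_coe, mem_eig]
      rw [map_mul, map_mul, Module.End.mul_apply, Module.End.mul_apply] at hx
      have h4 := congrArg (ρ c⁻¹) hx
      rw [h2, map_smul] at h4
      exact h4
  rw [← h3]
  exact LinearEquiv.finrank_map_eq e _

/-- **no `L2(2187)` in `E8(3)`** -/
theorem no_L2187 {F : Type*} [Field F] [Fintype F] (hF : Fintype.card F = 2187)
    (H : Subgroup ↥(chevE8.group (ZMod 3))) : IsEmpty (↥H ≃* ProjectiveSpecialLinearGroup (Fin 2) F) := by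
  classical
  refine ⟨fun e => ?_⟩
  have : Fact (Nat.Prime 3) := ⟨Nat.prime_three⟩
  have hchF : CharP F 3 := by
    obtain ⟨⟨m, hm⟩, hp', hcard⟩ := FiniteField.card F (ringChar F)
    rw [hF] at hcard
    have h1 : ringChar F ∣ 3 ^ 7 := by
      rw [show (3 : ℕ) ^ 7 = 2187 by norm_num, hcard]
      exact dvd_pow_self _ (by simpa using hm.ne')
    have h2 := (Nat.prime_dvd_prime_iff_eq hp' Nat.prime_three).1 (hp'.dvd_of_dvd_pow h1)
    exact h2 ▸ ringChar.charP F
  obtain ⟨φ, hφ⟩ := exists_hom H e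
  let ρ := rep (RingHom.id (ZMod 3)) φ
  have h1 : φ (h (-1)) = 1 := (hφ _).2 (h_mem_center.2 (by rw [neg_one_sq]))
  have h2 : φ w ^ 2 = 1 := by rw [pow_two, ← map_mul, w_w, h1]
  have h3 : φ w ≠ 1 := fun h0 => w_not_mem_center ((hφ _).1 h0)
  obtain ⟨a, s, m, m', e1, e2, e3⟩ := Cfsg.Agent.H943.SL2Mod.seven (k := ZMod 3) (by rw [ZMod.card]) hF
    (Module.finrank (ZMod 3) (chevE8.Idx → ZMod 3)) (chevE8.Idx → ZMod 3) ρ (rep_eq_one _ _ h1) rfl
  have hdim : Module.finrank (ZMod 3) (chevE8.Idx → ZMod 3) = 248 := by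
    rw [Module.finrank_fintype_fun_eq_card, L243.card_idx]
  rw [hdim] at e1
  have e4 : ∀ g, ρ g = Matrix.toLin' (((φ g : ↥(chevE8.group (ZMod 3))) : GL chevE8.Idx (ZMod 3)) :
        Matrix chevE8.Idx chevE8.Idx (ZMod 3)) := by
    intro g
    show Matrix.toLin' ((((φ g : ↥(chevE8.group (ZMod 3))) : GL chevE8.Idx (ZMod 3)) :
        Matrix chevE8.Idx chevE8.Idx (ZMod 3)).map (RingHom.id (ZMod 3))) = _
    congr 1
  have h4 : Module.finrank (ZMod 3) (eig ρ w 1) = 136 := by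
    have h5 := L243.finrank_invol h2 h3
    rw [← e4 w] at h5
    rcases h5 with h5 | h5
    · exact h5
    · exfalso
      unfold eig at e2
      rw [h5] at e2
      omega
  -- a unit of large order
  obtain ⟨b, hb⟩ : ∃ b : Fˣ, b ^ 4 ≠ 1 := by
    by_contra hcon
    push Not at hcon
    have h6 := (IsCyclic.exponent_eq_card (α := Fˣ))
    rw [Nat.card_eq_fintype_card, Fintype.card_units, hF] at h6
    have h7 := Monoid.exponent_dvd_of_forall_pow_eq_one hcon
    rw [h6] at h7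
    exact absurd (Nat.le_of_dvd (by norm_num) h7) (by norm_num)
  have hconj : h b * w * (h b)⁻¹ = w * h (b⁻¹ ^ 2) := by
    rw [h_w, mul_assoc, ← h_inv, ← h_mul, pow_two]
  have h5 : Module.finrank (ZMod 3) (eig ρ (w * h (b⁻¹ ^ 2)) 1) = 136 := by
    rw [← hconj, finrank_eig_conj, h4]
  have h6 : eig ρ w 1 ⊓ eig ρ (w * h (b⁻¹ ^ 2)) 1 ≤ eig ρ (h (b⁻¹ ^ 2)) 1 := by
    rintro x ⟨hx1, hx2⟩
    rw [SetLike.mem_coe, mem_eig, one_smul] at hx1 hx2
    rw [mem_eig, one_smul]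
    rw [map_mul, Module.End.mul_apply] at hx2
    have h7 : ρ w (ρ w (ρ (h (b⁻¹ ^ 2)) x)) = ρ w (ρ w x) := by rw [hx2, hx1, hx1]
    have h8 : ∀ y, ρ w (ρ w y) = y := by
      intro y
      rw [← Module.End.mul_apply, ← map_mul, w_w, rep_eq_one _ _ h1]
      rfl
    rwa [h8, h8] at h7
  have h7 := Submodule.finrank_sup_add_finrank_inf_eq (eig ρ w 1) (eig ρ (w * h (b⁻¹ ^ 2)) 1)
  have h8 := Submodule.finrank_le (eig ρ w 1 ⊔ eig ρ (w * h (b⁻¹ ^ 2)) 1)
  have h9 := Submodule.finrank_mono h6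
  rw [hdim] at h8
  -- the element of order 1093
  have hy1 : φ (h (b⁻¹ ^ 2)) ≠ 1 := by
    intro h0
    apply hb
    have h10 := h_mem_center.1 ((hφ _).1 h0)
    rw [← pow_mul, inv_pow, inv_eq_one] at h10
    exact h10
  have hy : φ (h (b⁻¹ ^ 2)) ^ 1093 = 1 := by
    rw [← map_pow, ← h_pow, ← pow_mul]
    have h10 : b⁻¹ ^ (2 * 1093) = 1 := by
      have h11 := pow_card_eq_one (x := b⁻¹)
      rwa [Fintype.card_units, hF] at h11
    rw [h10, h_one, map_one]
  have h10 := E8Fix.finrank_1093 hy hy1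
  rw [← e4] at h10
  have h11 : Module.finrank (ZMod 3) (eig ρ (h (b⁻¹ ^ 2)) 1) ≤ 20 := h10
  omega

end Cfsg.Agent.H943.L2187
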