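import Cfsg.Agent.H378.Regular

/-!
# Fusion of the elements of prime order `ℓ ∤ |W|` (helper943)

* `frob_conj` : an element `x ∈ Y^σ` of prime order `ℓ ≠ r` is conjugate in `Y` to `x ^ q`;
* `totient_le` : `x ∈ Y` of prime order `ℓ ∤ r |W|`; if `x` is conjugate to `x ^ a` and `ℓ ∣ Φ_m(a)` then `φ(m) ≤ l`.
-/

set_option autoImplicit false
set_option linter.unusedSectionVars false

namespace Cfsg.Agent.H943.Fusion

open CoxeterSystem Subgroup Cfsg Cfsg.Lie Cfsg.Lie.ChevalleyDatum Polynomial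
open Cfsg.Agent.ChevalleyStructure Cfsg.Agent.ChevalleyStructure.Elts Cfsg.Agent.ChevalleyStructure.CoxeterGeom
  Cfsg.Agent.ChevalleyStructure.CoxeterGeomTypes Cfsg.Agent.ChevalleyStructure.NPerm
open Cfsg.Agent.Tits.Roots Cfsg.Agent.Tits.Core Cfsg.Agent.Nodes.Reps Cfsg.Agent.Nodes.BNOf
  Cfsg.Agent.Nodes.RGDChev Cfsg.Agent.Nodes.Bruhat
open Cfsg.Agent.KFacts.RgdField Cfsg.Agent.KFacts.RgdChevCoord Cfsg.Agent.BpExc.TorCent Cfsg.Agent.BpExc.TorChev
open Cfsg.Agent.BpExc.Tow Cfsg.Agent.BpExc.TowChev Cfsg.Agent.BpExc.FamExt Cfsg.Agent.BpExc.FamUntw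
  Cfsg.Agent.BpExc.FamInst Cfsg.Agent.BpExc.LangFr Cfsg.Agent.BpExc.FamField
open Cfsg.Agent.GpExc.Field (glMap emb coe_emb glMap_xG emb_injective coe_glMap)
open Cfsg.Agent.H378.TorDual Cfsg.Agent.H378.TorChar Cfsg.Agent.H378.TorFin Cfsg.Agent.H378.LatRoot
open Cfsg.Agent.H378.Regular Cfsg.Agent.H378

universe u v

section Lattice

variable {l : ℕ}

/-- **Independence**: `Φ_m(w) v = 0`, `v ≠ 0` give `φ(m) ≤ l`. -/
theorem totient_le_of_aeval {m : ℕ} (hm : 0 < m) {w : Module.End ℤ (Fin l → ℤ)} {v : Fin l → ℤ} (hv : v ≠ 0)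
    (h : aeval w (cyclotomic m ℤ) v = 0) : m.totient ≤ l := by
  have hv' : LatCyc.vq v ≠ 0 := fun h0 => hv (LatCyc.vq_eq_zero.1 h0)
  have h' : aeval (LatCyc.toQ w) (cyclotomic m ℚ) (LatCyc.vq v) = 0 := by
    rw [← map_cyclotomic_int m ℚ, ← LatCyc.toQ_aeval, LatCyc.toQ_vq, h]
    exact LatCyc.vq_eq_zero.2 rfl
  have hli : LinearIndependent ℚ fun i : Fin m.totient => ((LatCyc.toQ w) ^ (i : ℕ)) (LatCyc.vq v) := by
    rw [Fintype.linearIndependent_iff]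
    intro c hc
    obtain ⟨P, hP⟩ : ∃ P : ℚ[X], P = ∑ i : Fin m.totient, C (c i) * X ^ (i : ℕ) := ⟨_, rfl⟩
    have hPv : aeval (LatCyc.toQ w) P (LatCyc.vq v) = 0 := by
      rw [hP, map_sum, LinearMap.sum_apply, ← hc]
      refine Finset.sum_congr rfl fun i _ => ?_
      rw [map_mul, aeval_C, map_pow, aeval_X, Module.End.mul_apply, Module.algebraMap_end_apply]
    have hdeg : P.degree < m.totient := by
      rw [hP]
      exact degree_sum_fin_lt c
    have hP0 : P = 0 := by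
      by_contra hne
      rcases (cyclotomic.irreducible_rat hm).isCoprime_or_dvd P with h1 | h1
      · obtain ⟨a, b, hab⟩ := h1
        apply hv'
        have h2 : aeval (LatCyc.toQ w) (a * cyclotomic m ℚ + b * P) (LatCyc.vq v) = LatCyc.vq v := by
          rw [hab, map_one, Module.End.one_apply]
        rw [← h2, map_add, map_mul, map_mul, LinearMap.add_apply, Module.End.mul_apply, Module.End.mul_apply, h', hPv,
          map_zero, map_zero, add_zero]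
      · have h2 := degree_le_of_dvd h1 hne
        rw [degree_cyclotomic] at h2
        exact absurd hdeg (not_lt.2 h2)
    intro i
    have h3 : P.coeff i = c i := by
      rw [hP, finsetSum_coeff, Finset.sum_eq_single i]
      · rw [coeff_C_mul, coeff_X_pow, if_pos rfl, mul_one]
      · intro j _ hj
        rw [coeff_C_mul, coeff_X_pow, if_neg (fun h0 => hj (Fin.ext h0.symm)), mul_zero]
      · intro hi
        exact absurd (Finset.mem_univ i) hi
    rw [← h3, hP0, coeff_zero]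
  have h4 := hli.fintype_card_le_finrank
  rwa [Fintype.card_fin, Module.finrank_fintype_fun_eq_card, Fintype.card_fin] at h4

variable {k : Type u} [Field k]

/-- an eigencharacter of a lattice automorphism of finite order -/
theorem totient_le_of_char {m N : ℕ} (hm : 0 < m) {w : Module.End ℤ (Fin l → ℤ)}
    (hN : 0 < N) (hw : w ^ N = 1) {ℓ : ℕ} (hℓ : ℓ.Prime) (hℓN : ¬ ℓ ∣ N) (hℓm : ¬ ℓ ∣ m) {q : ℤ}
    (hq : (ℓ : ℤ) ∣ (cyclotomic m ℤ).eval q) {χ : Ch l k}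
    (hχ : χ ∈ KerOf k (w - q • (1 : Module.End ℤ (Fin l → ℤ)))) (hχ1 : χ ≠ 1) (hχℓ : χ ^ ℓ = 1) :
    m.totient ≤ l := by
  obtain ⟨R, hR⟩ := cyclotomic.dvd_X_pow_sub_one m ℤ
  obtain ⟨S, hS⟩ : (X ^ m - 1 : ℤ[X]) ∣ X ^ (N * m) - 1 := by
    have := sub_dvd_pow_sub_pow (X ^ m : ℤ[X]) 1 N
    rwa [one_pow, ← pow_mul, mul_comm m N] at this
  obtain ⟨Q, hQ⟩ : ∃ Q : ℤ[X], X ^ (N * m) - 1 = cyclotomic m ℤ * Q := ⟨R * S, by rw [hS, hR, mul_assoc]⟩
  have hNm : ¬ ℓ ∣ N * m := fun h => (hℓ.dvd_mul.1 h).elim hℓN hℓm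
  have hzero : ∀ x, aeval w (cyclotomic m ℤ) (aeval w Q x) = 0 := by
    intro x
    rw [← Module.End.mul_apply, ← map_mul, ← hQ, map_sub, map_pow, aeval_X, map_one, pow_mul, hw, one_pow, sub_self,
      LinearMap.zero_apply]
  by_cases hcase : ∀ x, aeval w Q x = 0
  · exfalso
    obtain ⟨x, hx⟩ : ∃ x : Fin l → ℤ, χ (Multiplicative.ofAdd x) ≠ 1 := by
      by_contra hcon
      push Not at hcon
      exact hχ1 (MonoidHom.ext fun x => hcon (Multiplicative.toAdd x))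
    have hord : orderOf (χ (Multiplicative.ofAdd x)) = ℓ := by
      have h1 : χ (Multiplicative.ofAdd x) ^ ℓ = 1 := by
        rw [← MonoidHom.pow_apply, hχℓ, MonoidHom.one_apply]
      exact ((Nat.dvd_prime hℓ).1 (orderOf_dvd_of_pow_eq_one h1)).resolve_left fun h2 => hx (orderOf_eq_one_iff.1 h2)
    have hdvd : ∀ P : ℤ[X], aeval w P x = 0 → (ℓ : ℤ) ∣ P.eval q := by
      intro P hP
      have h1 := LatCyc.kerOf_aeval hχ P x
      rw [hP, ofAdd_zero, map_one] at h1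
      rw [← hord]
      exact orderOf_dvd_iff_zpow_eq_one.2 h1.symm
    have hQq := hdvd Q (hcase x)
    have hd := congrArg (fun P : ℤ[X] => (derivative P).eval q) hQ
    simp only [derivative_sub, derivative_X_pow, derivative_one, sub_zero, derivative_mul, eval_add, eval_mul,
      eval_pow, eval_X, eval_C] at hd
    have h1 : (ℓ : ℤ) ∣ ((N * m : ℕ) : ℤ) * q ^ (N * m - 1) := by
      have h3 : ((N * m : ℕ) : ℤ) * q ^ (N * m - 1) = eval q (derivative (cyclotomic m ℤ)) * eval q Q +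
          eval q (cyclotomic m ℤ) * eval q (derivative Q) := hd
      rw [h3]
      exact dvd_add (Dvd.dvd.mul_left hQq _) (Dvd.dvd.mul_right hq _)
    have hℓ' : Prime (ℓ : ℤ) := Nat.prime_iff_prime_int.1 hℓ
    rcases hℓ'.dvd_mul.1 h1 with h2 | h2
    · exact hNm (by exact_mod_cast h2)
    · have h3 : (ℓ : ℤ) ∣ q := hℓ'.dvd_of_dvd_pow h2
      have h4 : (X ^ (N * m) - 1 : ℤ[X]).eval q = q ^ (N * m) - 1 := by simp
      have h5 : (ℓ : ℤ) ∣ q ^ (N * m) - 1 := by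
        rw [← h4, hQ, eval_mul]
        exact Dvd.dvd.mul_right hq _
      have h6 : (ℓ : ℤ) ∣ q ^ (N * m) := dvd_pow h3 (Nat.mul_pos hN hm).ne'
      have h7 : (ℓ : ℤ) ∣ 1 := by
        have := dvd_sub h6 h5
        rwa [sub_sub_cancel] at this
      exact hℓ'.not_isUnit (isUnit_of_dvd_one h7)
  · push Not at hcase
    obtain ⟨x, hx⟩ := hcase
    exact totient_le_of_aeval hm hx (hzero x)

end Lattice

variable {D : ChevalleyDatum} {l : ℕ} {M : CoxeterMatrix (Fin l)} (hp : IsType D l M) {k : Type u} [Field k]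
  {W : Type*} [Group W] (cs : CoxeterSystem M W)

variable [IsAlgClosed k] (hk : LocFin k) (r : ℕ) [Fact r.Prime] [CharP k r]

include hp in
/-- an element of prime order of `Y^σ` is conjugate in `Y` to its `q`-th power -/
theorem frob_conj (hka : BpExc.TorAll.HAlg r k) {n : ℕ} {x : ↥(D.group k)} (hσ : phi D k r n x = x) {ℓ : ℕ}
    (hℓ : ℓ.Prime) (hℓr : ℓ ≠ r) (hx : x ^ ℓ = 1) : ∃ c : ↥(D.group k), c * x * c⁻¹ = x ^ (r ^ n) := by
  obtain ⟨z, hz⟩ := BpExc.TorAll.exists_toral hp r hka hℓ hℓr hx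
  have h1 : phi D k r n (z⁻¹ * x * z) = (z⁻¹ * x * z) ^ (r ^ n) := by
    have h2 := tchar_phi hp r (m := n) hz
    have h3 : tchar hp ⟨z⁻¹ * x * z, hz⟩ ^ r ^ n = tchar hp ((⟨z⁻¹ * x * z, hz⟩ : ↥(TT D k)) ^ r ^ n) :=
      (map_pow (tchar hp) _ _).symm
    rw [h3] at h2
    exact congrArg Subtype.val (tchar_injective hp h2)
  rw [map_mul, map_mul, map_inv, hσ] at h1
  have h4 : (z⁻¹ * x * z) ^ (r ^ n) = z⁻¹ * x ^ (r ^ n) * z := by
    have h5 := conj_pow (a := z⁻¹) (b := x) (i := r ^ n)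
    rwa [inv_inv] at h5
  rw [h4] at h1
  refine ⟨z * (phi D k r n z)⁻¹, ?_⟩
  calc z * (phi D k r n z)⁻¹ * x * (z * (phi D k r n z)⁻¹)⁻¹ =
      z * ((phi D k r n z)⁻¹ * x * phi D k r n z) * z⁻¹ := by group
    _ = z * (z⁻¹ * x ^ (r ^ n) * z) * z⁻¹ := by rw [h1]
    _ = x ^ (r ^ n) := by group

include hp cs hk in
/-- **The fusion bound**: `x` of prime order `ℓ ∤ r |W|` conjugate to `x ^ a`, `ℓ ∣ Φ_m(a)`, then `φ(m) ≤ l`. -/
theorem totient_le [Finite W] (hka : BpExc.TorAll.HAlg r k) {x : ↥(D.group k)} {ℓ : ℕ}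
    (hℓ : ℓ.Prime) (hℓr : ℓ ≠ r) (hx : x ^ ℓ = 1) (hx1 : x ≠ 1) (hℓW : ¬ ℓ ∣ Nat.card W) {m : ℕ} (hm : 0 < m)
    (hℓm : ¬ ℓ ∣ m) {a : ℕ} (hq : (ℓ : ℤ) ∣ (Polynomial.cyclotomic m ℤ).eval (a : ℤ))
    (hc : ∃ c : ↥(D.group k), c * x * c⁻¹ = x ^ a) : m.totient ≤ l := by
  obtain ⟨z, hz⟩ := BpExc.TorAll.exists_toral hp r hka hℓ hℓr hx
  obtain ⟨c, hc⟩ := hc
  obtain ⟨t, ht⟩ : ∃ t, t = z⁻¹ * x * z := ⟨_, rfl⟩
  rw [← ht] at hz
  have htℓ : t ^ ℓ = 1 := by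
    rw [ht]
    have : (z⁻¹ * x * z) ^ ℓ = z⁻¹ * x ^ ℓ * z := by
      have h1 := conj_pow (a := z⁻¹) (b := x) (i := ℓ)
      rwa [inv_inv] at h1
    rw [this, hx]; group
  have ht1 : t ≠ 1 := by
    intro h1
    apply hx1
    have : x = z * t * z⁻¹ := by rw [ht]; group
    rw [this, h1]; group
  have hta : t ^ a = z⁻¹ * x ^ a * z := by
    rw [ht]
    have h1 := conj_pow (a := z⁻¹) (b := x) (i := a)
    rwa [inv_inv] at h1
  have hta' : t ^ a ∈ TT D k := Subgroup.pow_mem _ hz _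
  have e1 : z⁻¹ * c⁻¹ * z * t ^ a = t * (z⁻¹ * c⁻¹ * z) := by
    rw [hta, ← hc, ht]
    group
  obtain ⟨m', -, w, g, hg, hgs, -⟩ := exists_form' hp cs hk r hta' hz e1
  have hgt : g * t ^ a * g⁻¹ = t := by rw [hgs]; group
  have hgm : g * t ^ a * g⁻¹ ∈ TT D k := by rw [hgt]; exact hz
  have hχ := fun y => tchar_conj hp cs hk r hg hta' hgm y
  have e2 : (⟨g * t ^ a * g⁻¹, hgm⟩ : ↥(TT D k)) = ⟨t, hz⟩ := Subtype.ext hgt
  have e3 : (⟨t ^ a, hta'⟩ : ↥(TT D k)) = ⟨t, hz⟩ ^ a := rfl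
  rw [e2, e3, map_pow] at hχ
  have hK : tchar hp ⟨t, hz⟩ ∈ KerOf k (rep cs hp.isCartan w - (a : ℤ) • (1 : Module.End ℤ (Fin l → ℤ))) := by
    rw [mem_kerOf]
    intro y
    rw [LinearMap.sub_apply, LinearMap.smul_apply, Module.End.one_apply, sub_eq_add_neg, ofAdd_add, map_mul, hχ,
      ofAdd_neg, map_inv, ofAdd_zsmul, map_zpow, zpow_natCast, MonoidHom.pow_apply, mul_inv_cancel]
  have hχ1 : tchar hp ⟨t, hz⟩ ≠ 1 := by
    intro h1
    have h2 := tchar_injective hp (h1.trans (map_one (tchar hp)).symm)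
    exact ht1 (congrArg Subtype.val h2)
  have hwN : rep cs hp.isCartan w ^ Nat.card W = 1 := by
    rw [← map_pow, pow_card_eq_one', map_one]
  exact totient_le_of_char hm Nat.card_pos hwN hℓ hℓW hℓm hq hK hχ1 (tchar_pow_eq_one hp hz htℓ)

end Cfsg.Agent.H943.Fusion
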