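import Cfsg.Agent.H525.E8L.Iface
import Cfsg.Agent.H942.CB.E8Tor
import Cfsg.Agent.H942.CB.Cell

/-!
# Torus data relative to a given root of unity (helper943, S5921)
-/

set_option autoImplicit false
set_option linter.unusedSectionVars false
set_option maxRecDepth 100000

namespace Cfsg.Agent.H943.TorZ

open Matrix
open Cfsg Cfsg.Lie Cfsg.Lie.ChevalleyDatum
open Cfsg.Agent.ChevalleyStructure Cfsg.Agent.ChevalleyStructure.Elts Cfsg.Agent.ChevalleyStructure.CoxeterGeom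
  Cfsg.Agent.ChevalleyStructure.CoxeterGeomTypes Cfsg.Agent.ChevalleyStructure.NPerm
  Cfsg.Agent.ChevalleyStructure.RootVec Cfsg.Agent.ChevalleyStructure.RootVecTab
open Cfsg.Agent.Tits.Roots Cfsg.Agent.Nodes Cfsg.Agent.Nodes.Reps Cfsg.Agent.Nodes.BNOf
  Cfsg.Agent.Nodes.RGDChev
open Cfsg.Agent.KFacts.RgdChevCoord Cfsg.Agent.GpExc.Field Cfsg.Agent.BpExc.TowChev Cfsg.Agent.H129.TorusChar
open Cfsg.Agent.H942.E8Tab Cfsg.Agent.H942.E8Alc Cfsg.Agent.H944.Tab Cfsg.Agent.H944.RootVals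
open Cfsg.Agent.H944.Kac
open Cfsg.Agent.H525.E8L (KK GK G8 TorZ)
open Cfsg.Agent.H942.CB (nsysT)

theorem exists_torZ {x : G8} {N : ℕ} (hN0 : N ≠ 0) (hN : N.Coprime 3) (hx : x ^ N = 1) {ζ : KK}
    (hζ : IsPrimitiveRoot ζ N) : ∃ v : Fin 8 → ZMod N, TorZ ζ x N v := by
  have : Fact (Nat.Prime 3) := ⟨Nat.prime_three⟩
  have : NeZero N := ⟨hN0⟩
  obtain ⟨v', ⟨z, t, ζ', hζ', hz, ht, hv⟩, -, -⟩ :=
    Cfsg.Agent.H942.CB.exists_valsTor e8T 3 (F := ZMod 3) hN0 hN hx KK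
  obtain ⟨a, -, ha⟩ := hζ.eq_pow_of_pow_eq_one hζ'.pow_eq_one
  refine ⟨fun i => ((a * (v' i).val : ℕ) : ZMod N), z, t, hz, ht, fun i => ?_⟩
  rw [hv i, ← ha, ← pow_mul, ZMod.val_natCast]
  exact (Cfsg.Agent.H942.CB.pow_mod_orderOf' hζ _).symm

theorem srefl_torZ {x : G8} {N : ℕ} [NeZero N] {ζ : KK} (hζ : IsPrimitiveRoot ζ N) {v : Fin 8 → ZMod N}
    (h : TorZ ζ x N v) (j : Fin 8) : TorZ ζ x N (srefl chevE8 8 j v) := by
  have h3 : Fact (Nat.Prime 3) := ⟨Nat.prime_three⟩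
  obtain ⟨z, t, hz, ht, hv⟩ := h
  have hkch : CharP KK 3 :=
    charP_of_injective_algebraMap (algebraMap (ZMod 3) KK).injective 3
  have hka : Algebra.IsAlgebraic (ZMod 3) KK := AlgebraicClosure.isAlgebraic _
  have hlf : LocFin KK := locFin_of_isAlgebraic 3 KK
  have hN : NSys CoxeterMatrix.E₈ (TT chevE8 KK) (nc e8T KK) := nsysT e8T hlf 3
  obtain ⟨cs, hcs⟩ : ∃ cs : CoxeterSystem CoxeterMatrix.E₈ CoxeterMatrix.E₈.Group, cs = CoxeterMatrix.E₈.toCoxeterSystem :=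
    ⟨_, rfl⟩
  have hn := rp_simple cs hN j
  set n := nc e8T KK j with hn'
  have ht' : n * t * n⁻¹ ∈ TT chevE8 KK := (Subgroup.mem_normalizer_iff.1 hn.mem_normalizer t).1 ht
  have hζ0 : ζ ≠ 0 := hζ.ne_zero (NeZero.ne N)
  have hzp : ∀ m : ℤ, ζ ^ m = ζ ^ ((m : ZMod N).val) := by
    intro m
    rw [← zpow_natCast, ZMod.val_intCast]
    have h1 : ζ ^ (N : ℤ) = 1 := by rw [zpow_natCast]; exact hζ.pow_eq_one
    conv_lhs => rw [← Int.emod_add_mul_ediv m N]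
    rw [zpow_add₀ hζ0, _root_.zpow_mul, h1, _root_.one_zpow, mul_one]
  refine ⟨z * n⁻¹, n * t * n⁻¹, ?_, ht', fun i => ?_⟩
  · rw [← hz]
    group
  · have h1 := cX_rp e8T cs hlf 3 hn ht (rep cs e8T.isCartan (cs.simple j) (sr i))
    rw [← rep_mul_apply, cs.simple_mul_simple_self, map_one, Module.End.one_apply] at h1
    rw [h1, rep_simple_eq, (isMC_cX e8T ht).sub, (isMC_cX e8T ht).zsmul, hv i, hv j]
    have h2 : pairing (cartanOf chevE8 8) j (sr i) = cartanOf chevE8 8 j i := by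
      unfold pairing
      rw [Finset.sum_eq_single i]
      · rw [sr_self, mul_one]
      · intro b _ hb
        rw [sr_ne hb, mul_zero]
      · intro h
        exact absurd (Finset.mem_univ i) h
    rw [h2, ← zpow_natCast, ← zpow_natCast, ← _root_.zpow_mul, ← zpow_sub₀ hζ0, hzp]
    congr 2
    unfold srefl
    push_cast
    rw [ZMod.natCast_zmod_val, ZMod.natCast_zmod_val, mul_comm]

/-- **alcove vectors** -/
theorem exists_alcZ {N : ℕ} (hN : 0 < N) {x : G8} {ζ : KK} (hζ : IsPrimitiveRoot ζ N) (v : Fin 8 → ZMod N)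
    (hv : TorZ ζ x N v) : ∃ Y : List ℕ, Y.length = 8 ∧ dotN th8 Y ≤ N ∧ TorZ ζ x N (vecL N Y) := by
  have : NeZero N := ⟨hN.ne'⟩
  obtain ⟨y, hy, hθ⟩ := exists_alcove e8T (N := N) hN _ _ 60 (by norm_num) theta8
    (by decide) _ pos8 (fun w => TorZ ζ x N w) (fun w j hw => srefl_torZ hζ hw j) (v₀ := v) hv
  let Y : List ℕ := List.ofFn y
  have hY : ∀ i : Fin 8, Y.getD i 0 = y i := by
    intro i
    rw [List.getD_eq_getElem _ _ (by rw [List.length_ofFn]; exact i.2), List.getElem_ofFn]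
  have hYv : vecL N Y = fun i => ((y i : ℕ) : ZMod N) := by
    funext i
    unfold vecL
    rw [hY]
  refine ⟨Y, by simp [Y], ?_, ?_⟩
  · rw [dotN_eq 8 th8 Y (by decide)]
    have h2 : ∑ i : Fin 8, th8.getD i 0 * Y.getD i 0 = ∑ i : Fin 8, th8.getD i 0 * y i :=
      Finset.sum_congr rfl fun i _ => by rw [hY]
    rw [h2]
    simp only [Fin.sum_univ_eight, Matrix.cons_val] at hθ ⊢
    simp only [th8, List.getD_cons_zero, List.getD_cons_succ, Fin.val_zero, Fin.val_one, Fin.val_two] at hθ ⊢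
    norm_num at hθ ⊢
    omega
  · rw [hYv]
    exact hy

/-- the trivial vector -/
theorem eq_one_of_zero {x : G8} {N : ℕ} {ζ : KK} {v : Fin 8 → ZMod N} (h : TorZ ζ x N v) (hv : v = 0) : x = 1 := by
  obtain ⟨z, t, hz, ht, hc⟩ := h
  have h1 : t = 1 := by
    refine cX_inj e8T ht (one_mem _) fun i => ?_
    rw [hc i, hv, cX_one, Pi.zero_apply, ZMod.val_zero, pow_zero]
  rw [h1] at hz
  have h2 : emb e8T.inList (algebraMap (ZMod 3) KK) x = 1 := by
    have h3 : z * (z⁻¹ * emb e8T.inList (algebraMap (ZMod 3) KK) x * z) * z⁻¹ = z * 1 * z⁻¹ := congrArg (fun y => z * y * z⁻¹) hz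
    rw [mul_one, mul_inv_cancel] at h3
    rw [← h3]
    group
  exact emb_injective e8T.inList (algebraMap (ZMod 3) KK) (h2.trans (map_one _).symm)

end Cfsg.Agent.H943.TorZ
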