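import Cfsg.Agent.H525.E8L.Dims
import Cfsg.Agent.H943.TorZ
import Cfsg.Agent.H943.Fusion
import Cfsg.Agent.S1093

/-!
# An element of prime order of `E8(3)`: the vector of its root values is conjugate to its cube (helper943, S5921)
-/

set_option autoImplicit false
set_option linter.unusedSectionVars false
set_option maxRecDepth 100000

namespace Cfsg.Agent.H943.WConj

open CoxeterSystem Subgroup Cfsg Cfsg.Lie Cfsg.Lie.ChevalleyDatum Polynomial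
open Cfsg.Agent.ChevalleyStructure Cfsg.Agent.ChevalleyStructure.Elts Cfsg.Agent.ChevalleyStructure.CoxeterGeom
  Cfsg.Agent.ChevalleyStructure.CoxeterGeomTypes Cfsg.Agent.ChevalleyStructure.NPerm
open Cfsg.Agent.Tits.Roots Cfsg.Agent.Tits.Core Cfsg.Agent.Nodes.Reps Cfsg.Agent.Nodes.BNOf
  Cfsg.Agent.Nodes.RGDChev Cfsg.Agent.Nodes.Bruhat
open Cfsg.Agent.KFacts.RgdField Cfsg.Agent.KFacts.RgdChevCoord Cfsg.Agent.BpExc.TorCent Cfsg.Agent.BpExc.TorChev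
open Cfsg.Agent.BpExc.Tow Cfsg.Agent.BpExc.TowChev Cfsg.Agent.BpExc.FamExt Cfsg.Agent.BpExc.FamUntw
  Cfsg.Agent.BpExc.FamInst Cfsg.Agent.BpExc.LangFr Cfsg.Agent.BpExc.FamField
open Cfsg.Agent.GpExc.Field (glMap emb coe_emb glMap_xG emb_injective coe_glMap)
open Cfsg.Agent.H378.TorDual Cfsg.Agent.H378.TorChar Cfsg.Agent.H378.TorFin Cfsg.Agent.H378.LatRoot
open Cfsg.Agent.H378.Regular Cfsg.Agent.H378
open Cfsg.Agent.H942.E8Tab (e8T)
open Cfsg.Agent.H129.TorusChar (cX cX_sr isMC_cX IsMC)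
open Cfsg.Agent.H525.E8L (KK GK G8 TorZ val_inj cX_vec_val eK)
open Cfsg.Agent.H944.RootVals Cfsg.Agent.H944.Kac

/-- the Coxeter system -/
abbrev cs8 : CoxeterSystem CoxeterMatrix.E₈ CoxeterMatrix.E₈.Group := CoxeterMatrix.E₈.toCoxeterSystem

theorem tchar_cX {t : GK} (ht : t ∈ TT chevE8 KK) (x : Fin 8 → ℤ) :
    ((tchar e8T ⟨t, ht⟩ (Multiplicative.ofAdd x) : KKˣ) : KK) = cX e8T t x := by
  have h1 : IsMC fun x : Fin 8 → ℤ => ((tchar e8T ⟨t, ht⟩ (Multiplicative.ofAdd x) : KKˣ) : KK) := by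
    refine ⟨?_, fun x y => ?_⟩
    · rw [ofAdd_zero, map_one, Units.val_one]
    · rw [ofAdd_add, map_mul, Units.val_mul]
  have h2 := h1.eq_prod x
  rw [(isMC_cX e8T ht).eq_prod x]
  refine h2.trans (Finset.prod_congr rfl fun i _ => ?_)
  show ((tchar e8T ⟨t, ht⟩ (Multiplicative.ofAdd (sr i)) : KKˣ) : KK) ^ x i = _
  rw [tchar_sr, cX_sr]

/-- **the vector is conjugate to its cube** -/
theorem exists_w {ℓ : ℕ} (hℓ : ℓ.Prime) (hℓ3 : ℓ ≠ 3) {η : KK} (hη : IsPrimitiveRoot η ℓ) {x : G8} (hx : x ^ ℓ = 1)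
    {v : Fin 8 → ZMod ℓ} (h : TorZ η x ℓ v) : ∃ w : CoxeterMatrix.E₈.Group, ∀ s s' : Fin chevE8.nroots,
      vec chevE8 8 s' = rep cs8 e8T.isCartan w (vec chevE8 8 s) → rv chevE8 8 v s' = 3 * rv chevE8 8 v s := by
  have h3 : Fact (Nat.Prime 3) := ⟨Nat.prime_three⟩
  have : NeZero ℓ := ⟨hℓ.ne_zero⟩
  obtain ⟨z, t, hz, ht, hv⟩ := h
  have hkch : CharP KK 3 :=
    charP_of_injective_algebraMap (algebraMap (ZMod 3) KK).injective 3
  have hka : Algebra.IsAlgebraic (ZMod 3) KK := AlgebraicClosure.isAlgebraic _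
  have hlf : LocFin KK := locFin_of_isAlgebraic 3 KK
  have hk' : BpExc.TorAll.HAlg 3 KK := hAlg_closure 3 (ZMod 3)
  obtain ⟨X, hX⟩ : ∃ X, X = eK x := ⟨_, rfl⟩
  have hXℓ : X ^ ℓ = 1 := by rw [hX, ← map_pow, hx, map_one]
  have hcard : Nat.card (ZMod 3) = 3 ^ 1 := by rw [Nat.card_zmod, pow_one]
  obtain ⟨c, hc⟩ := Fusion.frob_conj e8T 3 hk' (n := 1) (x := X)
    (by rw [hX]; exact phi_emb' e8T (algebraMap (ZMod 3) KK) 3 hcard x) hℓ hℓ3 hXℓ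
  rw [pow_one] at hc
  have hfin : Finite CoxeterMatrix.E₈.Group := by
    have hcard : Nat.card CoxeterMatrix.E₈.Group = 696729600 :=
      Cfsg.Agent.S1093.result (⟨8, CoxeterMatrix.E₈⟩, 696729600) (by simp)
    exact Nat.finite_of_card_ne_zero (by rw [hcard]; norm_num)
  have hzX : z⁻¹ * X * z = t := by rw [hX]; exact hz
  have hta : t ^ 3 = z⁻¹ * X ^ 3 * z := by
    rw [← hzX]
    have h1 := conj_pow (a := z⁻¹) (b := X) (i := 3)
    rwa [inv_inv] at h1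
  have hta' : t ^ 3 ∈ TT chevE8 KK := Subgroup.pow_mem _ ht _
  have e1 : z⁻¹ * c⁻¹ * z * t ^ 3 = t * (z⁻¹ * c⁻¹ * z) := by
    rw [hta, ← hc, ← hzX]
    group
  obtain ⟨m', -, w, g, hg, hgs, -⟩ := exists_form' e8T cs8 hlf 3 hta' ht e1
  have hgt : g * t ^ 3 * g⁻¹ = t := by rw [hgs]; group
  have hgm : g * t ^ 3 * g⁻¹ ∈ TT chevE8 KK := by rw [hgt]; exact ht
  have hχ := fun y => tchar_conj e8T cs8 hlf 3 hg hta' hgm y
  have e2 : (⟨g * t ^ 3 * g⁻¹, hgm⟩ : ↥(TT chevE8 KK)) = ⟨t, ht⟩ := Subtype.ext hgt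
  have e3 : (⟨t ^ 3, hta'⟩ : ↥(TT chevE8 KK)) = ⟨t, ht⟩ ^ 3 := rfl
  rw [e2, e3, map_pow] at hχ
  refine ⟨w, fun s s' hs => ?_⟩
  have h4 := congrArg (fun u : KKˣ => (u : KK)) (hχ (vec chevE8 8 s))
  simp only [MonoidHom.pow_apply, Units.val_pow_eq_pow_val] at h4
  rw [← hs, tchar_cX, tchar_cX, cX_vec_val hη ht hv, cX_vec_val hη ht hv, ← pow_mul] at h4
  have h5 : η ^ ((rv chevE8 8 v s).val * 3) = η ^ (3 * rv chevE8 8 v s).val := by
    have h6 := Cfsg.Agent.H942.CB.pow_mod_orderOf' hη ((rv chevE8 8 v s).val * 3)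
    rw [← h6, ← ZMod.val_natCast]
    congr 2
    push_cast
    rw [ZMod.natCast_zmod_val, mul_comm]
  exact (val_inj hη).1 (h4.trans h5)

end Cfsg.Agent.H943.WConj
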