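import Cfsg.Agent.H943.En41
import Cfsg.Agent.H943.WConj
import Cfsg.Agent.H943.ClassA

/-!
# No element of order 41 of `E8(3)` has all nontrivial eigenvalues with multiplicity 6 (helper943, S5921)

There are two vectors modulo 41 with these multiplicities, invariant under multiplication with 3; they are not conjugate
to their multiples by 3: the number of pairs of roots with value `c` whose sum is a root is different for `c` and `3 c`.
-/

set_option autoImplicit false
set_option maxRecDepth 100000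

namespace Cfsg.Agent.H943.No6

open Cfsg.Lie Cfsg.Agent.ChevalleyStructure Cfsg.Agent.H944.RootVals Cfsg.Agent.ChevalleyStructure.RootVecTab
  Cfsg.Agent.Nodes.RGDChev Cfsg.Agent.H944.Tab Cfsg.Agent.H944.Kac
open Cfsg.Agent.Tits.Roots Cfsg.Agent.ChevalleyStructure.CoxeterGeom
  Cfsg.Agent.ChevalleyStructure.CoxeterGeomTypes
open Cfsg.Agent.H942.E8Tab (e8T)
open Cfsg.Agent.H942.E8Alc Cfsg.Agent.H943.TorZ Cfsg.Agent.H943.WConj
open Cfsg.Agent.H525.E8L (KK GK G8 TorZ)

/-- the values of the roots -/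
def sv (Y : List ℕ) (s : Fin chevE8.nroots) : ℤ := (∑ i : Fin 8, vec chevE8 8 s i * (Y.getD i 0 : ℤ)) % 41

/-- the roots with a given value -/
def V (Y : List ℕ) (c : ℤ) : Finset (Fin chevE8.nroots) := Finset.univ.filter fun s => sv Y s = c

/-- the pairs of roots with a given value whose sum is a root -/
def P (Y : List ℕ) (c : ℤ) : Finset (Fin chevE8.nroots × Fin chevE8.nroots) :=
  (V Y c ×ˢ V Y c).filter fun p => ∃ q : Fin chevE8.nroots, ∀ i : Fin 8,
    vec chevE8 8 p.1 i + vec chevE8 8 p.2 i = vec chevE8 8 q i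

theorem card_A1 : (P [3,2,1,1,1,1,1,1] 1).card = 10 := by decide +kernel
theorem card_A3 : (P [3,2,1,1,1,1,1,1] 3).card = 8 := by decide +kernel
theorem card_B3 : (P [2,1,1,1,1,1,2,4] 3).card = 10 := by decide +kernel
theorem card_B9 : (P [2,1,1,1,1,1,2,4] 9).card = 8 := by decide +kernel

theorem rv_eq (Y : List ℕ) (s : Fin chevE8.nroots) : rv chevE8 8 (vecL 41 Y) s = ((sv Y s : ℤ) : ZMod 41) := by
  unfold sv rv vecL
  have h1 := ZMod.intCast_mod (∑ i : Fin 8, vec chevE8 8 s i * (Y.getD i 0 : ℤ)) 41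
  rw [show ((41 : ℕ) : ℤ) = 41 from rfl] at h1
  rw [h1]
  push_cast
  rfl

theorem sv_eq_iff (Y : List ℕ) (s : Fin chevE8.nroots) {c : ℤ} (hc0 : 0 ≤ c) (hc : c < 41) :
    sv Y s = c ↔ rv chevE8 8 (vecL 41 Y) s = (c : ZMod 41) := by
  rw [rv_eq, ZMod.intCast_eq_intCast_iff_dvd_sub]
  have h1 : 0 ≤ sv Y s := Int.emod_nonneg _ (by norm_num)
  have h2 : sv Y s < 41 := Int.emod_lt_of_pos _ (by norm_num)
  constructor
  · intro h
    rw [h, sub_self]
    exact dvd_zero _
  · rintro ⟨m, hm⟩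
    have h3 : ((41 : ℕ) : ℤ) = 41 := rfl
    rw [h3] at hm
    omega

theorem P_le {Y : List ℕ} {w : CoxeterMatrix.E₈.Group} (hw : ∀ s s' : Fin chevE8.nroots,
    vec chevE8 8 s' = rep cs8 e8T.isCartan w (vec chevE8 8 s) →
      rv chevE8 8 (vecL 41 Y) s' = 3 * rv chevE8 8 (vecL 41 Y) s) {c : ℤ} (hc0 : 0 ≤ c) (hc : 3 * c < 41) :
    (P Y c).card ≤ (P Y (3 * c)).card := by
  have h1 : ∀ s : Fin chevE8.nroots, ∃ s' : Fin chevE8.nroots,
      vec chevE8 8 s' = rep cs8 e8T.isCartan w (vec chevE8 8 s) := by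
    intro s
    obtain ⟨r, hr, e⟩ := (isRoot_iff e8T cs8 _).1 ((isRoot_vec e8T cs8 s.2).act w)
    exact ⟨⟨r, hr⟩, e⟩
  choose π hπ using h1
  have hV : ∀ s, s ∈ V Y c → π s ∈ V Y (3 * c) := by
    intro s hs
    unfold V at hs ⊢
    rw [Finset.mem_filter] at hs ⊢
    refine ⟨Finset.mem_univ _, ?_⟩
    rw [sv_eq_iff Y _ (by omega) hc, hw _ _ (hπ s), (sv_eq_iff Y s hc0 (by omega)).1 hs.2]
    push_cast
    rfl
  have hinj : Function.Injective π := by
    intro s s' h
    have h2 : rep cs8 e8T.isCartan w (vec chevE8 8 s) = rep cs8 e8T.isCartan w (vec chevE8 8 s') := by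
      rw [← hπ, ← hπ, h]
    have h3 := congrArg (rep cs8 e8T.isCartan w⁻¹) h2
    rw [← rep_mul_apply, ← rep_mul_apply, inv_mul_cancel, map_one, Module.End.one_apply, Module.End.one_apply] at h3
    exact Fin.ext (vec_inj e8T s.2 s'.2 h3)
  refine Finset.card_le_card_of_injOn (fun p => (π p.1, π p.2)) ?_ ?_
  · intro p hp
    rw [Finset.mem_coe] at hp ⊢
    unfold P at hp ⊢
    rw [Finset.mem_filter, Finset.mem_product] at hp ⊢
    obtain ⟨⟨h2, h3⟩, q, hq⟩ := hp
    refine ⟨⟨hV _ h2, hV _ h3⟩, π q, fun i => ?_⟩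
    have h4 : vec chevE8 8 p.1 + vec chevE8 8 p.2 = vec chevE8 8 q := funext hq
    show vec chevE8 8 (π p.1) i + vec chevE8 8 (π p.2) i = _
    rw [hπ, hπ, hπ, ← h4, map_add]
    rfl
  · intro p _ p' _ h
    have h2 := congrArg Prod.fst h
    have h3 := congrArg Prod.snd h
    exact Prod.ext (hinj h2) (hinj h3)

theorem flat41 : ∀ Y ∈ En41.list41, (En.pv Y).count 1 + (En.pv Y).count 40 = 6 →
    (En.pv Y).count 2 + (En.pv Y).count 39 = 6 → (En.pv Y).count 4 + (En.pv Y).count 37 = 6 →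
    (En.pv Y).count 7 + (En.pv Y).count 34 = 6 → (En.pv Y).count 8 + (En.pv Y).count 33 = 6 →
    Y = [3,2,1,1,1,1,1,1] ∨ Y = [2,1,1,1,1,1,2,4] := by decide +kernel

/-- **no such element of order 41** -/
theorem no6 {η : KK} (hη : IsPrimitiveRoot η 41) {x : G8} (hx : x ^ 41 = 1) {v : Fin 8 → ZMod 41} (h : TorZ η x 41 v)
    (h6 : ∀ κ : ZMod 41, κ ≠ 0 → (ms chevE8 8 v).count κ = 6) : False := by
  obtain ⟨Y, hl, hθ, hY⟩ := exists_alcZ (by norm_num) hη v h
  have hst := ClassA.stable (by norm_num) (by norm_num) hx hη hY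
  have hc : ∀ κ : ZMod 41, κ ≠ 0 → (ms chevE8 8 (vecL 41 Y)).count κ = 6 := by
    intro κ hκ
    have h1 := Cfsg.Agent.H525.E8L.TorZ.dims hη h κ
    have h2 := Cfsg.Agent.H525.E8L.TorZ.dims hη hY κ
    rw [h1, if_neg hκ, zero_add, zero_add, h6 κ hκ] at h2
    exact h2.symm
  have h3 : Function.Injective fun a : ZMod 41 => 3 * a := by
    intro a b h
    have h1 : (14 : ZMod 41) * (3 * a) = 14 * (3 * b) := congrArg (fun z => 14 * z) h
    rw [← mul_assoc, ← mul_assoc, show (14 : ZMod 41) * 3 = 1 by decide, one_mul, one_mul] at h1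
    exact h1
  have hst' : ∀ c : ZMod 41, (ms chevE8 8 (vecL 41 Y)).count (3 * c) = (ms chevE8 8 (vecL 41 Y)).count c := by
    intro c
    conv_lhs => rw [hst]
    exact Multiset.count_map_eq_count' _ _ h3 c
  have hmem := En41.enum41 hl hθ hst'
  have hcc : ∀ r : ℕ, 0 < r → r < 41 → ((r : ℕ) : ZMod 41) ≠ 0 → (En.pv Y).count r + (En.pv Y).count (41 - r) = 6 := by
    intro r hr hr' hr0
    rw [← hc _ hr0]
    exact (En.count_vec Y hθ hr hr').symm
  have hAB := flat41 Y hmem (hcc 1 (by norm_num) (by norm_num) (by decide)) (hcc 2 (by norm_num) (by norm_num) (by decide))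
    (hcc 4 (by norm_num) (by norm_num) (by decide)) (hcc 7 (by norm_num) (by norm_num) (by decide))
    (hcc 8 (by norm_num) (by norm_num) (by decide))
  obtain ⟨w, hw⟩ := exists_w (by norm_num) (by norm_num) hη hx hY
  rcases hAB with rfl | rfl
  · have h7 := P_le hw (c := 1) (by norm_num) (by norm_num)
    rw [mul_one, card_A1, card_A3] at h7
    omega
  · have h7 := P_le hw (c := 3) (by norm_num) (by norm_num)
    rw [show (3 : ℤ) * 3 = 9 by norm_num, card_B3, card_B9] at h7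
    omega

end Cfsg.Agent.H943.No6
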