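import Cfsg.Agent.H943.DimFix
import Cfsg.Agent.H943.E8Tab
import Cfsg.Agent.H593.RobinsonRank
import Cfsg.Agent.S1093

/-!
# Fixed spaces of elements of `E8(3)` of order 1093 (helper943, S5921)
-/

set_option autoImplicit false
set_option maxRecDepth 10000

namespace Cfsg.Agent.H943.E8Fix

open Cfsg.Agent.ChevalleyStructure.CoxeterGeom Cfsg.Agent.Tits.Roots
  Cfsg.Agent.Nodes.RGDChev
open Cfsg.Lie Cfsg.Agent.ChevalleyStructure Cfsg.Agent.ChevalleyStructure.Elts
  Cfsg.Agent.ChevalleyStructure.NPerm Cfsg.Agent.ChevalleyStructure.CoxeterGeomTypes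
open Cfsg.Agent.GpExc.Field (emb emb_injective coe_emb coe_glMap)
open Cfsg.Agent.H378.TorFin Cfsg.Agent.H378.TorDual
open Cfsg.Agent.H943.LatFix

/-- the Cartan matrix of `E8` -/
def C8 : Fin 8 → Fin 8 → ℤ :=
  ![![2, 0, -1, 0, 0, 0, 0, 0], ![0, 2, 0, -1, 0, 0, 0, 0], ![-1, 0, 2, -1, 0, 0, 0, 0], ![0, -1, -1, 2, -1, 0, 0, 0],
    ![0, 0, 0, -1, 2, -1, 0, 0], ![0, 0, 0, 0, -1, 2, -1, 0], ![0, 0, 0, 0, 0, -1, 2, -1], ![0, 0, 0, 0, 0, 0, -1, 2]]

theorem cartan_eq : cartanOf chevE8 8 = C8 := by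
  funext i j
  revert i j
  decide +kernel

theorem C8_symm : ∀ i j, C8 i j = C8 j i := by decide +kernel

theorem C8_diag : ∀ i, C8 i i = 2 := by decide +kernel

theorem ipQ_C8 (x : Fin 8 → ℚ) : ipQ C8 x x = 2 * (x 0 - x 2 / 2) ^ 2 + 2 * (x 1 - x 3 / 2) ^ 2 +
    3 / 2 * (x 2 - 2 / 3 * x 3) ^ 2 + 5 / 6 * (x 3 - 6 / 5 * x 4) ^ 2 + 4 / 5 * (x 4 - 5 / 4 * x 5) ^ 2 +
    3 / 4 * (x 5 - 4 / 3 * x 6) ^ 2 + 2 / 3 * (x 6 - 3 / 2 * x 7) ^ 2 + 1 / 2 * x 7 ^ 2 := by
  simp only [ipQ, C8, Fin.sum_univ_eight, Matrix.cons_val]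
  push_cast
  ring

theorem ipQ_C8_pos (x : Fin 8 → ℚ) (h : ipQ C8 x x = 0) : x = 0 := by
  rw [ipQ_C8] at h
  have a0 := sq_nonneg (x 0 - x 2 / 2)
  have a1 := sq_nonneg (x 1 - x 3 / 2)
  have a2 := sq_nonneg (x 2 - 2 / 3 * x 3)
  have a3 := sq_nonneg (x 3 - 6 / 5 * x 4)
  have a4 := sq_nonneg (x 4 - 5 / 4 * x 5)
  have a5 := sq_nonneg (x 5 - 4 / 3 * x 6)
  have a6 := sq_nonneg (x 6 - 3 / 2 * x 7)
  have a7 := sq_nonneg (x 7)
  have b7 : x 7 = 0 := pow_eq_zero_iff two_ne_zero |>.1 (by linarith)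
  have b6 : x 6 - 3 / 2 * x 7 = 0 := pow_eq_zero_iff two_ne_zero |>.1 (by linarith)
  have b5 : x 5 - 4 / 3 * x 6 = 0 := pow_eq_zero_iff two_ne_zero |>.1 (by linarith)
  have b4 : x 4 - 5 / 4 * x 5 = 0 := pow_eq_zero_iff two_ne_zero |>.1 (by linarith)
  have b3 : x 3 - 6 / 5 * x 4 = 0 := pow_eq_zero_iff two_ne_zero |>.1 (by linarith)
  have b2 : x 2 - 2 / 3 * x 3 = 0 := pow_eq_zero_iff two_ne_zero |>.1 (by linarith)
  have b1 : x 1 - x 3 / 2 = 0 := pow_eq_zero_iff two_ne_zero |>.1 (by linarith)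
  have b0 : x 0 - x 2 / 2 = 0 := pow_eq_zero_iff two_ne_zero |>.1 (by linarith)
  funext i
  rw [Pi.zero_apply]
  have c6 : x 6 = 0 := by linarith
  have c5 : x 5 = 0 := by linarith
  have c4 : x 4 = 0 := by linarith
  have c3 : x 3 = 0 := by linarith
  have c2 : x 2 = 0 := by linarith
  have c1 : x 1 = 0 := by linarith
  have c0 : x 0 = 0 := by linarith
  fin_cases i <;> assumption

theorem ip_C8_nonneg (x : Fin 8 → ℤ) : 0 ≤ ip C8 x x := by
  have h : (0 : ℚ) ≤ ipQ C8 (H378.LatCyc.vq x) (H378.LatCyc.vq x) := by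
    rw [ipQ_C8]
    positivity
  rw [ipQ_vq] at h
  exact_mod_cast h

/-- base change for the dimension of an eigenspace -/
theorem finrank_ker_map {F K : Type*} [Field F] [Field K] (f : F →+* K) {n : Type*} [Fintype n] [DecidableEq n]
    (A : Matrix n n F) :
    Module.finrank K (LinearMap.ker (Matrix.toLin' (A.map f) - (1 : K) • (1 : Module.End K (n → K)))) =
      Module.finrank F (LinearMap.ker (Matrix.toLin' A - (1 : F) • (1 : Module.End F (n → F)))) := by
  have key : ∀ {K : Type _} [Field K] (B : Matrix n n K),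
      (B - 1).rank + Module.finrank K (LinearMap.ker (Matrix.toLin' B - (1 : K) • (1 : Module.End K (n → K)))) =
        Fintype.card n := by
    intro K _ B
    have e2 : Matrix.toLin' B - (1 : K) • (1 : Module.End K (n → K)) = Matrix.toLin' (B - 1) := by
      rw [map_sub, Matrix.toLin'_one, one_smul]
      rfl
    rw [e2]
    have := LinearMap.finrank_range_add_finrank_ker (Matrix.toLin' (B - 1))
    rw [Module.finrank_fintype_fun_eq_card] at this
    rw [← this]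
    rfl
  have key' : ∀ {K : Type _} [Field K] (B : Matrix n n K),
      (B - 1).rank + Module.finrank K (LinearMap.ker (Matrix.toLin' B - (1 : K) • (1 : Module.End K (n → K)))) =
        Fintype.card n := by
    intro K _ B
    have e2 : Matrix.toLin' B - (1 : K) • (1 : Module.End K (n → K)) = Matrix.toLin' (B - 1) := by
      rw [map_sub, Matrix.toLin'_one, one_smul]
      rfl
    rw [e2]
    have := LinearMap.finrank_range_add_finrank_ker (Matrix.toLin' (B - 1))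
    rw [Module.finrank_fintype_fun_eq_card] at this
    rw [← this]
    rfl
  have k1 := key A
  have k2 := key' (A.map f)
  have k3 : (A.map f - 1).rank = (A - 1).rank := by
    rw [← Cfsg.Agent.H593.RobinsonRank.rank_map f (A - 1)]
    congr 1
    rw [Matrix.map_sub _ (map_sub _), Matrix.map_one _ (map_zero _) (map_one _)]
  rw [k3] at k2
  omega

/-- **elements of `E8(3)` of order 1093 have fixed spaces of dimension at most 20** -/
theorem finrank_1093 {x : ↥(chevE8.group (ZMod 3))} (hx : x ^ 1093 = 1) (hx1 : x ≠ 1) :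
    Module.finrank (ZMod 3) (LinearMap.ker (Matrix.toLin' (((x : ↥(chevE8.group (ZMod 3))) : GL chevE8.Idx (ZMod 3)) :
        Matrix chevE8.Idx chevE8.Idx (ZMod 3)) - (1 : ZMod 3) • (1 : Module.End (ZMod 3) (chevE8.Idx → ZMod 3)))) ≤ 20 := by
  classical
  have : Fact (Nat.Prime 3) := ⟨Nat.prime_three⟩
  obtain ⟨k, _, _, f, r, _, _, n, hk, hka, hn0, hn⟩ := exists_closure (ZMod 3)
  have hn3 : r ^ n = 3 := by rw [← hn, Nat.card_zmod]
  have hr3 : r = 3 := by
    have h1 : r ∣ 3 := hn3 ▸ dvd_pow_self r hn0.ne'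
    exact (Nat.prime_dvd_prime_iff_eq (Fact.out (p := r.Prime)) Nat.prime_three).1 h1
  have hp1093 : Nat.Prime 1093 := by norm_num
  have : Fact (Nat.Prime 7) := ⟨by norm_num⟩
  have hr : (1093 : ℕ) ≠ r := by rw [hr3]; norm_num
  set X := emb E8Tab.e8T.inList f x with hX
  have hXl : X ^ 1093 = 1 := by rw [hX, ← map_pow, hx, map_one]
  have hX1 : X ≠ 1 := fun h => hx1 (emb_injective E8Tab.e8T.inList f (h.trans (map_one _).symm))
  have hc3 := Fusion.frob_conj E8Tab.e8T r hka (n := n) (phi_emb' E8Tab.e8T f r hn x) (ℓ := 1093) hp1093 hr hXl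
  rw [hn3] at hc3
  let cs : CoxeterSystem CoxeterMatrix.E₈ CoxeterMatrix.E₈.Group := CoxeterMatrix.E₈.toCoxeterSystem
  have hcard : Nat.card CoxeterMatrix.E₈.Group = 696729600 :=
    Cfsg.Agent.S1093.result (⟨8, CoxeterMatrix.E₈⟩, 696729600) (by simp)
  have : Finite CoxeterMatrix.E₈.Group := Nat.finite_of_card_ne_zero (by rw [hcard]; norm_num)
  obtain ⟨w, χ, h1, h2, h3, h4⟩ := DimFix.exists_char E8Tab.e8T cs hk r hka hp1093 hr hXl hX1 hc3
  have e1 : ((X : GL chevE8.Idx k) : Matrix chevE8.Idx chevE8.Idx k) =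
      (((x : ↥(chevE8.group (ZMod 3))) : GL chevE8.Idx (ZMod 3)) : Matrix chevE8.Idx chevE8.Idx (ZMod 3)).map f := by
    rw [hX, coe_emb, coe_glMap]
  rw [e1, finrank_ker_map] at h4
  rw [h4]
  have hinj : Function.Injective fun s : Fin chevE8.nroots => vec chevE8 8 s := fun a b hab =>
    Fin.ext (vec_inj E8Tab.e8T a.2 b.2 hab)
  have h5 := card_le (cs := cs) (h := E8Tab.e8T.isCartan) (k := k) (by rw [cartan_eq]; exact C8_symm)
    (by rw [cartan_eq]; exact C8_diag) (by rw [cartan_eq]; exact ipQ_C8_pos) (by rw [cartan_eq]; exact ip_C8_nonneg)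
    (m := 7) (by norm_num) (by decide) (w := w) (ℓ := 1093) hp1093 (by rw [hcard]; norm_num) (by norm_num) (q := 3)
    (by
      rw [Polynomial.cyclotomic_prime]
      simp [Finset.sum_range_succ])
    (by norm_num) h1 h2 h3
    (((Finset.univ.filter fun s : Fin chevE8.nroots => χ (Multiplicative.ofAdd (vec chevE8 8 s)) = 1)).map ⟨_, hinj⟩)
    (by
      intro a ha
      rw [Finset.mem_map] at ha
      obtain ⟨s, hs, rfl⟩ := ha
      exact ⟨isRoot_vec E8Tab.e8T cs s.2, (Finset.mem_filter.1 hs).2⟩)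
  rw [Finset.card_map] at h5
  have h6 : chevE8.rank = 8 := rfl
  rw [h6]
  omega

end Cfsg.Agent.H943.E8Fix
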