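import Mathlib

/-!
# The alcove lemma by minimality (helper943)

`v : Fin n → ℤ` : the values of a functional on the simple roots; `sv A j v` : the reflected functional;
`sr A j a` : the reflected root; `dot a v` : the value on the root `a`.

`exists_min` : a set of functionals stable under the reflections `s_j`, `j ∈ J`, and under `N ℤ^n` contains a functional
`t` with `0 ≤ t_j` for `j ∈ J`, `0 ≤ t_i < N` for `i ∉ J`, and of minimal norm.
-/

set_option autoImplicit false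

namespace Cfsg.Agent.H943.Alc

variable {n : ℕ}

/-- the value of a functional -/
def dot (a v : Fin n → ℤ) : ℤ := ∑ i, a i * v i

/-- the reflected functional -/
def sv (A : Fin n → Fin n → ℤ) (j : Fin n) (v : Fin n → ℤ) : Fin n → ℤ := fun i => v i - A i j * v j

/-- the reflected root -/
def sr (A : Fin n → Fin n → ℤ) (j : Fin n) (a : Fin n → ℤ) : Fin n → ℤ :=
  fun i => a i - if i = j then ∑ l, a l * A l j else 0

theorem dot_sv (A : Fin n → Fin n → ℤ) (j : Fin n) (a v : Fin n → ℤ) : dot a (sv A j v) = dot (sr A j a) v := by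
  unfold dot sv sr
  have h1 : ∑ i, a i * (v i - A i j * v j) = ∑ i, a i * v i - (∑ i, a i * A i j) * v j := by
    rw [Finset.sum_mul, ← Finset.sum_sub_distrib]
    exact Finset.sum_congr rfl fun i _ => by ring
  have h2 : ∑ i, (a i - if i = j then ∑ l, a l * A l j else 0) * v i =
      ∑ i, a i * v i - (∑ i, a i * A i j) * v j := by
    have h3 : ∀ i, (a i - if i = j then ∑ l, a l * A l j else 0) * v i =
        a i * v i - if i = j then (∑ l, a l * A l j) * v j else 0 := by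
      intro i
      by_cases hi : i = j
      · rw [if_pos hi, if_pos hi, hi]; ring
      · rw [if_neg hi, if_neg hi]; ring
    rw [Finset.sum_congr rfl fun i _ => h3 i, Finset.sum_sub_distrib, Finset.sum_ite_eq', if_pos (Finset.mem_univ j)]
  rw [h1, h2]

theorem dot_add (a v w : Fin n → ℤ) : dot a (v + w) = dot a v + dot a w := by
  unfold dot
  rw [← Finset.sum_add_distrib]
  exact Finset.sum_congr rfl fun i _ => by rw [Pi.add_apply, mul_add]

theorem dot_smul (a v : Fin n → ℤ) (c : ℤ) : dot a (c • v) = c * dot a v := by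
  unfold dot
  rw [Finset.mul_sum]
  exact Finset.sum_congr rfl fun i _ => by rw [Pi.smul_apply, smul_eq_mul]; ring

theorem dot_single (i : Fin n) (v : Fin n → ℤ) : dot (Pi.single i 1) v = v i := by
  unfold dot
  rw [Finset.sum_eq_single i]
  · rw [Pi.single_eq_same, one_mul]
  · intro j _ hj
    rw [Pi.single_eq_of_ne hj, zero_mul]
  · intro h0
    exact absurd (Finset.mem_univ i) h0

/-- the norm -/
def Q (RJ : List (Fin n → ℤ)) (v : Fin n → ℤ) : ℤ := (RJ.map fun a => dot a v ^ 2).sum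

theorem Q_nonneg (RJ : List (Fin n → ℤ)) (v : Fin n → ℤ) : 0 ≤ Q RJ v := by
  unfold Q
  refine List.sum_nonneg fun x hx => ?_
  obtain ⟨a, -, rfl⟩ := List.mem_map.1 hx
  exact sq_nonneg _

theorem sq_le_Q {RJ : List (Fin n → ℤ)} {a : Fin n → ℤ} (ha : a ∈ RJ) (v : Fin n → ℤ) : dot a v ^ 2 ≤ Q RJ v := by
  unfold Q
  refine List.single_le_sum (fun x hx => ?_) _ (List.mem_map.2 ⟨a, ha, rfl⟩)
  obtain ⟨b, -, rfl⟩ := List.mem_map.1 hx
  exact sq_nonneg _

theorem Q_sv {A : Fin n → Fin n → ℤ} {RJ : List (Fin n → ℤ)} {j : Fin n} (h : (RJ.map (sr A j)).Perm RJ)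
    (v : Fin n → ℤ) : Q RJ (sv A j v) = Q RJ v := by
  unfold Q
  have h1 : (RJ.map fun a => dot a (sv A j v) ^ 2) = (RJ.map (sr A j)).map fun a => dot a v ^ 2 := by
    rw [List.map_map]
    exact List.map_congr_left fun a _ => by rw [dot_sv]; rfl
  rw [h1]
  exact (h.map _).sum_eq

/-- the bilinear form as a functional -/
def bv (RJ : List (Fin n → ℤ)) (d : Fin n → ℤ) : Fin n → ℤ := fun i => (RJ.map fun a => a i * dot a d).sum

theorem dot_bv (RJ : List (Fin n → ℤ)) (d v : Fin n → ℤ) :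
    dot (bv RJ d) v = (RJ.map fun a => dot a v * dot a d).sum := by
  induction RJ with
  | nil => simp [bv, dot]
  | cons a RJ ih =>
    rw [List.map_cons, List.sum_cons, ← ih]
    unfold dot bv
    simp only [List.map_cons, List.sum_cons]
    rw [Finset.sum_mul, ← Finset.sum_add_distrib]
    exact Finset.sum_congr rfl fun i _ => by unfold dot; ring

theorem Q_add (RJ : List (Fin n → ℤ)) (v d : Fin n → ℤ) (c : ℤ) :
    Q RJ (v + c • d) = Q RJ v + 2 * c * dot (bv RJ d) v + c ^ 2 * Q RJ d := by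
  rw [dot_bv]
  unfold Q
  induction RJ with
  | nil => simp
  | cons a RJ ih =>
    simp only [List.map_cons, List.sum_cons]
    rw [ih, dot_add, dot_smul]
    ring

/-- **The inequality from minimality.** -/
theorem le_of_min {RJ : List (Fin n → ℤ)} {t : Fin n → ℤ} {N : ℤ} (hN : 0 < N)
    (h : ∀ d : Fin n → ℤ, Q RJ t ≤ Q RJ (t + N • d)) (d : Fin n → ℤ) :
    2 * dot (bv RJ d) t ≤ N * Q RJ d := by
  have h1 := h (-d)
  have h2 : t + N • (-d) = t + (-N) • d := by rw [smul_neg, neg_smul]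
  rw [h2, Q_add] at h1
  have h3 : N * (2 * dot (bv RJ d) t) ≤ N * (N * Q RJ d) := by nlinarith
  exact le_of_mul_le_mul_left h3 hN

/-- **the minimal functional** -/
theorem exists_min (A : Fin n → Fin n → ℤ) (J : Finset (Fin n)) (RJ : List (Fin n → ℤ)) (r : Fin n → ℕ) {N : ℤ}
    (hN : 0 < N) (h1 : ∀ j ∈ J, (RJ.map (sr A j)).Perm RJ) (h2 : ∀ j ∈ J, Pi.single j 1 ∈ RJ)
    (h3 : ∀ a ∈ RJ, ∀ i, i ∉ J → a i = 0) (h4 : ∀ j ∈ J, ∑ i, (r i : ℤ) * A i j = 2) (h5 : ∀ i, i ∉ J → r i = 0)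
    (T : (Fin n → ℤ) → Prop) (hne : ∃ t, T t) (hs : ∀ j ∈ J, ∀ t, T t → T (sv A j t))
    (ht : ∀ t d, T t → T (t + N • d)) :
    ∃ t, T t ∧ (∀ j ∈ J, 0 ≤ t j) ∧ (∀ i, i ∉ J → 0 ≤ t i ∧ t i < N) ∧ ∀ d, Q RJ t ≤ Q RJ (t + N • d) := by
  classical
  -- minimal norm
  have hex : ∃ m : ℕ, ∃ t, T t ∧ Q RJ t = m := by
    obtain ⟨t, h⟩ := hne
    exact ⟨(Q RJ t).toNat, t, h, (Int.toNat_of_nonneg (Q_nonneg RJ t)).symm⟩
  obtain ⟨m, hm, hmin⟩ : ∃ m : ℕ, (∃ t, T t ∧ Q RJ t = m) ∧ ∀ t, T t → (m : ℤ) ≤ Q RJ t := by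
    refine ⟨Nat.find hex, Nat.find_spec hex, fun t h => ?_⟩
    by_contra hcon
    push Not at hcon
    have h6 := Q_nonneg RJ t
    refine Nat.find_min hex (m := (Q RJ t).toNat) ?_ ⟨t, h, (Int.toNat_of_nonneg h6).symm⟩
    omega
  -- the linear functional
  let φ : (Fin n → ℤ) → ℤ := fun t => ∑ i, (r i : ℤ) * t i
  have hφ : ∀ t, T t → Q RJ t = m → φ t ≤ ∑ i, (r i : ℤ) * m := by
    intro t _ hq
    refine Finset.sum_le_sum fun i _ => ?_
    by_cases hi : i ∈ J
    · refine mul_le_mul_of_nonneg_left ?_ (Nat.cast_nonneg _)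
      have h6 := sq_le_Q (h2 i hi) t
      rw [dot_single, hq] at h6
      nlinarith [sq_nonneg (t i), sq_nonneg (t i - 1)]
    · rw [h5 i hi, Nat.cast_zero, zero_mul, zero_mul]
  obtain ⟨t₀, ht₀, hq₀⟩ := hm
  have hex2 : ∃ c : ℕ, ∃ t, T t ∧ Q RJ t = m ∧ φ t = (∑ i, (r i : ℤ) * m) - c := by
    refine ⟨((∑ i, (r i : ℤ) * m) - φ t₀).toNat, t₀, ht₀, hq₀, ?_⟩
    have := hφ t₀ ht₀ hq₀
    omega
  obtain ⟨c, ⟨t, hT, hq, hc⟩, hcmin⟩ : ∃ c : ℕ, (∃ t, T t ∧ Q RJ t = m ∧ φ t = (∑ i, (r i : ℤ) * m) - c) ∧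
      ∀ t, T t → Q RJ t = m → φ t ≤ (∑ i, (r i : ℤ) * m) - c := by
    refine ⟨Nat.find hex2, Nat.find_spec hex2, fun t h hq => ?_⟩
    by_contra hcon
    push Not at hcon
    have h6 := hφ t h hq
    refine Nat.find_min hex2 (m := ((∑ i, (r i : ℤ) * m) - φ t).toNat) ?_ ⟨t, h, hq, ?_⟩
    · omega
    · omega
  have hdom : ∀ j ∈ J, 0 ≤ t j := by
    intro j hj
    by_contra hcon
    push Not at hcon
    have h6 := hcmin (sv A j t) (hs j hj t hT) (by rw [Q_sv (h1 j hj), hq])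
    have h7 : φ (sv A j t) = φ t - 2 * t j := by
      show ∑ i, (r i : ℤ) * (t i - A i j * t j) = ∑ i, (r i : ℤ) * t i - 2 * t j
      rw [← h4 j hj, Finset.sum_mul, ← Finset.sum_sub_distrib]
      exact Finset.sum_congr rfl fun i _ => by ring
    omega
  -- normalize the other coordinates
  let d : Fin n → ℤ := fun i => if i ∈ J then 0 else -(t i / N)
  have hJ : ∀ j ∈ J, (t + N • d) j = t j := by
    intro j hj
    show t j + N * (if j ∈ J then 0 else -(t j / N)) = t j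
    rw [if_pos hj, mul_zero, add_zero]
  have hdot : ∀ a ∈ RJ, ∀ e : Fin n → ℤ, dot a (t + N • d + e) = dot a (t + e) := by
    intro a ha e
    rw [dot_add, dot_add, dot_add]
    have h6 : dot a (N • d) = 0 := by
      unfold dot
      refine Finset.sum_eq_zero fun i _ => ?_
      by_cases hi : i ∈ J
      · show a i * (N * (if i ∈ J then 0 else -(t i / N))) = 0
        rw [if_pos hi, mul_zero, mul_zero]
      · rw [h3 a ha i hi, zero_mul]
    rw [h6, add_zero]
  have hQe : ∀ e : Fin n → ℤ, Q RJ (t + N • d + e) = Q RJ (t + e) := by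
    intro e
    unfold Q
    congr 1
    exact List.map_congr_left fun a ha => by rw [hdot a ha]
  refine ⟨t + N • d, ht _ _ hT, fun j hj => by rw [hJ j hj]; exact hdom j hj, fun i hi => ?_, fun e => ?_⟩
  · have h6 : (t + N • d) i = t i % N := by
      show t i + N * (if i ∈ J then 0 else -(t i / N)) = t i % N
      rw [if_neg hi, Int.emod_def]
      ring
    rw [h6]
    exact ⟨Int.emod_nonneg _ hN.ne', Int.emod_lt_of_pos _ hN⟩
  · have h6 := hQe 0
    rw [add_zero, add_zero] at h6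
    rw [hQe, h6, hq]
    exact hmin _ (ht _ _ hT)

end Cfsg.Agent.H943.Alc
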