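import Cfsg.Agent.H943.AlcE8

/-!
# The root system `E8` as functions (helper943)
-/

set_option autoImplicit false

namespace Cfsg.Agent.H943.Alc

theorem exists_eight {a : List ℤ} (h : a.length = 8) : ∃ a0 a1 a2 a3 a4 a5 a6 a7, a = [a0, a1, a2, a3, a4, a5, a6, a7] := by
  match a, h with
  | [a0, a1, a2, a3, a4, a5, a6, a7], _ => exact ⟨a0, a1, a2, a3, a4, a5, a6, a7, rfl⟩

theorem dot_toF {a b : List ℤ} (ha : a.length = 8) (hb : b.length = 8) : dot (toF a) (toF b) = dotL a b := by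
  obtain ⟨a0, a1, a2, a3, a4, a5, a6, a7, rfl⟩ := exists_eight ha
  obtain ⟨b0, b1, b2, b3, b4, b5, b6, b7, rfl⟩ := exists_eight hb
  unfold dot
  rw [Fin.sum_univ_eight]
  show a0 * b0 + a1 * b1 + a2 * b2 + a3 * b3 + a4 * b4 + a5 * b5 + a6 * b6 + a7 * b7 =
    a0 * b0 + (a1 * b1 + (a2 * b2 + (a3 * b3 + (a4 * b4 + (a5 * b5 + (a6 * b6 + (a7 * b7 + 0)))))))
  ring

theorem toF_A8L (j : Fin 8) : toF (A8L.getD j []) = fun l => A8 j l := rfl

theorem len_A8L : ∀ j : Fin 8, (A8L.getD j []).length = 8 := by decide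

theorem toF_srL {a : List ℤ} (ha : a.length = 8) (j : Fin 8) : toF (srL j a) = sr A8 j (toF a) := by
  funext i
  unfold sr toF srL
  have h1 : (∑ l : Fin 8, a.getD l 0 * A8 l j) = dotL a (A8L.getD j []) := by
    rw [← dot_toF ha (len_A8L j), toF_A8L]
    unfold dot toF
    exact Finset.sum_congr rfl fun l _ => by rw [A8_symm]
  rw [h1]
  by_cases hij : i = j
  · subst hij
    rw [if_pos rfl, List.getD_eq_getElem?_getD, List.getElem?_set_self (by rw [ha]; exact i.2)]
    rfl
  · rw [if_neg hij, sub_zero, List.getD_eq_getElem?_getD, List.getElem?_set_ne (fun h => hij (Fin.ext h.symm)),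
      List.getD_eq_getElem?_getD]

/-- the roots as functions -/
def RF : List (Fin 8 → ℤ) := R8.map toF

/-- the transfer of permutations -/
theorem perm_of_list {RJ : List (List ℤ)} (hlen : ∀ a ∈ RJ, a.length = 8) (j : Fin 8) (h : (RJ.map (srL j)).Perm RJ) :
    ((RJ.map toF).map (sr A8 j)).Perm (RJ.map toF) := by
  have h1 : (RJ.map toF).map (sr A8 j) = (RJ.map (srL j)).map toF := by
    rw [List.map_map, List.map_map]
    exact List.map_congr_left fun a ha => (toF_srL (hlen a ha) j).symm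
  rw [h1]
  exact h.map _

theorem perm_RF (j : Fin 8) : (RF.map (sr A8 j)).Perm RF :=
  perm_of_list len_R8 j (srL_perm j (List.mem_range.2 j.2))

end Cfsg.Agent.H943.Alc
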