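import Cfsg.Agent.H943.LatFix
import Cfsg.Agent.H943.TorDim

/-!
# Fixed spaces of elements of large prime order (helper943, S5921)
-/

set_option autoImplicit false
set_option linter.unusedSectionVars false

namespace Cfsg.Agent.H943.DimFix

open CoxeterSystem Subgroup Cfsg Cfsg.Lie Cfsg.Lie.ChevalleyDatum Polynomial
open Cfsg.Agent.ChevalleyStructure Cfsg.Agent.ChevalleyStructure.Elts Cfsg.Agent.ChevalleyStructure.CoxeterGeom
  Cfsg.Agent.ChevalleyStructure.CoxeterGeomTypes Cfsg.Agent.ChevalleyStructure.NPerm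
open Cfsg.Agent.Tits.Roots Cfsg.Agent.Tits.Core Cfsg.Agent.Nodes.Reps Cfsg.Agent.Nodes.BNOf
  Cfsg.Agent.Nodes.RGDChev Cfsg.Agent.Nodes.Bruhat
open Cfsg.Agent.KFacts.RgdField Cfsg.Agent.KFacts.RgdChevCoord Cfsg.Agent.BpExc.TorCent Cfsg.Agent.BpExc.TorChev
open Cfsg.Agent.BpExc.Tow Cfsg.Agent.BpExc.TowChev Cfsg.Agent.BpExc.FamExt Cfsg.Agent.BpExc.FamUntw
  Cfsg.Agent.BpExc.FamInst Cfsg.Agent.BpExc.LangFr Cfsg.Agent.BpExc.FamField
open Cfsg.Agent.GpExc.Field (glMap emb coe_emb glMap_xG emb_injective coe_glMap)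
open Cfsg.Agent.H378.TorDual Cfsg.Agent.H378.TorChar Cfsg.Agent.H378.TorFin Cfsg.Agent.H378.LatRoot
open Cfsg.Agent.H378.Regular Cfsg.Agent.H378

universe u v

variable {D : ChevalleyDatum} {l : ℕ} {M : CoxeterMatrix (Fin l)} (hp : IsType D l M) {k : Type u} [Field k]
  {W : Type*} [Group W] (cs : CoxeterSystem M W)

include cs in
/-- the matrix of a torus element in terms of its character -/
theorem tor_matrix (hk : LocFin k) (r : ℕ) [Fact r.Prime] [CharP k r] {t : ↥(D.group k)} (ht : t ∈ TT D k) :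
    ((t : GL D.Idx k) : Matrix D.Idx D.Idx k) = Matrix.diagonal (Sum.elim (fun _ => (1 : k))
      (fun s : Fin D.nroots => ((tchar hp ⟨t, ht⟩ (Multiplicative.ofAdd (vec D l s)) : kˣ) : k))) := by
  obtain ⟨c, hc0, hc, hact⟩ := exists_c hp (t := (t : GL D.Idx k)) ht
  rw [hc]
  congr 1
  funext i
  rcases i with i | s
  · rfl
  · show ∏ i ∈ Finset.range D.rank, c i ^ D.cartan i s =
      ((tchar hp ⟨t, ht⟩ (Multiplicative.ofAdd (vec D l s)) : kˣ) : k)
    rw [tchar_apply hp cs hk r _ (isRoot_vec hp cs s.2)]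
    symm
    apply ch_eq hp s.2 ht
    apply Subtype.ext
    rw [Subgroup.coe_mul, Subgroup.coe_mul, Subgroup.coe_inv, coe_xc hp s.2, coe_xc hp s.2, hact s s.2, mul_one]

variable [IsAlgClosed k] (hk : LocFin k) (r : ℕ) [Fact r.Prime] [CharP k r]

include hp cs hk in
/-- **The character of an element of prime order** and the dimension of its fixed space. -/
theorem exists_char [Finite W] (hka : BpExc.TorAll.HAlg r k) {x : ↥(D.group k)} {ℓ : ℕ}
    (hℓ : ℓ.Prime) (hℓr : ℓ ≠ r) (hx : x ^ ℓ = 1) (hx1 : x ≠ 1) {a : ℕ}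
    (hc : ∃ c : ↥(D.group k), c * x * c⁻¹ = x ^ a) [DecidableEq k] : ∃ (w : W) (χ : Ch l k),
      χ ∈ KerOf k (rep cs hp.isCartan w - (a : ℤ) • (1 : Module.End ℤ (Fin l → ℤ))) ∧ χ ≠ 1 ∧ χ ^ ℓ = 1 ∧
      Module.finrank k (LinearMap.ker (Matrix.toLin' ((x : GL D.Idx k) : Matrix D.Idx D.Idx k) -
        (1 : k) • (1 : Module.End k (D.Idx → k)))) =
        D.rank + (Finset.univ.filter fun s : Fin D.nroots => χ (Multiplicative.ofAdd (vec D l s)) = 1).card := by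
  obtain ⟨z, hz⟩ := BpExc.TorAll.exists_toral hp r hka hℓ hℓr hx
  obtain ⟨c, hc⟩ := hc
  obtain ⟨t, ht⟩ : ∃ t, t = z⁻¹ * x * z := ⟨_, rfl⟩
  rw [← ht] at hz
  have htℓ : t ^ ℓ = 1 := by
    rw [ht]
    have : (z⁻¹ * x * z) ^ ℓ = z⁻¹ * x ^ ℓ * z := by
      have h1 := conj_pow (a := z⁻¹) (b := x) (i := ℓ)
      rwa [inv_inv] at h1
    rw [this, hx]; group
  have ht1 : t ≠ 1 := by
    intro h1
    apply hx1
    have : x = z * t * z⁻¹ := by rw [ht]; group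
    rw [this, h1]; group
  have hta : t ^ a = z⁻¹ * x ^ a * z := by
    rw [ht]
    have h1 := conj_pow (a := z⁻¹) (b := x) (i := a)
    rwa [inv_inv] at h1
  have hta' : t ^ a ∈ TT D k := Subgroup.pow_mem _ hz _
  have e1 : z⁻¹ * c⁻¹ * z * t ^ a = t * (z⁻¹ * c⁻¹ * z) := by
    rw [hta, ← hc, ht]
    group
  obtain ⟨m', -, w, g, hg, hgs, -⟩ := exists_form' hp cs hk r hta' hz e1
  have hgt : g * t ^ a * g⁻¹ = t := by rw [hgs]; group
  have hgm : g * t ^ a * g⁻¹ ∈ TT D k := by rw [hgt]; exact hz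
  have hχ := fun y => tchar_conj hp cs hk r hg hta' hgm y
  have e2 : (⟨g * t ^ a * g⁻¹, hgm⟩ : ↥(TT D k)) = ⟨t, hz⟩ := Subtype.ext hgt
  have e3 : (⟨t ^ a, hta'⟩ : ↥(TT D k)) = ⟨t, hz⟩ ^ a := rfl
  rw [e2, e3, map_pow] at hχ
  have hK : tchar hp ⟨t, hz⟩ ∈ KerOf k (rep cs hp.isCartan w - (a : ℤ) • (1 : Module.End ℤ (Fin l → ℤ))) := by
    rw [mem_kerOf]
    intro y
    rw [LinearMap.sub_apply, LinearMap.smul_apply, Module.End.one_apply, sub_eq_add_neg, ofAdd_add, map_mul, hχ,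
      ofAdd_neg, map_inv, ofAdd_zsmul, map_zpow, zpow_natCast, MonoidHom.pow_apply, mul_inv_cancel]
  have hχ1 : tchar hp ⟨t, hz⟩ ≠ 1 := by
    intro h1
    have h2 := tchar_injective hp (h1.trans (map_one (tchar hp)).symm)
    exact ht1 (congrArg Subtype.val h2)
  refine ⟨w, tchar hp ⟨t, hz⟩, hK, hχ1, tchar_pow_eq_one hp hz htℓ, ?_⟩
  have hA : (((z⁻¹ : ↥(D.group k)) : GL D.Idx k) : Matrix D.Idx D.Idx k) * ((x : GL D.Idx k) : Matrix D.Idx D.Idx k) *
      (((((z⁻¹ : ↥(D.group k)) : GL D.Idx k))⁻¹ : GL D.Idx k) : Matrix D.Idx D.Idx k) =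
      Matrix.diagonal (Sum.elim (fun _ => (1 : k))
      (fun s : Fin D.nroots => ((tchar hp ⟨t, hz⟩ (Multiplicative.ofAdd (vec D l s)) : kˣ) : k))) := by
    rw [← tor_matrix hp cs hk r hz, ht, ← Subgroup.coe_inv, inv_inv, Subgroup.coe_mul, Subgroup.coe_mul, Units.val_mul,
      Units.val_mul]
  rw [TorDim.finrank_ker_conj_diag _ _ hA 1]
  have e4 : (Finset.univ : Finset D.Idx) = Finset.univ.disjSum Finset.univ := Finset.univ_disjSum_univ.symm
  rw [Finset.card_filter, Fintype.sum_sum_type]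
  congr 1
  · simp
  · rw [Finset.card_filter]
    refine Finset.sum_congr rfl fun s _ => ?_
    simp only [Sum.elim_inr, Units.val_eq_one]

end Cfsg.Agent.H943.DimFix
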