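import Mathlib
import Cfsg.Agent.H943.E91a
import Cfsg.Agent.H943.Cert

/-!
# The vectors modulo `7 * 13` with root values invariant under the multiplication by 3, for `E8` (helper943)
-/

set_option autoImplicit false
set_option maxRecDepth 100000
set_option maxHeartbeats 1000000

namespace Cfsg.Agent.H943.E91

open Cfsg.Agent.ChevalleyStructure.CoxeterGeom Cfsg.Agent.Tits.Roots
  Cfsg.Agent.Nodes.RGDChev
open Cfsg.Lie Cfsg.Agent.ChevalleyStructure Cfsg.Agent.ChevalleyStructure.Elts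
  Cfsg.Agent.ChevalleyStructure.RootVec Cfsg.Agent.ChevalleyStructure.RootVecTab
  Cfsg.Agent.ChevalleyStructure.NPerm Cfsg.Agent.ChevalleyStructure.CoxeterGeomTypes
open Cfsg.Agent.H944.RootVals Cfsg.Agent.H944.Kac Cfsg.Agent.H944.Tab
open Cfsg.Agent.H943.E8Tab Cfsg.Agent.H943.Cert
open Cfsg.Agent.H943.Alc (A8 sv dot toF srL bv Q)

/-- the first alcove point modulo 7 -/
def s38 : List ℕ := [1, 0, 0, 0, 0, 1, 0, 0]

/-- the second alcove point modulo 7 -/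
def s80 : List ℕ := [0, 0, 0, 0, 0, 0, 1, 1]

theorem check7 : allAlc th8 7 (fun y => bif invB 7 3 R8 y then
    (y == s38 || y == s80 || y == [0, 0, 0, 0, 0, 0, 0, 0]) else true) = true := by decide +kernel

/-! ### the certificates -/

/-- the value of a positive functional on a root and its negative -/
def hY (c t : ℕ) : ℕ := tb (BY c) (t % 91) + tb (BY c) ((91 - t % 91) % 91)

/-- the value of a positive functional -/
def cval (c : ℕ) (V : List ℕ) : ℕ := 8 * tb (BY c) 0 + sumH (hY c) R8 V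

/-- negative value of a functional -/
def negB (c n : ℕ) (V : List ℕ) : Bool :=
  Nat.blt (cval c V + (tb (BG c) 0 * n + tb (BG c) 2 * (248 - n))) (248 * CC c)

/-- some functional is negative, for each type of involution -/
def certOK (V : List ℕ) : Bool :=
  (negB 0 136 V || negB 1 136 V || negB 2 136 V || negB 3 136 V) &&
  (negB 0 120 V || negB 1 120 V || negB 2 120 V || negB 3 120 V)

/-! ### the checks of the second stage -/

/-- linear conditions -/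
def B38 : List (ℕ × List ℕ) :=
  [(1, [0, 2, 2, 4, 4, 4, 7, 10]), (2, [4, 4, 6, 8, 6, 4, 7, 10]), (3, [4, 6, 8, 12, 10, 8, 1, 7])]

/-- linear conditions -/
def B80 : List (ℕ × List ℕ) :=
  [(1, [1, 8, 2, 3, 9, 2, 8, 11]), (2, [5, 1, 10, 2, 6, 10, 1, 12]), (3, [6, 9, 12, 5, 2, 12, 9, 10])]

theorem chkB38 : chkB 7 13 3 8 R8 s38 B38 = true := by decide +kernel

theorem chkB80 : chkB 7 13 3 8 R8 s80 B80 = true := by decide +kernel

/-- the final test -/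
def fin (Y : List ℕ) (B : List (ℕ × List ℕ)) (U : List ℕ) : Bool :=
  bif B.all (fun cb => Nat.beq (dotN cb.2 U % 13) 0) then
    (bif isZ U then true else (bif invB 91 3 R8 (crt 78 14 91 Y U) then certOK (crt 78 14 91 Y U) else true)) else true

/-- assembly of the coordinates -/
def asm38 (a b c : List ℕ) : List ℕ :=
  [c.getD 0 0, a.getD 0 0, a.getD 1 0, a.getD 2 0, a.getD 3 0, c.getD 1 0, b.getD 0 0, b.getD 1 0]

/-- assembly of the coordinates -/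
def asm80 (a c : List ℕ) : List ℕ :=
  [a.getD 0 0, a.getD 1 0, a.getD 2 0, a.getD 3 0, a.getD 4 0, a.getD 5 0, c.getD 0 0, c.getD 1 0]

/-- positive roots of `D4` -/
def RD : List (List ℕ) :=
  [[0, 0, 0, 1], [0, 0, 1, 0], [0, 0, 1, 1], [0, 1, 0, 0], [0, 1, 1, 0], [0, 1, 1, 1], [1, 0, 0, 0], [1, 0, 1, 0],
    [1, 0, 1, 1], [1, 1, 1, 0], [1, 1, 1, 1], [1, 1, 2, 1]]

/-- positive roots of `A2` -/
def RA : List (List ℕ) := [[0, 1], [1, 0], [1, 1]]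

/-- positive roots of `E6` -/
def RE : List (List ℕ) :=
  [[0, 0, 0, 0, 0, 1], [0, 0, 0, 0, 1, 0], [0, 0, 0, 0, 1, 1], [0, 0, 0, 1, 0, 0], [0, 0, 0, 1, 1, 0],
    [0, 0, 0, 1, 1, 1], [0, 0, 1, 0, 0, 0], [0, 0, 1, 1, 0, 0], [0, 0, 1, 1, 1, 0], [0, 0, 1, 1, 1, 1],
    [0, 1, 0, 0, 0, 0], [0, 1, 0, 1, 0, 0], [0, 1, 0, 1, 1, 0], [0, 1, 0, 1, 1, 1], [0, 1, 1, 1, 0, 0],
    [0, 1, 1, 1, 1, 0], [0, 1, 1, 1, 1, 1], [0, 1, 1, 2, 1, 0], [0, 1, 1, 2, 1, 1], [0, 1, 1, 2, 2, 1],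
    [1, 0, 0, 0, 0, 0], [1, 0, 1, 0, 0, 0], [1, 0, 1, 1, 0, 0], [1, 0, 1, 1, 1, 0], [1, 0, 1, 1, 1, 1],
    [1, 1, 1, 1, 0, 0], [1, 1, 1, 1, 1, 0], [1, 1, 1, 1, 1, 1], [1, 1, 1, 2, 1, 0], [1, 1, 1, 2, 1, 1],
    [1, 1, 1, 2, 2, 1], [1, 1, 2, 2, 1, 0], [1, 1, 2, 2, 1, 1], [1, 1, 2, 2, 2, 1], [1, 1, 2, 3, 2, 1],
    [1, 2, 2, 3, 2, 1]]

/-- positive roots of `D4A2` -/
def RJ38 : List (List ℕ) :=
  [[0, 0, 0, 0, 0, 0, 0, 1], [0, 0, 0, 0, 0, 0, 1, 0], [0, 0, 0, 0, 0, 0, 1, 1], [0, 0, 0, 0, 1, 0, 0, 0],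
    [0, 0, 0, 1, 0, 0, 0, 0], [0, 0, 0, 1, 1, 0, 0, 0], [0, 0, 1, 0, 0, 0, 0, 0], [0, 0, 1, 1, 0, 0, 0, 0],
    [0, 0, 1, 1, 1, 0, 0, 0], [0, 1, 0, 0, 0, 0, 0, 0], [0, 1, 0, 1, 0, 0, 0, 0], [0, 1, 0, 1, 1, 0, 0, 0],
    [0, 1, 1, 1, 0, 0, 0, 0], [0, 1, 1, 1, 1, 0, 0, 0], [0, 1, 1, 2, 1, 0, 0, 0]]

/-- positive roots of `E6` -/
def RJ80 : List (List ℕ) :=
  [[0, 0, 0, 0, 0, 1, 0, 0], [0, 0, 0, 0, 1, 0, 0, 0], [0, 0, 0, 0, 1, 1, 0, 0], [0, 0, 0, 1, 0, 0, 0, 0],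
    [0, 0, 0, 1, 1, 0, 0, 0], [0, 0, 0, 1, 1, 1, 0, 0], [0, 0, 1, 0, 0, 0, 0, 0], [0, 0, 1, 1, 0, 0, 0, 0],
    [0, 0, 1, 1, 1, 0, 0, 0], [0, 0, 1, 1, 1, 1, 0, 0], [0, 1, 0, 0, 0, 0, 0, 0], [0, 1, 0, 1, 0, 0, 0, 0],
    [0, 1, 0, 1, 1, 0, 0, 0], [0, 1, 0, 1, 1, 1, 0, 0], [0, 1, 1, 1, 0, 0, 0, 0], [0, 1, 1, 1, 1, 0, 0, 0],
    [0, 1, 1, 1, 1, 1, 0, 0], [0, 1, 1, 2, 1, 0, 0, 0], [0, 1, 1, 2, 1, 1, 0, 0], [0, 1, 1, 2, 2, 1, 0, 0],
    [1, 0, 0, 0, 0, 0, 0, 0], [1, 0, 1, 0, 0, 0, 0, 0], [1, 0, 1, 1, 0, 0, 0, 0], [1, 0, 1, 1, 1, 0, 0, 0],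
    [1, 0, 1, 1, 1, 1, 0, 0], [1, 1, 1, 1, 0, 0, 0, 0], [1, 1, 1, 1, 1, 0, 0, 0], [1, 1, 1, 1, 1, 1, 0, 0],
    [1, 1, 1, 2, 1, 0, 0, 0], [1, 1, 1, 2, 1, 1, 0, 0], [1, 1, 1, 2, 2, 1, 0, 0], [1, 1, 2, 2, 1, 0, 0, 0],
    [1, 1, 2, 2, 1, 1, 0, 0], [1, 1, 2, 2, 2, 1, 0, 0], [1, 1, 2, 3, 2, 1, 0, 0], [1, 2, 2, 3, 2, 1, 0, 0]]

theorem filter38 : (R8.filter fun r => Nat.beq (dotN r s38 % 7) 0) = RJ38 := by decide +kernel

theorem filter80 : (R8.filter fun r => Nat.beq (dotN r s80 % 7) 0) = RJ80 := by decide +kernel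

theorem split38 (h : ℕ → ℕ) (c0 a0 a1 a2 a3 c1 b0 b1 : ℕ) :
    sumH h RJ38 [c0, a0, a1, a2, a3, c1, b0, b1] = sumH h RD [a0, a1, a2, a3] + sumH h RA [b0, b1] := by
  simp only [RJ38, RD, RA, sumH, dotN, zero_mul, zero_add, add_zero, one_mul]
  ring

theorem split80 (h : ℕ → ℕ) (a0 a1 a2 a3 a4 a5 c0 c1 : ℕ) :
    sumH h RJ80 [a0, a1, a2, a3, a4, a5, c0, c1] = sumH h RE [a0, a1, a2, a3, a4, a5] := by
  simp only [RJ80, RE, sumH, dotN, zero_mul, zero_add, add_zero, one_mul]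

/-- the code of a triple value -/
def h3 (t : ℕ) : ℕ := hh 13 (3 * t)

/-- The enumeration by the first coordinate: each value may be checked on its own. -/
theorem allAlc_cons {t : ℕ} {ts : List ℕ} {N : ℕ} {p : List ℕ → Bool} (k : ℕ) (hk : N / t + 1 = k)
    (h : ∀ x < k, allAlc ts (N - t * x) (fun y => p (x :: y)) = true) : allAlc (t :: ts) N p = true := by
  rw [allAlc, List.all_eq_true]
  intro x hx
  rw [List.mem_range, hk] at hx
  exact h x hx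

/-- the test of `chk38` -/
def P38 (a : List ℕ) : Bool := bif (Nat.ble (dotN [1, 2, 2, 1] a) 13 && Nat.ble (dotN [1, 1, 2, 2] a) 13) then
    (allAlc [2, 1] 13 fun b => bif Nat.ble (dotN [1, 2] b) 13 then
      (bif Nat.beq (sumH (hh 13) RD a + sumH (hh 13) RA b) (sumH h3 RD a + sumH h3 RA b) then
        allLt 13 2 (fun c => fin s38 B38 (asm38 a b c)) else true) else true) else true

/-- the test of `chk80` -/
def P80 (a : List ℕ) : Bool := bif (Nat.ble (dotN [4, 3, 5, 6, 4, 2] a) 26 &&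
      Nat.ble (dotN [2, 3, 4, 6, 5, 4] a) 26) then
    (bif Nat.beq (sumH (hh 13) RE a) (sumH h3 RE a) then
        allLt 13 2 (fun c => fin s80 B80 (asm80 a c)) else true) else true

theorem chk38_0 : allAlc [1, 2, 1] (13 - 2 * 0) (fun y => P38 (0 :: y)) = true := by decide +kernel

theorem chk38_1 : allAlc [1, 2, 1] (13 - 2 * 1) (fun y => P38 (1 :: y)) = true := by decide +kernel

theorem chk38_2 : allAlc [1, 2, 1] (13 - 2 * 2) (fun y => P38 (2 :: y)) = true := by decide +kernel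

theorem chk38_3 : allAlc [1, 2, 1] (13 - 2 * 3) (fun y => P38 (3 :: y)) = true := by decide +kernel

theorem chk38_4 : allAlc [1, 2, 1] (13 - 2 * 4) (fun y => P38 (4 :: y)) = true := by decide +kernel

theorem chk38_5 : allAlc [1, 2, 1] (13 - 2 * 5) (fun y => P38 (5 :: y)) = true := by decide +kernel

theorem chk38_6 : allAlc [1, 2, 1] (13 - 2 * 6) (fun y => P38 (6 :: y)) = true := by decide +kernel

theorem chk38 : (allAlc [2, 1, 2, 1] 13 fun a => bif (Nat.ble (dotN [1, 2, 2, 1] a) 13 && Nat.ble (dotN [1, 1, 2, 2] a) 13) then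
    (allAlc [2, 1] 13 fun b => bif Nat.ble (dotN [1, 2] b) 13 then
      (bif Nat.beq (sumH (hh 13) RD a + sumH (hh 13) RA b) (sumH h3 RD a + sumH h3 RA b) then
        allLt 13 2 (fun c => fin s38 B38 (asm38 a b c)) else true) else true) else true) = true := by
  change allAlc [2, 1, 2, 1] 13 P38 = true
  refine allAlc_cons 7 rfl fun x hx => ?_
  interval_cases x
  exacts [chk38_0, chk38_1, chk38_2, chk38_3, chk38_4, chk38_5, chk38_6]

theorem chk80_0 : allAlc [2, 2, 3, 2, 1] (13 - 1 * 0) (fun y => P80 (0 :: y)) = true := by decide +kernel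

theorem chk80_1 : allAlc [2, 2, 3, 2, 1] (13 - 1 * 1) (fun y => P80 (1 :: y)) = true := by decide +kernel

theorem chk80_2 : allAlc [2, 2, 3, 2, 1] (13 - 1 * 2) (fun y => P80 (2 :: y)) = true := by decide +kernel

theorem chk80_3 : allAlc [2, 2, 3, 2, 1] (13 - 1 * 3) (fun y => P80 (3 :: y)) = true := by decide +kernel

theorem chk80_4 : allAlc [2, 2, 3, 2, 1] (13 - 1 * 4) (fun y => P80 (4 :: y)) = true := by decide +kernel

theorem chk80_5 : allAlc [2, 2, 3, 2, 1] (13 - 1 * 5) (fun y => P80 (5 :: y)) = true := by decide +kernel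

theorem chk80_6 : allAlc [2, 2, 3, 2, 1] (13 - 1 * 6) (fun y => P80 (6 :: y)) = true := by decide +kernel

theorem chk80_7 : allAlc [2, 2, 3, 2, 1] (13 - 1 * 7) (fun y => P80 (7 :: y)) = true := by decide +kernel

theorem chk80_8 : allAlc [2, 2, 3, 2, 1] (13 - 1 * 8) (fun y => P80 (8 :: y)) = true := by decide +kernel

theorem chk80_9 : allAlc [2, 2, 3, 2, 1] (13 - 1 * 9) (fun y => P80 (9 :: y)) = true := by decide +kernel

theorem chk80_10 : allAlc [2, 2, 3, 2, 1] (13 - 1 * 10) (fun y => P80 (10 :: y)) = true := by decide +kernel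

theorem chk80_11 : allAlc [2, 2, 3, 2, 1] (13 - 1 * 11) (fun y => P80 (11 :: y)) = true := by decide +kernel

theorem chk80_12 : allAlc [2, 2, 3, 2, 1] (13 - 1 * 12) (fun y => P80 (12 :: y)) = true := by decide +kernel

theorem chk80_13 : allAlc [2, 2, 3, 2, 1] (13 - 1 * 13) (fun y => P80 (13 :: y)) = true := by decide +kernel

theorem chk80 : (allAlc [1, 2, 2, 3, 2, 1] 13 fun a => bif (Nat.ble (dotN [4, 3, 5, 6, 4, 2] a) 26 &&
      Nat.ble (dotN [2, 3, 4, 6, 5, 4] a) 26) then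
    (bif Nat.beq (sumH (hh 13) RE a) (sumH h3 RE a) then
        allLt 13 2 (fun c => fin s80 B80 (asm80 a c)) else true) else true) = true := by
  change allAlc [1, 2, 2, 3, 2, 1] 13 P80 = true
  refine allAlc_cons 14 rfl fun x hx => ?_
  interval_cases x
  exacts [chk80_0, chk80_1, chk80_2, chk80_3, chk80_4, chk80_5, chk80_6, chk80_7, chk80_8, chk80_9, chk80_10, chk80_11, chk80_12, chk80_13]

end Cfsg.Agent.H943.E91
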