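import Cfsg.Agent.H943.En40a

/-!
# The alcove vectors of `E8` of order 40 compatible with `L2(81)`, II (helper943, S5921)
-/

set_option autoImplicit false
set_option maxRecDepth 100000

namespace Cfsg.Agent.H943.En

open Cfsg.Lie Cfsg.Agent.ChevalleyStructure Cfsg.Agent.H944.RootVals
open Cfsg.Agent.H944.Tab Cfsg.Agent.H943.E8Tab

theorem fast40_eq (E : ℕ) : fast40 E = Nat.beq (NN E 1) (NN E 3) := by
  have h1 : (256 : ℕ) ^ 39 = 8343699359066055009355553539724812947666814540455674882605631280555545803830627148527195652096 := by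
    norm_num
  have h2 : (256 : ℕ) ^ 37 = 127314748520905380391777855525586135065716774604121015664758778084648831235208544136462336 := by
    norm_num
  have h3 : (256 : ℕ) ^ 3 = 16777216 := by norm_num
  show Nat.beq (E / 256 % 256 + E / _ % 256) (E / _ % 256 + E / _ % 256) =
    Nat.beq (E / 256 ^ 1 % 256 + E / 256 ^ 39 % 256) (E / 256 ^ 3 % 256 + E / 256 ^ 37 % 256)
  rw [h1, h2, h3, pow_one]

/-- **the alcove vectors of order dividing 40** -/
theorem enum40 {Y : List ℕ} (hl : Y.length = 8) (hθ : dotN th8 Y ≤ 40)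
    (hst : ∀ c : ZMod 40, (ms chevE8 8 (vecOf 40 Y)).count (3 * c) = (ms chevE8 8 (vecOf 40 Y)).count c)
    (n : ℕ → ℕ) (hn : ∀ r, n r = (ms chevE8 8 (vecOf 40 Y)).count ((r : ℕ) : ZMod 40))
    (h1 : n 20 ≤ 2 * n 7) (h2 : 2 * n 10 + n 20 ≤ 4 * n 8)
    (h3 : 4 * n 4 + 20 * n 8 + 11 * n 20 ≤ 8 * n 2 + 4 * n 5 + (32 * n 7 + 10 * n 10))
    (h4 : 8 * n 2 + 4 * n 4 + (4 * n 8 + 2 * n 10) + n 20 ≤ 8 * n 1 + 4 * n 5 + 8 * n 7)
    (h5 : n 4 + 4 * n 7 ≤ 2 * n 2 + n 5 + (n 8 + n 10 + n 20)) : Y ∈ list40 := by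
  obtain ⟨s1, s2, s3, s4, s5, s6, s7, s8, rfl⟩ := list8 hl
  obtain ⟨E, hE⟩ : ∃ E, E = gen 256 s1 s2 s3 s4 s5 s6 s7 s8 := ⟨_, rfl⟩
  have hN : ∀ r, 0 < r → r < 40 → NN E r = n r := by
    intro r hr0 hr
    rw [hn, count_vec _ hθ hr0 hr]
    show dg E r + dg E (40 - r) = _
    rw [hE, dg_gen, dg_gen]
  have hst' : ∀ r r' : ℕ, ((3 : ZMod 40) * (r : ZMod 40) = (r' : ZMod 40) ∨ (3 : ZMod 40) * (r : ZMod 40) = -(r' : ZMod 40)) →
      0 < r → r < 40 → 0 < r' → r' < 40 → n r = n r' := by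
    intro r r' h hr hr1 hr' hr1'
    rw [← hN r hr hr1, ← hN r' hr' hr1', hN r hr hr1]
    rcases h with h | h
    · rw [hN r' hr' hr1', hn, hn, ← hst, h]
    · have e1 : NN E r' = NN E (40 - r') := by
        show dg E r' + dg E (40 - r') = dg E (40 - r') + dg E (40 - (40 - r'))
        rw [show 40 - (40 - r') = r' by omega, add_comm]
      rw [e1, hN (40 - r') (by omega) (by omega), hn, hn, ← hst, h]
      congr 1
      have : ((40 - r' : ℕ) : ZMod 40) = ((40 : ℕ) : ZMod 40) - (r' : ZMod 40) := Nat.cast_sub (by omega)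
      rw [this]
      have : ((40 : ℕ) : ZMod 40) = 0 := by decide
      rw [this, zero_sub]
  have hall := outer_spec all40 s1 s2 s3 s4 s5 s6 s7 s8 (by rw [dotN_th8] at hθ; omega)
  unfold K40 at hall
  rw [← hE, fast40_eq] at hall
  have hfast : Nat.beq (NN E 1) (NN E 3) = true := by
    rw [hN 1 (by norm_num) (by norm_num), hN 3 (by norm_num) (by norm_num), Nat.beq_eq]
    exact hst' 1 3 (by decide) (by norm_num) (by norm_num) (by norm_num) (by norm_num)
  have hs : st40 E = true := by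
    unfold st40
    rw [hN 1 (by norm_num) (by norm_num), hN 2 (by norm_num) (by norm_num), hN 3 (by norm_num) (by norm_num),
      hN 4 (by norm_num) (by norm_num), hN 5 (by norm_num) (by norm_num), hN 6 (by norm_num) (by norm_num),
      hN 7 (by norm_num) (by norm_num), hN 8 (by norm_num) (by norm_num), hN 9 (by norm_num) (by norm_num),
      hN 11 (by norm_num) (by norm_num), hN 12 (by norm_num) (by norm_num),
      hN 13 (by norm_num) (by norm_num), hN 14 (by norm_num) (by norm_num), hN 15 (by norm_num) (by norm_num),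
      hN 16 (by norm_num) (by norm_num), hN 17 (by norm_num) (by norm_num), hN 18 (by norm_num) (by norm_num),
      hN 19 (by norm_num) (by norm_num)]
    simp only [Bool.and_eq_true, Nat.beq_eq]
    refine ⟨hst' 1 3 ?_ ?_ ?_ ?_ ?_, hst' 2 6 ?_ ?_ ?_ ?_ ?_, hst' 7 19 ?_ ?_ ?_ ?_ ?_, hst' 4 12 ?_ ?_ ?_ ?_ ?_,
      hst' 5 15 ?_ ?_ ?_ ?_ ?_, hst' 8 16 ?_ ?_ ?_ ?_ ?_, hst' 3 9 ?_ ?_ ?_ ?_ ?_, hst' 9 13 ?_ ?_ ?_ ?_ ?_,
      hst' 6 18 ?_ ?_ ?_ ?_ ?_, hst' 18 14 ?_ ?_ ?_ ?_ ?_, hst' 19 17 ?_ ?_ ?_ ?_ ?_, hst' 17 11 ?_ ?_ ?_ ?_ ?_⟩ <;>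
    first
      | decide
      | norm_num
  have hb : bad40 E = false := by
    unfold bad40
    simp only [frc_eq]
    rw [hN 1 (by norm_num) (by norm_num), hN 2 (by norm_num) (by norm_num), hN 4 (by norm_num) (by norm_num),
      hN 5 (by norm_num) (by norm_num), hN 7 (by norm_num) (by norm_num), hN 8 (by norm_num) (by norm_num),
      hN 10 (by norm_num) (by norm_num), hN 20 (by norm_num) (by norm_num)]
    have hblt : ∀ a b : ℕ, b ≤ a → Nat.blt a b = false := by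
      intro a b h
      rw [Bool.eq_false_iff]
      intro h'
      have h'' : a.succ ≤ b := Nat.le_of_ble_eq_true h'
      omega
    exact Bool.or_eq_false_iff.2 ⟨hblt _ _ h1, Bool.or_eq_false_iff.2 ⟨hblt _ _ h2, Bool.or_eq_false_iff.2
      ⟨hblt _ _ h3, Bool.or_eq_false_iff.2 ⟨hblt _ _ h4, hblt _ _ h5⟩⟩⟩⟩
  rw [hfast, hs, hb] at hall
  exact List.contains_iff_mem.1 hall

end Cfsg.Agent.H943.En
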