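import Cfsg.Agent.H943.EnDg

/-!
# The alcove vectors of `E8` of order 40 compatible with `L2(81)` (helper943, S5921)
-/

set_option autoImplicit false
set_option maxRecDepth 100000

namespace Cfsg.Agent.H943.En

open Cfsg.Lie Cfsg.Agent.ChevalleyStructure Cfsg.Agent.H944.RootVals
open Cfsg.Agent.H944.Tab Cfsg.Agent.H943.E8Tab

local infixl:65 " ⊞ " => Nat.add
local infixl:70 " ⊠ " => Nat.mul

def fast40 (E : ℕ) : Bool := Nat.beq (Nat.mod (Nat.div E 256) 256 ⊞ Nat.mod (Nat.div E 8343699359066055009355553539724812947666814540455674882605631280555545803830627148527195652096) 256)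
  (Nat.mod (Nat.div E 16777216) 256 ⊞ Nat.mod (Nat.div E 127314748520905380391777855525586135065716774604121015664758778084648831235208544136462336) 256)

def NN (E r : ℕ) : ℕ := dg E r ⊞ dg E (Nat.sub 40 r)

def st40 (E : ℕ) : Bool :=
  and (Nat.beq (NN E 1) (NN E 3)) <| and (Nat.beq (NN E 2) (NN E 6)) <| and (Nat.beq (NN E 7) (NN E 19)) <|
  and (Nat.beq (NN E 4) (NN E 12)) <| and (Nat.beq (NN E 5) (NN E 15)) <| and (Nat.beq (NN E 8) (NN E 16)) <|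
  and (Nat.beq (NN E 3) (NN E 9)) <| and (Nat.beq (NN E 9) (NN E 13)) <| and (Nat.beq (NN E 6) (NN E 18)) <|
  and (Nat.beq (NN E 18) (NN E 14)) <| and (Nat.beq (NN E 19) (NN E 17)) (Nat.beq (NN E 17) (NN E 11))

/-- the functionals, as `(positive part, negative part)` on `(N0, N1, N2, N4, N5, N7, N8, N10, N20)` -/
def bad40 (E : ℕ) : Bool :=
  frc (NN E 1) fun n1 => frc (NN E 2) fun n2 => frc (NN E 4) fun n4 => frc (NN E 5) fun n5 => frc (NN E 7) fun n7 =>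
  frc (NN E 8) fun n8 => frc (NN E 10) fun n10 => frc (NN E 20) fun n20 =>
  or (Nat.blt (2 ⊠ n7) n20) <| or (Nat.blt (4 ⊠ n8) ((2 ⊠ n10) ⊞ n20)) <|
  or (Nat.blt (((8 ⊠ n2) ⊞ (4 ⊠ n5)) ⊞ ((32 ⊠ n7) ⊞ (10 ⊠ n10))) (((4 ⊠ n4) ⊞ (20 ⊠ n8)) ⊞ (11 ⊠ n20))) <|
  or (Nat.blt (((8 ⊠ n1) ⊞ (4 ⊠ n5)) ⊞ (8 ⊠ n7)) ((((8 ⊠ n2) ⊞ (4 ⊠ n4)) ⊞ ((4 ⊠ n8) ⊞ (2 ⊠ n10))) ⊞ n20)) <|
  Nat.blt (((2 ⊠ n2) ⊞ n5) ⊞ ((n8 ⊞ n10) ⊞ n20)) (n4 ⊞ (4 ⊠ n7))

/-- the result -/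
def list40 : List (List ℕ) := [[0,0,0,0,0,0,0,0],[1,2,2,1,1,1,1,1],[3,0,0,0,0,1,1,7],[7,0,0,0,0,1,2,6],[3,0,0,3,1,0,1,0],
  [5,0,0,1,0,2,0,1],[3,1,1,1,1,1,1,1],[1,1,1,1,1,3,1,2]]

def good40 (s1 s2 s3 s4 s5 s6 s7 s8 : ℕ) : Bool := list40.contains [s1,s2,s3,s4,s5,s6,s7,s8]

def K40 (s4 s5 s3 s6 s2 s7 s1 s8 E : ℕ) : Bool :=
  bif fast40 E then bif st40 E then bif bad40 E then true else good40 s1 s2 s3 s4 s5 s6 s7 s8 else true else true

set_option maxHeartbeats 0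
theorem t6 : outer 256 40 K40 6 = true := by decide +kernel
theorem t5 : outer 256 40 K40 5 = true := by decide +kernel
theorem t4 : outer 256 40 K40 4 = true := by decide +kernel
theorem t3 : outer 256 40 K40 3 = true := by decide +kernel
theorem t2 : outer 256 40 K40 2 = true := by decide +kernel
theorem t1 : outer 256 40 K40 1 = true := by decide +kernel
theorem t0 : outer 256 40 K40 0 = true := by decide +kernel

theorem all40 : ∀ s4 ≤ 40 / 6, outer 256 40 K40 s4 = true := by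
  intro s4 h4
  have : s4 ≤ 6 := h4
  interval_cases s4
  exacts [t0, t1, t2, t3, t4, t5, t6]

end Cfsg.Agent.H943.En
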