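import Cfsg.Agent.H943.En41a

/-!
# The 3-stable alcove vectors of `E8` modulo 41, II (helper943, S5921)
-/

set_option autoImplicit false
set_option maxRecDepth 100000

namespace Cfsg.Agent.H943.En41

open Cfsg.Lie Cfsg.Agent.ChevalleyStructure Cfsg.Agent.H944.RootVals
open Cfsg.Agent.H944.Tab Cfsg.Agent.H943.E8Tab Cfsg.Agent.H943.En

theorem fast41_eq (E : ℕ) : fast41 E = Nat.beq (NN E 1) (NN E 3) := by
  have h1 : (256 : ℕ) ^ 40 = 2135987035920910082395021706169552114602704522356652769947041607822219725780640550022962086936576 := by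
    norm_num
  have h2 : (256 : ℕ) ^ 38 = 32592575621351777380295131014550050576823494298654980010178247189670100796213387298934358016 := by
    norm_num
  have h3 : (256 : ℕ) ^ 3 = 16777216 := by norm_num
  show Nat.beq (E / 256 % 256 + E / _ % 256) (E / _ % 256 + E / _ % 256) =
    Nat.beq (E / 256 ^ 1 % 256 + E / 256 ^ 40 % 256) (E / 256 ^ 3 % 256 + E / 256 ^ 38 % 256)
  rw [h1, h2, h3, pow_one]

/-- **the 3-stable alcove vectors modulo 41** -/
theorem enum41 {Y : List ℕ} (hl : Y.length = 8) (hθ : dotN th8 Y ≤ 41)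
    (hst : ∀ c : ZMod 41, (ms chevE8 8 (vecOf 41 Y)).count (3 * c) = (ms chevE8 8 (vecOf 41 Y)).count c) :
    Y ∈ list41 := by
  obtain ⟨s1, s2, s3, s4, s5, s6, s7, s8, rfl⟩ := list8 hl
  obtain ⟨E, hE⟩ : ∃ E, E = gen 256 s1 s2 s3 s4 s5 s6 s7 s8 := ⟨_, rfl⟩
  obtain ⟨n, hn⟩ : ∃ n : ℕ → ℕ, ∀ r, n r = (ms chevE8 8 (vecOf 41 [s1, s2, s3, s4, s5, s6, s7, s8])).count
    ((r : ℕ) : ZMod 41) := ⟨_, fun _ => rfl⟩
  have hN : ∀ r, 0 < r → r < 41 → NN E r = n r := by
    intro r hr0 hr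
    rw [hn, count_vec _ hθ hr0 hr]
    show dg E r + dg E (41 - r) = _
    rw [hE, dg_gen, dg_gen]
  have hst' : ∀ r r' : ℕ, ((3 : ZMod 41) * (r : ZMod 41) = (r' : ZMod 41) ∨ (3 : ZMod 41) * (r : ZMod 41) = -(r' : ZMod 41)) →
      0 < r → r < 41 → 0 < r' → r' < 41 → n r = n r' := by
    intro r r' h hr hr1 hr' hr1'
    rw [← hN r hr hr1, ← hN r' hr' hr1', hN r hr hr1]
    rcases h with h | h
    · rw [hN r' hr' hr1', hn, hn, ← hst, h]
    · have e1 : NN E r' = NN E (41 - r') := by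
        show dg E r' + dg E (41 - r') = dg E (41 - r') + dg E (41 - (41 - r'))
        rw [show 41 - (41 - r') = r' by omega, add_comm]
      rw [e1, hN (41 - r') (by omega) (by omega), hn, hn, ← hst, h]
      congr 1
      have : ((41 - r' : ℕ) : ZMod 41) = ((41 : ℕ) : ZMod 41) - (r' : ZMod 41) := Nat.cast_sub (by omega)
      rw [this]
      have : ((41 : ℕ) : ZMod 41) = 0 := by decide
      rw [this, zero_sub]
  have hall := outer_spec all41 s1 s2 s3 s4 s5 s6 s7 s8 (by rw [dotN_th8] at hθ; omega)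
  unfold K41 at hall
  rw [← hE, fast41_eq] at hall
  have hfast : Nat.beq (NN E 1) (NN E 3) = true := by
    rw [hN 1 (by norm_num) (by norm_num), hN 3 (by norm_num) (by norm_num), Nat.beq_eq]
    exact hst' 1 3 (by decide) (by norm_num) (by norm_num) (by norm_num) (by norm_num)
  have hs : st41 E = true := by
    unfold st41
    rw [hN 1 (by norm_num) (by norm_num), hN 2 (by norm_num) (by norm_num), hN 3 (by norm_num) (by norm_num), hN
      4 (by norm_num) (by norm_num), hN 5 (by norm_num) (by norm_num), hN 6 (by norm_num) (by norm_num), hN 7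
      (by norm_num) (by norm_num), hN 8 (by norm_num) (by norm_num), hN 9 (by norm_num) (by norm_num), hN 10
      (by norm_num) (by norm_num), hN 11 (by norm_num) (by norm_num), hN 12 (by norm_num) (by norm_num), hN 13
      (by norm_num) (by norm_num), hN 14 (by norm_num) (by norm_num), hN 15 (by norm_num) (by norm_num), hN 16
      (by norm_num) (by norm_num), hN 17 (by norm_num) (by norm_num), hN 18 (by norm_num) (by norm_num), hN 19
      (by norm_num) (by norm_num), hN 20 (by norm_num) (by norm_num)]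
    simp only [Bool.and_eq_true, Nat.beq_eq]
    refine ⟨hst' 1 3 ?_ ?_ ?_ ?_ ?_, hst' 2 6 ?_ ?_ ?_ ?_ ?_, hst' 7 20 ?_ ?_ ?_ ?_ ?_, hst' 4 12 ?_ ?_ ?_ ?_ ?_,
      hst' 8 17 ?_ ?_ ?_ ?_ ?_, hst' 3 9 ?_ ?_ ?_ ?_ ?_, hst' 9 14 ?_ ?_ ?_ ?_ ?_, hst' 6 18 ?_ ?_ ?_ ?_ ?_,
      hst' 18 13 ?_ ?_ ?_ ?_ ?_, hst' 12 5 ?_ ?_ ?_ ?_ ?_, hst' 5 15 ?_ ?_ ?_ ?_ ?_, hst' 20 19 ?_ ?_ ?_ ?_ ?_,
      hst' 19 16 ?_ ?_ ?_ ?_ ?_, hst' 17 10 ?_ ?_ ?_ ?_ ?_, hst' 10 11 ?_ ?_ ?_ ?_ ?_⟩ <;>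
    first
      | decide
      | norm_num
  rw [hfast, hs] at hall
  exact List.contains_iff_mem.1 hall

end Cfsg.Agent.H943.En41
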