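import Cfsg.Agent.H943.En
import Cfsg.Agent.H942.E8Alc

/-!
# Counting the root values by digits (helper943, S5921)
-/

set_option autoImplicit false
set_option maxRecDepth 100000

namespace Cfsg.Agent.H943.En

open Cfsg.Lie Cfsg.Agent.ChevalleyStructure Cfsg.Agent.H944.RootVals
open Cfsg.Agent.H944.Tab Cfsg.Agent.H943.E8Tab

local infixl:65 " ⊞ " => Nat.add
local infixl:70 " ⊠ " => Nat.mul

/-- digit -/
def dg (E r : ℕ) : ℕ := Nat.mod (Nat.div E (Nat.pow 256 r)) 256

theorem digit_aux (B r : ℕ) (L : List ℕ) : ∃ low high : ℕ, low * B ≤ L.length * B ^ r ∧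
    (L.map fun a => B ^ a).sum = low + L.count r * B ^ r + B ^ (r + 1) * high := by
  induction L with
  | nil => exact ⟨0, 0, by simp, by simp⟩
  | cons x L ih =>
    obtain ⟨low, high, h1, h2⟩ := ih
    rcases lt_trichotomy x r with hx | hx | hx
    · refine ⟨B ^ x + low, high, ?_, ?_⟩
      · rw [List.length_cons, Nat.add_mul, Nat.add_mul, one_mul, ← pow_succ]
        rcases Nat.eq_zero_or_pos B with hB | hB
        · subst hB
          rw [zero_pow (by omega), zero_pow (by omega)] 
          simp
        · have := Nat.pow_le_pow_right hB (show x + 1 ≤ r by omega)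
          omega
      · rw [List.map_cons, List.sum_cons, h2, List.count_cons_of_ne hx.ne]
        ring
    · subst hx
      refine ⟨low, high, ?_, ?_⟩
      · rw [List.length_cons, Nat.add_mul]
        omega
      · rw [List.map_cons, List.sum_cons, h2, List.count_cons_self]
        ring
    · refine ⟨low, B ^ (x - (r + 1)) + high, ?_, ?_⟩
      · rw [List.length_cons, Nat.add_mul]
        omega
      · rw [List.map_cons, List.sum_cons, h2, List.count_cons_of_ne hx.ne', mul_add, ← pow_add,
          show r + 1 + (x - (r + 1)) = x by omega]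
        ring

theorem digit (B r : ℕ) (L : List ℕ) (hL : L.length < B) :
    ((L.map fun a => B ^ a).sum / B ^ r) % B = L.count r := by
  obtain ⟨low, high, h1, h2⟩ := digit_aux B r L
  have hB : 0 < B := by omega
  have hBr : 0 < B ^ r := Nat.pow_pos hB
  have hlow : low < B ^ r := by
    have h3 : low * B < B ^ r * B := by
      refine lt_of_le_of_lt h1 ?_
      rw [mul_comm (B ^ r)]
      exact Nat.mul_lt_mul_of_pos_right hL hBr
    exact Nat.lt_of_mul_lt_mul_right h3
  have h4 : (L.map fun a => B ^ a).sum = low + B ^ r * (L.count r + B * high) := by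
    rw [h2, pow_succ]
    ring
  rw [h4, Nat.add_mul_div_left _ _ hBr, Nat.div_eq_of_lt hlow, zero_add, Nat.add_mul_mod_self_left,
    Nat.mod_eq_of_lt (lt_of_le_of_lt List.count_le_length hL)]

/-- the values of the positive roots -/
def pv (Y : List ℕ) : List ℕ := R8.map fun a => dotN a Y

theorem dg_gen (s1 s2 s3 s4 s5 s6 s7 s8 r : ℕ) :
    dg (gen 256 s1 s2 s3 s4 s5 s6 s7 s8) r = (pv [s1, s2, s3, s4, s5, s6, s7, s8]).count r := by
  have h1 := digit 256 r (pv [s1, s2, s3, s4, s5, s6, s7, s8]) (by
    unfold pv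
    rw [List.length_map]
    decide)
  rw [← h1]
  unfold pv gen
  rw [List.map_map]
  rfl

theorem dotN_le_of_all2 : ∀ (a b Y : List ℕ), (a.length ≤ b.length) → (∀ i, a.getD i 0 ≤ b.getD i 0) → dotN a Y ≤ dotN b Y
  | [], b, Y, _, _ => by
    cases Y <;> simp [dotN]
  | x :: a, [], Y, h, _ => by simp at h
  | x :: a, y :: b, [], _, _ => by simp [dotN]
  | x :: a, y :: b, z :: Y, hl, h => by
    rw [dotN, dotN]
    have h0 := h 0
    simp only [List.getD_cons_zero] at h0
    have h1 := dotN_le_of_all2 a b Y (by simpa using hl) fun i => by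
      have := h (i + 1)
      simpa using this
    have h2 := Nat.mul_le_mul_right z h0
    omega

theorem dom8 : ∀ a ∈ R8, a.length = 8 ∧ ∀ i < 8, a.getD i 0 ≤ th8.getD i 0 := by decide +kernel

theorem dotN_le_th {a : List ℕ} (ha : a ∈ R8) (Y : List ℕ) : dotN a Y ≤ dotN th8 Y := by
  obtain ⟨h1, h2⟩ := dom8 a ha
  refine dotN_le_of_all2 a th8 Y (by rw [h1]; decide) fun i => ?_
  by_cases hi : i < 8
  · exact h2 i hi
  · rw [List.getD_eq_default a 0 (by omega)]
    exact Nat.zero_le _

theorem count_aux (N : ℕ) (r : ℕ) (hr : 0 < r) (hrN : r < N) (L : List ℕ) (hL : ∀ a ∈ L, a ≤ N) :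
    (L.map fun a => (if ((a : ℕ) : ZMod N) = (r : ZMod N) then 1 else 0) +
      (if (-((a : ℕ) : ZMod N)) = (r : ZMod N) then 1 else 0)).sum = L.count r + L.count (N - r) := by
  induction L with
  | nil => simp
  | cons x L ih =>
    have hx : x ≤ N := hL x (by simp)
    rw [List.map_cons, List.sum_cons, ih fun a ha => hL a (by simp [ha])]
    have e1 : (((x : ℕ) : ZMod N) = (r : ZMod N)) ↔ x = r := by
      rw [ZMod.natCast_eq_natCast_iff']
      rw [Nat.mod_eq_of_lt hrN]
      constructor
      · intro h
        rcases Nat.lt_or_ge x N with h1 | h1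
        · rwa [Nat.mod_eq_of_lt h1] at h
        · have : x = N := le_antisymm hx h1
          rw [this, Nat.mod_self] at h
          omega
      · rintro rfl
        exact Nat.mod_eq_of_lt hrN
    have e2 : ((-((x : ℕ) : ZMod N)) = (r : ZMod N)) ↔ x = N - r := by
      have h3 : ((-((x : ℕ) : ZMod N)) = (r : ZMod N)) ↔ (((x + r : ℕ)) : ZMod N) = 0 := by
        push_cast
        rw [neg_eq_iff_add_eq_zero]
      rw [h3, ZMod.natCast_eq_zero_iff]
      constructor
      · rintro ⟨c, hc⟩
        have hc1 : c = 1 := by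
          rcases c with _ | _ | c
          · omega
          · rfl
          · exfalso
            have : N * (c + 1 + 1) = N * c + 2 * N := by ring
            have h4 : 0 ≤ N * c := Nat.zero_le _
            omega
        subst hc1
        omega
      · rintro rfl
        exact ⟨1, by omega⟩
    rw [List.count_cons, List.count_cons]
    simp only [e1, e2, beq_iff_eq]
    omega

/-- **the number of roots with the value `r`** -/
theorem count_vec {N : ℕ} (Y : List ℕ) (hY : dotN th8 Y ≤ N) {r : ℕ} (hr : 0 < r) (hrN : r < N) :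
    (ms chevE8 8 (vecOf N Y)).count (r : ZMod N) = (pv Y).count r + (pv Y).count (N - r) := by
  rw [count_eq_sum, sum_vecOf, ← count_aux N r hr hrN (pv Y)]
  · unfold pv
    rw [List.map_map]
    rfl
  · intro a ha
    unfold pv at ha
    rw [List.mem_map] at ha
    obtain ⟨b, hb, rfl⟩ := ha
    exact (dotN_le_th hb Y).trans hY

theorem count_vec_zero {N : ℕ} (hN : 0 < N) (Y : List ℕ) (hY : dotN th8 Y ≤ N) :
    (ms chevE8 8 (vecOf N Y)).count 0 = 2 * ((pv Y).count 0 + (pv Y).count N) := by
  rw [count_eq_sum, sum_vecOf]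
  have hL : ∀ a ∈ pv Y, a ≤ N := by
    intro a ha
    unfold pv at ha
    rw [List.mem_map] at ha
    obtain ⟨b, hb, rfl⟩ := ha
    exact (dotN_le_th hb Y).trans hY
  have key : ∀ L : List ℕ, (∀ a ∈ L, a ≤ N) → (L.map fun a => (if ((a : ℕ) : ZMod N) = 0 then 1 else 0) +
      (if (-((a : ℕ) : ZMod N)) = 0 then 1 else 0)).sum = 2 * (L.count 0 + L.count N) := by
    intro L
    induction L with
    | nil => intro; simp
    | cons x L ih =>
      intro hL
      have hx : x ≤ N := hL x (by simp)
      rw [List.map_cons, List.sum_cons, ih fun a ha => hL a (by simp [ha])]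
      have e1 : (((x : ℕ) : ZMod N) = 0) ↔ x = 0 ∨ x = N := by
        rw [ZMod.natCast_eq_zero_iff]
        constructor
        · rintro ⟨c, hc⟩
          rcases c with _ | _ | c
          · left; omega
          · right; omega
          · exfalso
            have : N * (c + 1 + 1) = N * c + 2 * N := by ring
            have h4 : 0 ≤ N * c := Nat.zero_le _
            omega
        · rintro (rfl | rfl)
          · exact ⟨0, by omega⟩
          · exact ⟨1, by omega⟩
      have e2 : ((-((x : ℕ) : ZMod N)) = 0) ↔ x = 0 ∨ x = N := by rw [neg_eq_zero, e1]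
      rw [List.count_cons, List.count_cons]
      simp only [e1, e2, beq_iff_eq]
      by_cases h0 : x = 0
      · subst h0
        rw [if_pos (Or.inl rfl), if_pos rfl, if_neg (by omega)]
        omega
      · by_cases h1 : x = N
        · subst h1
          rw [if_pos (Or.inr rfl), if_neg h0, if_pos rfl]
          omega
        · rw [if_neg (by tauto), if_neg h0, if_neg h1]
          omega
  rw [← key _ hL]
  unfold pv
  rw [List.map_map]
  rfl

theorem dotN_th8 (s1 s2 s3 s4 s5 s6 s7 s8 : ℕ) : dotN th8 [s1, s2, s3, s4, s5, s6, s7, s8] =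
    2 * s1 + 3 * s2 + 4 * s3 + 6 * s4 + 5 * s5 + 4 * s6 + 3 * s7 + 2 * s8 := by
  simp only [th8, dotN]
  ring

theorem list8 {Y : List ℕ} (h : Y.length = 8) : ∃ s1 s2 s3 s4 s5 s6 s7 s8, Y = [s1, s2, s3, s4, s5, s6, s7, s8] := by
  match Y, h with
  | [a, b, c, d, e, f, g, i], _ => exact ⟨a, b, c, d, e, f, g, i, rfl⟩

end Cfsg.Agent.H943.En
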