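import Mathlib
import Cfsg.Agent.J3.Elts
import Cfsg.Agent.H732.SteinbergSL2
import Cfsg.Agent.H944.TS.Iface

/-!
# `PSL(2, 19)` is a subgroup of `J₃` (helper943)

Two elements `X` (order 19) and `W` (an involution) of `3·J₃`, given as words in the generators, satisfy the Steinberg
relations of `SL(2, 19)`.
-/

set_option autoImplicit false
set_option maxRecDepth 100000

namespace Cfsg.Agent.H943.J3L19

open Cfsg Cfsg.Spor Cfsg.Agent.J3.Core Cfsg.Agent.J3.Tab Cfsg.Agent.J3.Mono Cfsg.Agent.J3.Elts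
open Cfsg.Agent.H732 Cfsg.Agent.H731

instance fact19 : Fact (Nat.Prime 19) := ⟨by norm_num⟩

/-- the table of `X = D₁ E C` -/
def tX : List ℕ := compT (compT (tD (0, 1)) tE) tC

/-- the table of `P = D₆ C A₅` -/
def tP : List ℕ := compT (compT (tD (2, 0)) tC) (tA (1, 2))

/-- the table of `W = P B₆ P⁻¹` -/
def tW : List ℕ := compT (compT tP (tB (2, 0))) (powT tP 50)

/-- a table of `ww t` -/
def tww (t : ZMod 19) : List ℕ :=
  compT (compT (powT tX t.val) (compT (compT tW (powT tX (t⁻¹).val)) tW)) (powT tX t.val)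

theorem chkP : beqL (cols (powT tP 51)) (cols (tS 0)) = true := by decide +kernel

theorem chkX : beqL (cols (powT tX 19)) (cols (tS 0)) = true := by decide +kernel

theorem chkW : beqL (cols (compT tW tW)) (cols (tS 0)) = true := by decide +kernel

theorem chkww : ∀ t : ZMod 19, t ≠ 0 → beqL (cols (compT (tww t) tX))
    (cols (compT (compT (compT tW (powT tX (t⁻¹ ^ 2).val)) tW) (tww t))) = true := by decide +kernel

theorem chkh : beqL (cols (compT (tww (-1)) (tww (-1)))) (cols (tS 0)) = true := by decide +kernel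

theorem chkne : Nat.beq ((cols (compT tX tC)).getD 1 0) ((cols (compT tC tX)).getD 1 0) = false := by decide +kernel

section

variable {F : Type*} [Field F] {ω : F} (H : Good ω) (G : Gens F ω)

/-- the element of order 19 -/
def X : threeJ3 F ω := G.d (0, 1) * G.e * G.c

/-- the conjugating element -/
def P : threeJ3 F ω := G.d (2, 0) * G.c * G.a (1, 2)

/-- the involution -/
def W : threeJ3 F ω := P G * G.b (2, 0) * P G ^ 50

include H in
theorem repX : RepG ω tX (X G) := by
  refine RepG.mul (RepG.mul ?_ ?_) ?_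
  · unfold RepG; rw [G.hd]; exact repD H _
  · unfold RepG; rw [G.he]; exact repE H
  · unfold RepG; rw [G.hc]; exact repC H

include H in
theorem repP : RepG ω tP (P G) := by
  refine RepG.mul (RepG.mul ?_ ?_) ?_
  · unfold RepG; rw [G.hd]; exact repD H _
  · unfold RepG; rw [G.hc]; exact repC H
  · unfold RepG; rw [G.ha]; exact repA H _

include H in
theorem repW : RepG ω tW (W G) := by
  refine RepG.mul (RepG.mul (repP H G) ?_) ((repP H G).pow H 50)
  have h0 : ((2, 0) : F9) ≠ 0 := by decide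
  unfold RepG; rw [G.hb _ h0]; exact repB H _ h0

include H in
theorem X_pow : X G ^ 19 = 1 := RepG.ext ((repX H G).pow H 19) (repG_one H) (beqL_eq chkX)

include H in
theorem W_sq : W G * W G = 1 := RepG.ext ((repW H G).mul (repW H G)) (repG_one H) (beqL_eq chkW)

/-- the root elements -/
def xx (s : ZMod 19) : threeJ3 F ω := X G ^ s.val

/-- the opposite root elements -/
def yy (s : ZMod 19) : threeJ3 F ω := W G * X G ^ (-s).val * W G

include H in
theorem pow_add_val (s t : ZMod 19) : X G ^ (s + t).val = X G ^ s.val * X G ^ t.val := by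
  rw [← pow_add, ZMod.val_add]
  exact (pow_eq_pow_mod _ (X_pow H G)).symm

include H in
theorem xx_add (s t : ZMod 19) : xx G (s + t) = xx G s * xx G t := pow_add_val H G s t

include H in
theorem yy_add (s t : ZMod 19) : yy G (s + t) = yy G s * yy G t := by
  unfold yy
  rw [neg_add, pow_add_val H G]
  calc W G * (X G ^ (-s).val * X G ^ (-t).val) * W G
      = W G * X G ^ (-s).val * (1 * X G ^ (-t).val) * W G := by rw [one_mul]; simp only [mul_assoc]
    _ = W G * X G ^ (-s).val * (W G * W G * X G ^ (-t).val) * W G := by rw [W_sq H G]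
    _ = _ := by simp only [mul_assoc]

include H in
theorem rep_xx (s : ZMod 19) : RepG ω (powT tX s.val) (xx G s) := (repX H G).pow H _

include H in
theorem rep_yy (s : ZMod 19) : RepG ω (compT (compT tW (powT tX (-s).val)) tW) (yy G s) :=
  ((repW H G).mul ((repX H G).pow H _)).mul (repW H G)

include H in
theorem rep_ww (t : ZMod 19) : RepG ω (tww t) (ww (xx G) (yy G) t) := by
  unfold ww tww
  have h := rep_yy H G (-t⁻¹)
  rw [neg_neg] at h
  exact ((rep_xx H G t).mul h).mul (rep_xx H G t)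

include H in
theorem conj_one {t : ZMod 19} (ht : t ≠ 0) :
    ww (xx G) (yy G) t * X G * (ww (xx G) (yy G) t)⁻¹ = yy G (-(t⁻¹ ^ 2)) := by
  rw [mul_inv_eq_iff_eq_mul]
  have h := rep_yy H G (-(t⁻¹ ^ 2))
  rw [neg_neg] at h
  exact RepG.ext ((rep_ww H G t).mul (repX H G)) (h.mul (rep_ww H G t)) (beqL_eq (chkww t ht))

include H in
theorem yy_mul_nat (c : ZMod 19) (n : ℕ) : yy G c ^ n = yy G (n * c) := by
  induction n with
  | zero =>
    rw [pow_zero, Nat.cast_zero, zero_mul]
    unfold yy
    rw [neg_zero, ZMod.val_zero, pow_zero, mul_one, W_sq H G]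
  | succ n ih =>
    rw [pow_succ, ih, ← yy_add H G]
    congr 1
    push_cast
    ring

include H in
theorem stRel : StRel (xx G) (yy G) where
  x_add := xx_add H G
  y_add := yy_add H G
  conj t ht s := by
    unfold xx
    rw [← conj_pow, ← show xx G = fun s : ZMod 19 => X G ^ s.val from rfl, conj_one H G ht, yy_mul_nat H G]
    congr 1
    rw [ZMod.natCast_zmod_val]
    ring

include H in
/-- the homomorphism `SL(2, 19) → 3·J₃` -/
theorem exists_hom19 : ∃ φ : Matrix.SpecialLinearGroup (Fin 2) (ZMod 19) →* threeJ3 F ω,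
    φ (up (ZMod 19) 1) = X G ∧ φ (-1) = 1 := by
  obtain ⟨φ, h1, -, h3, -⟩ := H732.exists_hom (stRel H G) (hmul_of_finite (stRel H G))
  refine ⟨φ, ?_, ?_⟩
  · rw [h1]
    unfold xx
    rw [show (1 : ZMod 19).val = 1 from rfl, pow_one]
  · rw [h3 (-1) (by simp)]
    have e1 : (((-1 : Matrix.SpecialLinearGroup (Fin 2) (ZMod 19)) : Matrix (Fin 2) (Fin 2) (ZMod 19))) 0 0 = -1 := by simp
    have e2 : (((-1 : Matrix.SpecialLinearGroup (Fin 2) (ZMod 19)) : Matrix (Fin 2) (Fin 2) (ZMod 19))) 0 1 = 0 := by simp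
    rw [e1, e2, mul_zero, (stRel H G).x_zero, mul_one]
    exact RepG.ext ((rep_ww H G (-1)).mul (rep_ww H G (-1))) (repG_one H) (beqL_eq chkh)

include H in
theorem X_not_mem_center : X G ∉ Subgroup.center (threeJ3 F ω) := by
  intro h
  rw [Subgroup.mem_center_iff] at h
  have h1 := h G.c
  have hC : RepG ω tC G.c := by unfold RepG; rw [G.hc]; exact repC H
  have h2 := RepG.cols_eq H ((h1 ▸ hC.mul (repX H G)) : RepG ω (compT tC tX) (X G * G.c)) ((repX H G).mul hC) ((0, 1) : F9)
  have h3 : idx ((0, 1) : F9) = 1 := by decide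
  rw [h3] at h2
  have h4 := chkne
  rw [h2] at h4
  simp at h4

end

/-- **`PSL(2, 19)` is a subgroup of `J₃`** -/
theorem psl_le {F : Type} [Field F] [Fintype F] {ω : F} (hF : Fintype.card F = 4) (hω : ω ^ 2 + ω + 1 = 0) :
    ∃ L : Subgroup (J3 F ω), Nonempty (↥L ≃* Matrix.ProjectiveSpecialLinearGroup (Fin 2) (ZMod 19)) := by
  have H := good_of_card hF hω
  obtain ⟨G⟩ := exists_gens hF H
  obtain ⟨φ, hX, hneg⟩ := exists_hom19 H G
  let ψ : Matrix.SpecialLinearGroup (Fin 2) (ZMod 19) →* J3 F ω :=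
    (QuotientGroup.mk' (Subgroup.center (threeJ3 F ω))).comp φ
  have hcen : Subgroup.center (Matrix.SpecialLinearGroup (Fin 2) (ZMod 19)) ≤ ψ.ker := by
    intro g hg
    rw [MonoidHom.mem_ker]
    rw [Matrix.SpecialLinearGroup.mem_center_iff] at hg
    obtain ⟨r, hr, hg⟩ := hg
    rw [Fintype.card_fin] at hr
    have hdec : ∀ r : ZMod 19, r ^ 2 = 1 → r = 1 ∨ r = -1 := by decide +kernel
    rcases hdec r hr with rfl | rfl
    · have : g = 1 := by
        apply Subtype.ext
        rw [← hg, map_one]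
        rfl
      rw [this, map_one]
    · have : g = -1 := by
        apply Subtype.ext
        rw [← hg, map_neg, map_one]
        rfl
      rw [this]
      show QuotientGroup.mk' _ (φ (-1)) = 1
      rw [hneg, map_one]
  let ψ' : Matrix.ProjectiveSpecialLinearGroup (Fin 2) (ZMod 19) →* J3 F ω := QuotientGroup.lift _ ψ hcen
  have hsimple : IsSimpleGroup (Matrix.ProjectiveSpecialLinearGroup (Fin 2) (ZMod 19)) :=
    Matrix.ProjectiveSpecialLinearGroup.rank_two_simple (by rw [Nat.card_zmod]; norm_num)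
  have hinj : Function.Injective ψ' := by
    rw [← MonoidHom.ker_eq_bot_iff]
    rcases (inferInstance : ψ'.ker.Normal).eq_bot_or_eq_top with h | h
    · exact h
    · exfalso
      have h1 : ψ (up (ZMod 19) 1) = 1 := by
        have h2 : (QuotientGroup.mk (up (ZMod 19) 1) : Matrix.ProjectiveSpecialLinearGroup (Fin 2) (ZMod 19)) ∈ ψ'.ker := by
          rw [h]; exact Subgroup.mem_top _
        exact h2
      have h3 : QuotientGroup.mk' (Subgroup.center (threeJ3 F ω)) (φ (up (ZMod 19) 1)) = 1 := h1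
      rw [hX] at h3
      exact X_not_mem_center H G ((QuotientGroup.eq_one_iff _).1 h3)
  exact ⟨ψ'.range, ⟨(MonoidHom.ofInjective hinj).symm⟩⟩

open Cfsg.Agent.OrdDiv Cfsg.Agent.H944.TS in
/-- **task 991, Y** : every group isomorphic to `J₃` has a subgroup isomorphic to `PSL(2, 19)` -/
theorem sub_j3.{u} : Sub.{u} .j3 (.psl 2 19) := by
  intro Y _ hY
  obtain ⟨F, _, _, ω, hF, hω, ⟨e⟩⟩ := hY
  obtain ⟨L, ⟨f⟩⟩ := psl_le hF hω
  refine ⟨L.comap e.toMonoidHom, ZMod 19, inferInstance, inferInstance, by rw [ZMod.card], ⟨?_⟩⟩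
  refine MulEquiv.trans ?_ f
  exact (e.subgroupMap (L.comap e.toMonoidHom)).trans (MulEquiv.subgroupCongr
    (Subgroup.map_comap_eq_self_of_surjective e.surjective L))

end Cfsg.Agent.H943.J3L19
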