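import Cfsg.Agent.H943.SL2Type
import Cfsg.Agent.H943.RepAdd

/-!
# Endomorphisms of irreducible modules (helper943)

* `exists_end` : an irreducible module with type `D` has an automorphism commuting with the group which is `h b` on `D`;
* `dvd_card_sub_one` : an automorphism of prime order `l` of an irreducible module: `|C| ≡ 1 mod l` for stable `C`;
* `triv_of_type` : `D` fixed by the torus and `S = 0` on `D`: the trivial module.
-/

set_option autoImplicit false
set_option linter.unusedSectionVars false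

namespace Cfsg.Agent.H943.SL2Mod

open Matrix Cfsg.Agent.H943.SL2Rel Cfsg.Agent.H943.RepAdd

variable {k : Type*} [Field k] {F : Type*} [Field F] [Fintype F] [DecidableEq F]

section Prod

variable {V₁ V₂ : Type*} [AddCommGroup V₁] [Module k V₁] [AddCommGroup V₂] [Module k V₂]
  (ρ₁ : Representation k (SpecialLinearGroup (Fin 2) F) V₁) (ρ₂ : Representation k (SpecialLinearGroup (Fin 2) F) V₂)

theorem SS_prod (x : V₁ × V₂) : SS (prodRep ρ₁ ρ₂) x = (SS ρ₁ x.1, SS ρ₂ x.2) := by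
  rw [SS_apply, SS_apply, SS_apply]
  apply Prod.ext
  · rw [Prod.fst_sum]; rfl
  · rw [Prod.snd_sum]; rfl

/-- the graph of a map of types -/
theorem graph_good {D : Submodule k V₁} {c : k} (G : Good ρ₁ D c) (θ : V₁ →ₗ[k] V₂)
    (hθ : ∀ a, ∀ d ∈ D, θ (ρ₁ (h a) d) = ρ₂ (h a) (θ d)) (hU : ∀ t, ∀ d ∈ D, ρ₂ (u t) (θ d) = θ d)
    (hS : ∀ d ∈ D, SS ρ₂ (θ d) = c • θ d) :
    Good (prodRep ρ₁ ρ₂) (D.map (LinearMap.prod LinearMap.id θ)) c := by
  constructor
  · rintro a _ ⟨d, hd, rfl⟩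
    exact ⟨ρ₁ (h a) d, G.tinv a d hd, Prod.ext rfl (hθ a d hd)⟩
  · rintro t _ ⟨d, hd, rfl⟩
    exact Prod.ext (G.ufix t d hd) (hU t d hd)
  · rintro _ ⟨d, hd, rfl⟩
    rw [SS_prod]
    exact Prod.ext (G.ss d hd) (hS d hd)

theorem graph_tsimple {D : Submodule k V₁} (hD : TSimple ρ₁ D) (θ : V₁ →ₗ[k] V₂)
    (hθ : ∀ a, ∀ d ∈ D, θ (ρ₁ (h a) d) = ρ₂ (h a) (θ d)) :
    TSimple (prodRep ρ₁ ρ₂) (D.map (LinearMap.prod LinearMap.id θ)) := by
  refine ⟨?_, ?_, ?_⟩
  · intro h0
    obtain ⟨d, hd, hd0⟩ := Submodule.exists_mem_ne_zero_of_ne_bot hD.1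
    have h1 : LinearMap.prod LinearMap.id θ d ∈ D.map (LinearMap.prod LinearMap.id θ) := Submodule.mem_map_of_mem hd
    rw [h0] at h1
    exact hd0 (congrArg Prod.fst ((Submodule.mem_bot k).1 h1))
  · rintro a _ ⟨d, hd, rfl⟩
    exact ⟨ρ₁ (h a) d, hD.2.1 a d hd, Prod.ext rfl (hθ a d hd)⟩
  · intro Γ hle hT
    have h1 : ∀ x ∈ Γ, x.1 ∈ D ∧ x = LinearMap.prod LinearMap.id θ x.1 := by
      intro x hx
      obtain ⟨d, hd, rfl⟩ := hle hx
      exact ⟨hd, rfl⟩
    rcases hD.2.2 (Γ.map (LinearMap.fst k V₁ V₂)) (by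
      rintro _ ⟨x, hx, rfl⟩
      exact (h1 x hx).1) (by
      rintro a _ ⟨x, hx, rfl⟩
      exact ⟨_, hT a x hx, rfl⟩) with h2 | h2
    · left
      rw [eq_bot_iff]
      intro x hx
      have h3 : x.1 ∈ Γ.map (LinearMap.fst k V₁ V₂) := ⟨x, hx, rfl⟩
      rw [h2] at h3
      rw [(h1 x hx).2, (Submodule.mem_bot k).1 h3, map_zero]
      exact Submodule.zero_mem _
    · right
      apply le_antisymm hle
      rintro _ ⟨d, hd, rfl⟩
      have hd' : d ∈ D := hd
      rw [← h2] at hd'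
      obtain ⟨x, hx, e⟩ := hd'
      have e' : x.1 = d := e
      rw [← e', ← (h1 x hx).2]
      exact hx

end Prod

variable {V : Type*} [AddCommGroup V] [Module k V] (ρ : Representation k (SpecialLinearGroup (Fin 2) F) V)
variable (p : ℕ) [Fact p.Prime] [CharP k p] [CharP F p]

include p in
/-- **an endomorphism extending the action of an element of the torus on the type** -/
theorem exists_end (hI : Irr ρ) {D : Submodule k V} {c : k} (G : Good ρ D c) (hD : TSimple ρ D) (b : Fˣ) :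
    ∃ α : V ≃ₗ[k] V, (∀ g x, α (ρ g x) = ρ g (α x)) ∧ ∀ x ∈ D, α x = ρ (h b) x := by
  have hθ : ∀ a, ∀ d ∈ D, ρ (h b) (ρ (h a) d) = ρ (h a) (ρ (h b) d) := by
    intro a d _
    rw [apply_mul, apply_mul, ← h_mul, ← h_mul, mul_comm]
  have hex : ∃ x ∈ D.map (LinearMap.prod LinearMap.id (ρ (h b))), x.1 ≠ 0 := by
    obtain ⟨d, hd, hd0⟩ := Submodule.exists_mem_ne_zero_of_ne_bot hD.1
    exact ⟨_, Submodule.mem_map_of_mem hd, hd0⟩
  have hex2 : ∃ x ∈ D.map (LinearMap.prod LinearMap.id (ρ (h b))), x.2 ≠ 0 := by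
    obtain ⟨d, hd, hd0⟩ := Submodule.exists_mem_ne_zero_of_ne_bot hD.1
    refine ⟨_, Submodule.mem_map_of_mem hd, fun h0 => hd0 ?_⟩
    have h1 : ρ (h b) d = 0 := h0
    have h2 := congrArg (ρ (h b⁻¹)) h1
    rw [apply_mul, ← h_mul, inv_mul_cancel, h_one, map_one, map_zero] at h2
    exact h2
  obtain ⟨φ, h1, h2⟩ := exists_iso ρ ρ p (graph_good ρ ρ G (ρ (h b)) hθ (fun t d hd => G.ufix t _ (G.tinv b d hd))
    (fun d hd => G.ss _ (G.tinv b d hd))) (graph_tsimple ρ ρ hD (ρ (h b)) hθ) hI hI hex hex2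
  exact ⟨φ, h1, fun x hx => h2 (x, ρ (h b) x) ⟨x, hx, rfl⟩⟩

/-- the kernel of an endomorphism commuting with an irreducible group -/
theorem ker_eq (hI : Irr ρ) (β : Module.End k V) (hβ : ∀ g x, β (ρ g x) = ρ g (β x)) :
    LinearMap.ker β = ⊥ ∨ β = 0 := by
  rcases hI.2 (LinearMap.ker β) (by
    intro g x hx
    rw [LinearMap.mem_ker] at hx ⊢
    rw [hβ, hx, map_zero]) with h | h
  · exact Or.inl h
  · exact Or.inr (LinearMap.ker_eq_top.1 h)

/-- **stable subspaces of a fixed-point-free automorphism of prime order** -/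
theorem card_modEq_one {l : ℕ} [Fact l.Prime] (β : V ≃ₗ[k] V) (h1 : ∀ x, (β ^ l) x = x) (h2 : ∀ x, β x = x → x = 0)
    (C : Submodule k V) (hC : ∀ x ∈ C, β x ∈ C) [Finite C] : Nat.card C ≡ 1 [MOD l] := by
  classical
  have hinj : Function.Injective (fun x : C => (⟨β x, hC x x.2⟩ : C)) := by
    intro x y e
    exact Subtype.ext (β.injective (congrArg Subtype.val e))
  let b : Equiv.Perm C := Equiv.ofBijective _ (Finite.injective_iff_bijective.1 hinj)
  have hb : ∀ (n : ℕ) (x : C), (((b ^ n) x : C) : V) = (β ^ n) x := by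
    intro n
    induction n with
    | zero => intro x; rfl
    | succ n ih =>
      intro x
      rw [pow_succ', pow_succ', Equiv.Perm.mul_apply]
      show β (((b ^ n) x : C) : V) = β ((β ^ n) x)
      rw [ih]
  have hP : IsPGroup l (Subgroup.zpowers b) := by
    intro g
    obtain ⟨g, n, rfl⟩ := g
    refine ⟨1, ?_⟩
    apply Subtype.ext
    show (b ^ n) ^ l ^ 1 = 1
    rw [pow_one, ← zpow_natCast, zpow_comm, zpow_natCast]
    have : b ^ l = 1 := by
      ext x
      rw [hb, h1]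
      rfl
    rw [this, _root_.one_zpow]
  have h3 := hP.card_modEq_card_fixedPoints C
  have h4 : MulAction.fixedPoints (Subgroup.zpowers b) C = {0} := by
    ext x
    rw [MulAction.mem_fixedPoints, Set.mem_singleton_iff]
    constructor
    · intro hx
      have h5 := hx ⟨b, Subgroup.mem_zpowers b⟩
      have h6 : b x = x := h5
      exact Subtype.ext (h2 _ (congrArg Subtype.val h6))
    · rintro rfl ⟨g, n, rfl⟩
      show (b ^ n) 0 = 0
      have h7 : b 0 = 0 := Subtype.ext (map_zero β)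
      exact (Equiv.Perm.zpow_apply_eq_self_of_apply_eq_self h7 n)
  rw [h4] at h3
  simpa using h3

/-- **the trivial type** -/
theorem triv_of_type (hI : Irr ρ) {D : Submodule k V} (G : Good ρ D 0) (hD : TSimple ρ D)
    (hT : ∀ a, ∀ d ∈ D, ρ (h a) d = d) (p : ℕ) [Fact p.Prime] [CharP k p] [CharP F p] :
    (∀ g x, ρ g x = x) ∧ Module.finrank k V = 1 := by
  obtain ⟨d, hd, hd0⟩ := Submodule.exists_mem_ne_zero_of_ne_bot hD.1
  -- the trivial representation
  let τ : Representation k (SpecialLinearGroup (Fin 2) F) k := 1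
  have hτ : ∀ g x, τ g x = x := fun g x => rfl
  have hDspan : D = Submodule.span k {d} := by
    rcases hD.2.2 (Submodule.span k {d}) (by simpa using hd) (by
      intro a x hx
      rw [hT a x ((Submodule.span_le.2 (by simpa using hd)) hx)]
      exact hx) with h0 | h0
    · exact absurd (Submodule.span_singleton_eq_bot.1 h0) hd0
    · exact h0.symm
  obtain ⟨f, hf⟩ : ∃ f : V →ₗ[k] k, f d = 1 := by
    by_contra hcon
    push Not at hcon
    apply hd0
    have h1 : ∀ g : V →ₗ[k] k, g d = 0 := by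
      intro g
      by_contra hg
      exact hcon ((g d)⁻¹ • g) (by rw [LinearMap.smul_apply, smul_eq_mul, inv_mul_cancel₀ hg])
    exact (Module.forall_dual_apply_eq_zero_iff k d).1 h1
  have hq : ((Fintype.card F : ℕ) : k) = 0 := by
    rw [CharP.cast_eq_zero_iff k p]
    obtain ⟨n, -, hn⟩ := FiniteField.card F p
    rw [hn]
    exact dvd_pow_self p n.2.ne'
  have hSτ : ∀ x : k, SS τ x = 0 := by
    intro x
    rw [SS_apply]
    have : ∀ t : F, τ (u t) (τ w x) = x := fun t => rfl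
    rw [Finset.sum_congr rfl fun t _ => this t, Finset.sum_const, Finset.card_univ, ← Nat.cast_smul_eq_nsmul k, hq,
      zero_smul]
  have hIτ : Irr τ := by
    refine ⟨inferInstance, fun W _ => ?_⟩
    exact eq_bot_or_eq_top W
  have hθ : ∀ a, ∀ x ∈ D, f (ρ (h a) x) = τ (h a) (f x) := by
    intro a x hx
    rw [hT a x hx, hτ]
  have hfd : (LinearMap.prod LinearMap.id f) d = (d, 1) := Prod.ext rfl hf
  obtain ⟨φ, h1, -⟩ := exists_iso ρ τ p (graph_good ρ τ G f hθ (fun t x hx => rfl) (fun x hx => by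
    rw [hSτ, zero_smul])) (graph_tsimple ρ τ hD f hθ) hI hIτ
    ⟨_, Submodule.mem_map_of_mem hd, by rw [hfd]; exact hd0⟩
    ⟨_, Submodule.mem_map_of_mem hd, by rw [hfd]; exact one_ne_zero⟩
  refine ⟨fun g x => φ.injective (by rw [h1, hτ]), ?_⟩
  rw [LinearEquiv.finrank_eq φ, Module.finrank_self]

end Cfsg.Agent.H943.SL2Mod
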