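import Cfsg.Agent.H943.SL2Rel

/-!
# Fixed vectors of unipotent groups (helper943)

* `exists_fixed` : finitely many commuting operators `A` with `A ^ p = 1` on a nonzero space of characteristic `p` have
  a common nonzero fixed vector;
* `exists_fixed_dual` : the same for functionals.
-/

set_option autoImplicit false

namespace Cfsg.Agent.H943.SL2Fix

variable {k : Type*} [Field k] (p : ℕ) [Fact p.Prime] [CharP k p]

theorem nilp {V : Type*} [AddCommGroup V] [Module k V] {A : Module.End k V} (hA : A ^ p = 1) :
    (A - 1) ^ p = 0 := by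
  rcases subsingleton_or_nontrivial V with hV | hV
  · exact Subsingleton.elim _ _
  · have : CharP (Module.End k V) p := charP_of_injective_algebraMap (algebraMap k (Module.End k V)).injective p
    rw [sub_pow_char_of_commute _ (Commute.one_right A), hA, one_pow, sub_self]

/-- **commuting operators of order `p` have a common fixed vector** -/
theorem exists_fixed {V : Type*} [AddCommGroup V] [Module k V] [Nontrivial V] {ι : Type*} (A : ι → Module.End k V)
    (hc : ∀ i j, Commute (A i) (A j)) (hA : ∀ i, A i ^ p = 1) (s : Finset ι) :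
    ∃ v : V, v ≠ 0 ∧ ∀ i ∈ s, A i v = v := by
  classical
  induction s using Finset.induction_on with
  | empty =>
    obtain ⟨v, hv⟩ := exists_ne (0 : V)
    exact ⟨v, hv, fun i hi => absurd hi (Finset.notMem_empty i)⟩
  | insert i s hi ih =>
    obtain ⟨v, hv, hs⟩ := ih
    have hex : ∃ n : ℕ, ((A i - 1) ^ n : Module.End k V) v = 0 := ⟨p, by rw [nilp p (hA i)]; rfl⟩
    have h0 : Nat.find hex ≠ 0 := by
      intro h0
      have h1 := Nat.find_spec hex
      rw [h0, pow_zero] at h1
      exact hv h1
    obtain ⟨n, hn⟩ := Nat.exists_eq_succ_of_ne_zero h0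
    have hn1 : ((A i - 1) ^ n : Module.End k V) v ≠ 0 := Nat.find_min hex (by rw [hn]; exact Nat.lt_succ_self n)
    have hn2 : ((A i - 1) ^ (n + 1) : Module.End k V) v = 0 := by
      have := Nat.find_spec hex
      rwa [hn] at this
    refine ⟨((A i - 1) ^ n : Module.End k V) v, hn1, fun j hj => ?_⟩
    rcases Finset.mem_insert.1 hj with rfl | hj
    · rw [pow_succ', Module.End.mul_apply, LinearMap.sub_apply, Module.End.one_apply, sub_eq_zero] at hn2
      exact hn2
    · have h1 : Commute (A j) ((A i - 1) ^ n) := ((hc j i).sub_right (Commute.one_right _)).pow_right n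
      calc A j (((A i - 1) ^ n : Module.End k V) v) = (A j * (A i - 1) ^ n : Module.End k V) v := rfl
        _ = ((A i - 1) ^ n * A j : Module.End k V) v := by rw [h1.eq]
        _ = ((A i - 1) ^ n : Module.End k V) (A j v) := rfl
        _ = ((A i - 1) ^ n : Module.End k V) v := by rw [hs j hj]

/-- **commuting operators of order `p` have a common fixed functional** -/
theorem exists_fixed_dual {V : Type*} [AddCommGroup V] [Module k V] [Nontrivial V] {ι : Type*} (A : ι → Module.End k V)
    (hc : ∀ i j, Commute (A i) (A j)) (hA : ∀ i, A i ^ p = 1) (s : Finset ι) :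
    ∃ f : Module.Dual k V, f ≠ 0 ∧ ∀ i ∈ s, ∀ v, f (A i v) = f v := by
  have hm : ∀ (B : Module.End k V) (n : ℕ), (Module.Dual.transpose (R := k) B : Module.End k (Module.Dual k V)) ^ n =
      Module.Dual.transpose (R := k) (B ^ n) := by
    intro B n
    induction n with
    | zero => rfl
    | succ n ih => rw [pow_succ, ih, pow_succ']; rfl
  obtain ⟨f, hf, h⟩ := exists_fixed p (k := k) (V := Module.Dual k V)
    (fun i => (Module.Dual.transpose (R := k) (A i) : Module.End k (Module.Dual k V)))
    (fun i j => by
      show Module.Dual.transpose (R := k) (A i) * Module.Dual.transpose (R := k) (A j) =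
        Module.Dual.transpose (R := k) (A j) * Module.Dual.transpose (R := k) (A i)
      have h1 : ∀ B C : Module.End k V, (Module.Dual.transpose (R := k) B : Module.End k (Module.Dual k V)) *
        Module.Dual.transpose (R := k) C = Module.Dual.transpose (R := k) (C * B) := fun B C => rfl
      rw [h1, h1, (hc i j).eq])
    (fun i => by
      show (Module.Dual.transpose (R := k) (A i) : Module.End k (Module.Dual k V)) ^ p = 1
      rw [hm, hA]
      rfl) s
  exact ⟨f, hf, fun i hi v => DFunLike.congr_fun (h i hi) v⟩

end Cfsg.Agent.H943.SL2Fix
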