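import Cfsg.Agent.H943.SL2Wt

/-!
# Linear inequalities for the weights of modules (helper943)

`fun_nonneg` : an inequality between the multiplicities of the weights which holds for the `V_b` holds for all modules.
-/

set_option autoImplicit false
set_option linter.unusedSectionVars false

namespace Cfsg.Agent.H943.SL2Mod

open Matrix Cfsg.Agent.H943.SL2Rel Cfsg.Agent.H943.RepAdd

section Iso

variable {k : Type*} [Field k] {G : Type*} [Group G] {V₁ V₂ : Type*} [AddCommGroup V₁] [Module k V₁]
  [AddCommGroup V₂] [Module k V₂] (ρ₁ : Representation k G V₁) (ρ₂ : Representation k G V₂)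

theorem finrank_eig_iso (φ : V₁ ≃ₗ[k] V₂) (h : ∀ g x, φ (ρ₁ g x) = ρ₂ g (φ x)) (g : G) (μ : k) :
    Module.finrank k (eig ρ₁ g μ) = Module.finrank k (eig ρ₂ g μ) := by
  have h1 : ∀ x, x ∈ eig ρ₁ g μ ↔ φ x ∈ eig ρ₂ g μ := by
    intro x
    rw [mem_eig, mem_eig, ← h, ← map_smul, φ.injective.eq_iff]
  have h2 : (eig ρ₁ g μ).map (φ : V₁ →ₗ[k] V₂) = eig ρ₂ g μ := by
    ext y
    constructor
    · rintro ⟨x, hx, rfl⟩
      exact (h1 x).1 hx
    · intro hy
      refine ⟨φ.symm y, (h1 _).2 (by rwa [LinearEquiv.apply_symm_apply]), ?_⟩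
      exact φ.apply_symm_apply y
  rw [← h2]
  exact (LinearEquiv.finrank_map_eq φ _).symm

end Iso

variable {k : Type*} [Field k] [DecidableEq k] {F : Type*} [Field F] [Fintype F] [DecidableEq F] (ι : F →+* k)
variable (p : ℕ) [Fact p.Prime] [CharP k p] [CharP F p]

/-- the value of a linear functional on the weights -/
noncomputable def Phi {V : Type*} [AddCommGroup V] [Module k V] (lam : Fˣ) (f : ℕ → ℤ)
    (ρ : Representation k (SpecialLinearGroup (Fin 2) F) V) : ℤ :=
  ∑ κ ∈ Finset.range (Fintype.card F - 1), f κ * (Module.finrank k (eig ρ (h lam) (ι lam ^ κ)) : ℤ)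

/-- the weight of a monomial -/
def wtOf (n b m : ℕ) : ℕ := (m + (n - 1) * (b - m)) % n

theorem primitive (hι : Function.Injective ι) {lam : Fˣ} (hlam : ∀ x, x ∈ Subgroup.zpowers lam) :
    IsPrimitiveRoot (ι lam) (Fintype.card F - 1) := by
  have hord : orderOf lam = Fintype.card F - 1 := by
    rw [orderOf_eq_card_of_forall_mem_zpowers hlam, Nat.card_eq_fintype_card, Fintype.card_units]
  have h1 : IsPrimitiveRoot lam (Fintype.card F - 1) := hord ▸ IsPrimitiveRoot.orderOf lam
  have h2 : IsPrimitiveRoot (lam : F) (Fintype.card F - 1) := IsPrimitiveRoot.coe_units_iff.2 h1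
  exact h2.map_of_injective hι

theorem Phi_rb (hι : Function.Injective ι) (hodd : Odd (Fintype.card F)) {lam : Fˣ}
    (hlam : ∀ x, x ∈ Subgroup.zpowers lam) (f : ℕ → ℤ) {b : ℕ} (hb : b ≤ Fintype.card F - 1) :
    Phi ι lam f (rb ι p hodd hb) = ∑ m ∈ Bf k b, f (wtOf (Fintype.card F - 1) b m) := by
  have hprim := primitive ι hι hlam
  have hq : 1 < Fintype.card F := Fintype.one_lt_card
  set n := Fintype.card F - 1 with hn
  have hn0 : 0 < n := by omega
  unfold Phi
  have h1 : ∀ m, ι lam ^ m * (ι lam)⁻¹ ^ (b - m) = ι lam ^ wtOf n b m := by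
    intro m
    unfold wtOf
    have h2 : (ι lam : k)⁻¹ = ι lam ^ (n - 1) := by
      apply inv_eq_of_mul_eq_one_left
      rw [← pow_succ, Nat.sub_add_cancel hn0, hprim.pow_eq_one]
    rw [h2, ← pow_mul, ← pow_add]
    rw [← Nat.div_add_mod (m + (n - 1) * (b - m)) n, pow_add, pow_mul, hprim.pow_eq_one, one_pow, one_mul,
      Nat.mul_add_mod_self_left, Nat.mod_mod]
  have h2 : ∀ κ ∈ Finset.range n, f κ * (Module.finrank k (eig (rb ι p hodd hb) (h lam) (ι lam ^ κ)) : ℤ) =
      ∑ m ∈ (Bf k b).filter fun m => wtOf n b m = κ, f (wtOf n b m) := by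
    intro κ hκ
    rw [finrank_eig_rb ι p hι hodd hb]
    have h3 : ((Bf k b).filter fun m => ι lam ^ m * (ι lam)⁻¹ ^ (b - m) = ι lam ^ κ) =
        (Bf k b).filter fun m => wtOf n b m = κ := by
      refine Finset.filter_congr fun m _ => ?_
      rw [h1]
      constructor
      · intro h4
        exact hprim.pow_inj (Nat.mod_lt _ hn0) (Finset.mem_range.1 hκ) h4
      · rintro h4
        rw [h4]
    rw [h3, Finset.sum_congr rfl (g := fun _ => f κ) fun m hm => by rw [(Finset.mem_filter.1 hm).2], Finset.sum_const,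
      nsmul_eq_mul, mul_comm]
  rw [Finset.sum_congr rfl h2]
  exact Finset.sum_fiberwise_of_maps_to (fun m _ => Finset.mem_range.2 (Nat.mod_lt _ hn0)) _

include p in
theorem even_of_h_neg_one (hp2 : p ≠ 2) (hodd : Odd (Fintype.card F)) {b : ℕ} (hb : b ≤ Fintype.card F - 1)
    (h1 : rb ι p hodd hb (h (-1)) = 1) : Even b := by
  have hmb : mon ι b b ∈ Vb ι b := Db_le ι p hodd hb (mon_mem_Db ι b)
  have h2 := congrArg Subtype.val (LinearMap.congr_fun h1 ⟨_, hmb⟩)
  have h3 : fRep k F (h (-1)) (mon ι b b) = mon ι b b := h2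
  rw [h_mon, Nat.sub_self, pow_zero, mul_one] at h3
  have h4 := congrFun h3 ((1 : F), (0 : F))
  have h5 : ι ((-1 : Fˣ) : F) ^ b * mon ι b b (1, 0) = mon ι b b (1, 0) := h4
  rw [mon_self, map_one, one_pow, mul_one, Units.val_neg, Units.val_one, map_neg, map_one] at h5
  by_contra hcon
  rw [Nat.not_even_iff_odd] at hcon
  rw [hcon.neg_one_pow] at h5
  have h6 : (2 : k) = 0 := by linear_combination -h5
  have h7 : ((2 : ℕ) : k) = 0 := by exact_mod_cast h6
  rw [CharP.cast_eq_zero_iff k p] at h7
  exact hp2 ((Nat.prime_dvd_prime_iff_eq Fact.out Nat.prime_two).1 h7)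

variable [IsAlgClosed k]

universe v

/-- **inequalities for the weights** -/
theorem fun_nonneg (hp2 : p ≠ 2) (hι : Function.Injective ι) (hodd : Odd (Fintype.card F)) {lam : Fˣ}
    (hlam : ∀ x, x ∈ Subgroup.zpowers lam) (f : ℕ → ℤ) (d : ℕ)
    (hf : ∀ b ≤ Fintype.card F - 1, Even b → (Bf k b).card ≤ d →
      0 ≤ ∑ m ∈ Bf k b, f (wtOf (Fintype.card F - 1) b m)) (n : ℕ) :
    ∀ (V : Type v) [AddCommGroup V] [Module k V] [FiniteDimensional k V]
      (ρ : Representation k (SpecialLinearGroup (Fin 2) F) V) (_ : ρ (h (-1)) = 1) (_ : Module.finrank k V = n)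
      (_ : n ≤ d), 0 ≤ Phi ι lam f ρ := by
  induction n using Nat.strong_induction_on with
  | _ n ih =>
    intro V _ _ _ ρ h1 hn hnd
    rcases subsingleton_or_nontrivial V with hV | hV
    · unfold Phi
      refine Finset.sum_nonneg fun κ _ => ?_
      rw [Module.finrank_zero_of_subsingleton, Nat.cast_zero, mul_zero]
    · obtain ⟨W, hW, hW0, hmin⟩ := exists_irr_sub ρ
      have hIW : Irr (subRep ρ W hW) := by
        refine ⟨Submodule.nontrivial_iff_ne_bot.2 hW0, fun W' hW' => ?_⟩
        rcases hmin (W'.map W.subtype) (Submodule.map_subtype_le _ _) (by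
          rintro g _ ⟨x, hx, rfl⟩
          exact ⟨_, hW' g x hx, rfl⟩) with h1 | h1
        · left
          rw [eq_bot_iff]
          intro x hx
          have h2 : (x : V) ∈ W'.map W.subtype := ⟨x, hx, rfl⟩
          rw [h1] at h2
          exact (Submodule.mem_bot k).2 (Subtype.ext ((Submodule.mem_bot k).1 h2))
        · right
          rw [eq_top_iff]
          intro x _
          have h2 : (x : V) ∈ W'.map W.subtype := by rw [h1]; exact x.2
          obtain ⟨y, hy, e⟩ := h2
          rwa [← Subtype.ext (p := fun z => z ∈ W) e]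
      have e1 : subRep ρ W hW (h (-1)) = 1 := by
        refine LinearMap.ext fun x => Subtype.ext ?_
        rw [coe_subRep, h1]
        rfl
      have e2 : quotRep ρ W hW (h (-1)) = 1 := by
        refine LinearMap.ext fun x => ?_
        obtain ⟨y, rfl⟩ := W.mkQ_surjective x
        rw [quotRep_mk, h1]
        rfl
      have hpos : 0 < Module.finrank k W := by
        have := hIW.1
        exact Module.finrank_pos
      have hadd := Submodule.finrank_quotient_add_finrank W
      have i1 := ih (Module.finrank k (V ⧸ W)) (by omega) (V ⧸ W) (quotRep ρ W hW) e2 rfl (by omega)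
      -- the irreducible part
      obtain ⟨b, hb, φ, hφ⟩ := irr_iso ι p (subRep ρ W hW) hι hodd hIW
      have i2 : 0 ≤ Phi ι lam f (subRep ρ W hW) := by
        have h2 : Phi ι lam f (subRep ρ W hW) = Phi ι lam f (rb ι p hodd hb) := by
          unfold Phi
          refine Finset.sum_congr rfl fun κ _ => ?_
          rw [finrank_eig_iso (rb ι p hodd hb) (subRep ρ W hW) φ hφ]
        rw [h2, Phi_rb ι p hι hodd hlam f hb]
        apply hf b hb
        · apply even_of_h_neg_one ι p hp2 hodd hb
          refine LinearMap.ext fun x => φ.injective ?_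
          rw [hφ, e1]
          rfl
        · rw [← finrank_Vb ι p hι hodd hb, LinearEquiv.finrank_eq φ]
          omega
      have hprim := primitive ι hι hlam
      have hq : 1 < Fintype.card F := Fintype.one_lt_card
      have hn0 : ((Fintype.card F - 1 : ℕ) : k) ≠ 0 := by
        rw [Nat.cast_sub hq.le, card_zero (k := k) (F := F) p, Nat.cast_one, zero_sub]
        exact neg_ne_zero.2 one_ne_zero
      have hpow : ρ (h lam) ^ (Fintype.card F - 1) = 1 := by
        rw [← map_pow, ← h_pow]
        have h2 : lam ^ (Fintype.card F - 1) = 1 := by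
          rw [← Fintype.card_units]
          exact pow_card_eq_one
        rw [h2, h_one, map_one]
      have h3 : Phi ι lam f ρ = Phi ι lam f (subRep ρ W hW) + Phi ι lam f (quotRep ρ W hW) := by
        unfold Phi
        rw [← Finset.sum_add_distrib]
        refine Finset.sum_congr rfl fun κ _ => ?_
        rw [finrank_eig ρ W hW hpow hn0 (μ := ι lam ^ κ) (by
          rw [← pow_mul, mul_comm, pow_mul, hprim.pow_eq_one, one_pow])
          (pow_ne_zero _ ((map_ne_zero ι).2 lam.ne_zero)), Nat.cast_add, mul_add]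
      rw [h3]
      exact add_nonneg i2 i1

end Cfsg.Agent.H943.SL2Mod
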