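import Cfsg.Agent.H943.SL2Fix

/-!
# Modules for `SL(2, F)` in the defining characteristic (helper943)

`D` : a space of `U`-fixed vectors, stable under the torus, on which `S = ∑ u(t) w` is the scalar `c`.
* `le_MM`, `inv_MM` : `D` generates the module `k[U] w D`;
* `exists_iso` : irreducible modules containing isomorphic such `D` are isomorphic (graph argument).
-/

set_option autoImplicit false
set_option linter.unusedSectionVars false

namespace Cfsg.Agent.H943.SL2Mod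

open Matrix Cfsg.Agent.H943.SL2Rel

variable {k : Type*} [Field k] {F : Type*} [Field F]

section Basic

variable {V : Type*} [AddCommGroup V] [Module k V] (ρ : Representation k (SpecialLinearGroup (Fin 2) F) V)

/-- invariant subspaces -/
def Inv (W : Submodule k V) : Prop := ∀ g, ∀ x ∈ W, ρ g x ∈ W

/-- subspaces stable under the torus -/
def TInv (D : Submodule k V) : Prop := ∀ a : Fˣ, ∀ d ∈ D, ρ (h a) d ∈ D

/-- subspaces fixed by the unipotent group -/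
def UFix (D : Submodule k V) : Prop := ∀ t : F, ∀ d ∈ D, ρ (u t) d = d

/-- irreducible representations -/
def Irr : Prop := Nontrivial V ∧ ∀ W : Submodule k V, Inv ρ W → W = ⊥ ∨ W = ⊤

/-- minimal subspaces stable under the torus -/
def TSimple (D : Submodule k V) : Prop := D ≠ ⊥ ∧ TInv ρ D ∧ ∀ D' ≤ D, TInv ρ D' → D' = ⊥ ∨ D' = D

/-- the space `k[U] w D` -/
def MM (D : Submodule k V) : Submodule k V := Submodule.span k {x | ∃ t : F, ∃ d ∈ D, x = ρ (u t) (ρ w d)}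

theorem mem_MM {D : Submodule k V} (t : F) {d : V} (hd : d ∈ D) : ρ (u t) (ρ w d) ∈ MM ρ D :=
  Submodule.subset_span ⟨t, d, hd, rfl⟩

theorem MM_le {D W : Submodule k V} (hW : Inv ρ W) (h : D ≤ W) : MM ρ D ≤ W := by
  refine Submodule.span_le.2 ?_
  rintro x ⟨t, d, hd, rfl⟩
  exact hW _ _ (hW _ _ (h hd))

theorem apply_mul (a b : SpecialLinearGroup (Fin 2) F) (v : V) : ρ a (ρ b v) = ρ (a * b) v := by
  rw [map_mul]; rfl

theorem apply_mul3 (a b c : SpecialLinearGroup (Fin 2) F) (v : V) : ρ a (ρ b (ρ c v)) = ρ (a * b * c) v := by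
  rw [map_mul, map_mul]; rfl

variable [Fintype F]

/-- `S = ∑ u(t) w` -/
def SS : V →ₗ[k] V := ∑ t : F, (ρ (u t)) ∘ₗ (ρ w)

theorem SS_apply (v : V) : SS ρ v = ∑ t : F, ρ (u t) (ρ w v) := by
  simp [SS]

/-- the standard hypotheses -/
structure Good (D : Submodule k V) (c : k) : Prop where
  tinv : TInv ρ D
  ufix : UFix ρ D
  ss : ∀ d ∈ D, SS ρ d = c • d

omit [Fintype F] in
theorem wuw {D : Submodule k V} (hU : UFix ρ D) {t : F} (ht : t ≠ 0) {d : V} (hd : d ∈ D) :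
    ρ w (ρ (u t) (ρ w d)) = ρ (u (-t⁻¹)) (ρ w (ρ (h (mi t ht)⁻¹) d)) := by
  rw [apply_mul3, w_u_w t ht, mul_assoc (u (-t⁻¹)), h_w, map_mul, map_mul, map_mul]
  show ρ (u (-t⁻¹)) (ρ w (ρ (h (mi t ht)⁻¹) (ρ (u (-t⁻¹)) d))) = _
  rw [hU _ d hd]

omit [Fintype F] in
theorem ww (d : V) : ρ w (ρ w d) = ρ (h (-1)) d := by
  rw [apply_mul, w_w]

omit [Fintype F] in
theorem hh (d : V) : ρ (h (-1)) (ρ (h (-1)) d) = d := by
  rw [apply_mul, ← h_mul, neg_mul_neg, one_mul, h_one, map_one]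
  rfl

theorem le_MM {D : Submodule k V} {c : k} (G : Good ρ D c) : D ≤ MM ρ D := by
  classical
  intro d hd
  by_cases hc : c = 0
  · have key : ∀ d ∈ D, ρ (h (-1)) d ∈ MM ρ D := by
      intro d hd
      have h1 : SS ρ d = 0 := by rw [G.ss d hd, hc, zero_smul]
      rw [SS_apply] at h1
      have h2 := congrArg (ρ w) h1
      rw [map_zero, map_sum, ← Finset.add_sum_erase _ _ (Finset.mem_univ (0 : F)), u_zero, map_one,
        Module.End.one_apply, ww] at h2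
      rw [eq_neg_of_add_eq_zero_left h2]
      refine neg_mem (sum_mem fun t ht => ?_)
      rw [wuw ρ G.ufix (Finset.ne_of_mem_erase ht) hd]
      exact mem_MM ρ _ (G.tinv _ _ hd)
    have h3 := key _ (G.tinv (-1) d hd)
    rwa [hh] at h3
  · have h1 : d = c⁻¹ • SS ρ d := by rw [G.ss d hd, smul_smul, inv_mul_cancel₀ hc, one_smul]
    rw [h1, SS_apply]
    exact Submodule.smul_mem _ _ (sum_mem fun t _ => mem_MM ρ _ hd)

theorem inv_MM {D : Submodule k V} {c : k} (G : Good ρ D c) : Inv ρ (MM ρ D) := by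
  have key : ∀ g, (∀ t : F, ∀ d ∈ D, ρ g (ρ (u t) (ρ w d)) ∈ MM ρ D) → ∀ x ∈ MM ρ D, ρ g x ∈ MM ρ D := by
    intro g hg x hx
    have h1 : MM ρ D ≤ (MM ρ D).comap (ρ g) := Submodule.span_le.2 (by
      rintro x ⟨t, d, hd, rfl⟩
      exact hg t d hd)
    exact h1 hx
  intro g
  refine induct (P := fun g => ∀ x ∈ MM ρ D, ρ g x ∈ MM ρ D) ?_ ?_ ?_ ?_ g
  · intro s
    refine key _ fun t d hd => ?_
    rw [apply_mul, ← u_add]
    exact mem_MM ρ _ hd
  · intro a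
    refine key _ fun t d hd => ?_
    rw [apply_mul3, h_u, mul_assoc, h_w, map_mul, map_mul]
    exact mem_MM ρ _ (G.tinv _ _ hd)
  · refine key _ fun t d hd => ?_
    by_cases ht : t = 0
    · subst ht
      rw [u_zero, map_one, Module.End.one_apply, ww]
      exact le_MM ρ G (G.tinv _ _ hd)
    · rw [wuw ρ G.ufix ht hd]
      exact mem_MM ρ _ (G.tinv _ _ hd)
  · intro a b ha hb x hx
    rw [map_mul]
    exact ha _ (hb _ hx)

theorem MM_eq_top {D : Submodule k V} {c : k} (G : Good ρ D c) (hD : D ≠ ⊥) (hI : Irr ρ) : MM ρ D = ⊤ := by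
  rcases hI.2 _ (inv_MM ρ G) with h1 | h1
  · exact absurd (le_bot_iff.1 (h1 ▸ le_MM ρ G)) hD
  · exact h1

/-! ### coinvariants -/

omit [Fintype F] in
theorem comm_u (s t : F) : Commute (ρ (u s)) (ρ (u t)) := by
  show ρ (u s) * ρ (u t) = ρ (u t) * ρ (u s)
  rw [← map_mul, ← map_mul, ← u_add, ← u_add, add_comm]

omit [Fintype F] in
theorem u_pow (t : F) (n : ℕ) : u t ^ n = u ((n : F) * t) := by
  induction n with
  | zero => rw [Nat.cast_zero, zero_mul, u_zero, pow_zero]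
  | succ n ih => rw [pow_succ, ih, ← u_add, Nat.cast_succ, add_mul, one_mul]

variable (p : ℕ) [Fact p.Prime] [CharP k p] [CharP F p]

omit [Fintype F] [Fact p.Prime] [CharP k p] in
theorem u_pow_p (t : F) : ρ (u t) ^ p = 1 := by
  rw [← map_pow, u_pow, CharP.cast_eq_zero, zero_mul, u_zero, map_one]

include p in
theorem exists_ufix [Nontrivial V] : ∃ v : V, v ≠ 0 ∧ ∀ t : F, ρ (u t) v = v := by
  obtain ⟨v, hv, hs⟩ := SL2Fix.exists_fixed p (fun t : F => (ρ (u t) : Module.End k V)) (comm_u ρ) (u_pow_p ρ p)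
    Finset.univ
  exact ⟨v, hv, fun t => hs t (Finset.mem_univ t)⟩

include p in
/-- a proper subspace containing all `u v - v`, stable under the torus -/
theorem exists_coinv [Nontrivial V] : ∃ I : Submodule k V, I ≠ ⊤ ∧ TInv ρ I ∧ ∀ (t : F) (v : V), ρ (u t) v - v ∈ I := by
  obtain ⟨f, hf, hs⟩ := SL2Fix.exists_fixed_dual p (fun t : F => (ρ (u t) : Module.End k V)) (comm_u ρ) (u_pow_p ρ p)
    Finset.univ
  refine ⟨Submodule.span k {x | ∃ (t : F) (v : V), x = ρ (u t) v - v}, ?_, ?_, fun t v =>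
    Submodule.subset_span ⟨t, v, rfl⟩⟩
  · intro htop
    apply hf
    ext v
    have h1 : Submodule.span k {x | ∃ (t : F) (v : V), x = ρ (u t) v - v} ≤ LinearMap.ker f := Submodule.span_le.2 (by
      rintro x ⟨t, v, rfl⟩
      show f (ρ (u t) v - v) = 0
      rw [map_sub, hs t (Finset.mem_univ t) v, sub_self])
    rw [htop] at h1
    exact h1 (Submodule.mem_top : v ∈ ⊤)
  · intro a x hx
    have h1 : Submodule.span k {x | ∃ (t : F) (v : V), x = ρ (u t) v - v} ≤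
        (Submodule.span k {x | ∃ (t : F) (v : V), x = ρ (u t) v - v}).comap (ρ (h a)) := Submodule.span_le.2 (by
      rintro x ⟨t, v, rfl⟩
      refine Submodule.subset_span ⟨(a : F) ^ 2 * t, ρ (h a) v, ?_⟩
      rw [map_sub, apply_mul, apply_mul, h_u])
    exact h1 hx

/-- modulo the coinvariants every element of `k[U] w D` is in `w D` -/
theorem exists_sub_mem {D I : Submodule k V} (hI : ∀ (t : F) (v : V), ρ (u t) v - v ∈ I) {x : V} (hx : x ∈ MM ρ D) :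
    ∃ d ∈ D, x - ρ w d ∈ I := by
  have h1 : MM ρ D ≤ I ⊔ D.map (ρ w) := Submodule.span_le.2 (by
    rintro x ⟨t, d, hd, rfl⟩
    have e : ρ (u t) (ρ w d) = (ρ (u t) (ρ w d) - ρ w d) + ρ w d := by abel
    rw [e]
    exact Submodule.add_mem_sup (hI _ _) (Submodule.mem_map_of_mem hd))
  obtain ⟨y, hy, z, hz, rfl⟩ := Submodule.mem_sup.1 (h1 hx)
  obtain ⟨d, hd, rfl⟩ := Submodule.mem_map.1 hz
  exact ⟨d, hd, by rwa [add_sub_cancel_right]⟩

end Basic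

/-! ### the graph argument -/

section Graph

variable {V₁ V₂ : Type*} [AddCommGroup V₁] [Module k V₁] [AddCommGroup V₂] [Module k V₂]
  (ρ₁ : Representation k (SpecialLinearGroup (Fin 2) F) V₁) (ρ₂ : Representation k (SpecialLinearGroup (Fin 2) F) V₂)

/-- the product representation -/
def prodRep : Representation k (SpecialLinearGroup (Fin 2) F) (V₁ × V₂) where
  toFun g := (ρ₁ g).prodMap (ρ₂ g)
  map_one' := by rw [map_one, map_one]; rfl
  map_mul' a b := by rw [map_mul, map_mul]; rfl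

theorem prodRep_apply (g : SpecialLinearGroup (Fin 2) F) (x : V₁ × V₂) :
    prodRep ρ₁ ρ₂ g x = (ρ₁ g x.1, ρ₂ g x.2) := rfl

variable [Fintype F] (p : ℕ) [Fact p.Prime] [CharP k p] [CharP F p]

include p in
theorem MM_ne_top {Γ : Submodule k (V₁ × V₂)} [Nontrivial V₁] [Nontrivial V₂]
    (hΓ : TSimple (prodRep ρ₁ ρ₂) Γ) : MM (prodRep ρ₁ ρ₂) Γ ≠ ⊤ := by
  intro htop
  obtain ⟨I₁, hI₁, hT₁, hu₁⟩ := exists_coinv ρ₁ p
  obtain ⟨I₂, hI₂, hT₂, hu₂⟩ := exists_coinv ρ₂ p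
  obtain ⟨m₁, -, hm₁⟩ := SetLike.exists_of_lt (lt_top_iff_ne_top.2 hI₁)
  obtain ⟨m₂, -, hm₂⟩ := SetLike.exists_of_lt (lt_top_iff_ne_top.2 hI₂)
  have hI : ∀ (t : F) (v : V₁ × V₂), prodRep ρ₁ ρ₂ (u t) v - v ∈ I₁.prod I₂ := fun t v => ⟨hu₁ t v.1, hu₂ t v.2⟩
  -- the subspaces of `Γ`
  have key : ∀ J : Submodule k (V₁ × V₂), TInv (prodRep ρ₁ ρ₂) J →
      TInv (prodRep ρ₁ ρ₂) (Γ ⊓ J.comap (prodRep ρ₁ ρ₂ w)) := by
    intro J hJ a x hx
    refine ⟨hΓ.2.1 a x hx.1, ?_⟩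
    show prodRep ρ₁ ρ₂ w (prodRep ρ₁ ρ₂ (h a) x) ∈ J
    have h1 : (w : SpecialLinearGroup (Fin 2) F) * h a = h a⁻¹ * w := by rw [h_w, inv_inv]
    rw [apply_mul, h1, map_mul]
    exact hJ _ _ hx.2
  have hJ₁ : TInv (prodRep ρ₁ ρ₂) (I₁.prod (⊤ : Submodule k V₂)) := fun a x hx => ⟨hT₁ a _ hx.1, Submodule.mem_top⟩
  have hJ₂ : TInv (prodRep ρ₁ ρ₂) ((⊤ : Submodule k V₁).prod I₂) := fun a x hx => ⟨Submodule.mem_top, hT₂ a _ hx.2⟩
  have hmem : ∀ x, x ∈ MM (prodRep ρ₁ ρ₂) Γ := fun x => htop ▸ Submodule.mem_top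
  obtain ⟨d₁, hd₁, he₁⟩ := exists_sub_mem (prodRep ρ₁ ρ₂) hI (hmem (m₁, 0))
  obtain ⟨d₂, hd₂, he₂⟩ := exists_sub_mem (prodRep ρ₁ ρ₂) hI (hmem (0, m₂))
  -- `d₁` is in the second subspace, not in the first one
  have a1 : d₁ ∈ Γ ⊓ (((⊤ : Submodule k V₁).prod I₂).comap (prodRep ρ₁ ρ₂ w)) := by
    refine ⟨hd₁, Submodule.mem_top, ?_⟩
    have h1 : (0 : V₂) - (prodRep ρ₁ ρ₂ w d₁).2 ∈ I₂ := he₁.2
    rw [zero_sub] at h1
    exact neg_mem_iff.1 h1
  have a2 : d₂ ∈ Γ ⊓ ((I₁.prod (⊤ : Submodule k V₂)).comap (prodRep ρ₁ ρ₂ w)) := by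
    refine ⟨hd₂, ?_, Submodule.mem_top⟩
    have h1 : (0 : V₁) - (prodRep ρ₁ ρ₂ w d₂).1 ∈ I₁ := he₂.1
    rw [zero_sub] at h1
    exact neg_mem_iff.1 h1
  have hne : d₂ ≠ 0 := by
    rintro rfl
    have h1 : m₂ - (prodRep ρ₁ ρ₂ w 0).2 ∈ I₂ := he₂.2
    rw [map_zero] at h1
    exact hm₂ (by simpa using h1)
  rcases hΓ.2.2 _ inf_le_left (key _ hJ₁) with h1 | h1
  · rw [h1] at a2
    exact hne ((Submodule.mem_bot k).1 a2)
  · have h2 : d₁ ∈ Γ ⊓ ((I₁.prod (⊤ : Submodule k V₂)).comap (prodRep ρ₁ ρ₂ w)) := by rw [h1]; exact hd₁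
    have h3 : (prodRep ρ₁ ρ₂ w d₁).1 ∈ I₁ := h2.2.1
    have h4 : m₁ - (prodRep ρ₁ ρ₂ w d₁).1 ∈ I₁ := he₁.1
    exact hm₁ (by simpa using add_mem h4 h3)

include p in
/-- **the graph argument** -/
theorem exists_iso {Γ : Submodule k (V₁ × V₂)} {c : k} (G : Good (prodRep ρ₁ ρ₂) Γ c)
    (hΓ : TSimple (prodRep ρ₁ ρ₂) Γ) (hI₁ : Irr ρ₁) (hI₂ : Irr ρ₂) (h₁ : ∃ x ∈ Γ, x.1 ≠ 0) (h₂ : ∃ x ∈ Γ, x.2 ≠ 0) :
    ∃ φ : V₁ ≃ₗ[k] V₂, (∀ g x, φ (ρ₁ g x) = ρ₂ g (φ x)) ∧ ∀ x ∈ Γ, φ x.1 = x.2 := by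
  have := hI₁.1
  have := hI₂.1
  set N := MM (prodRep ρ₁ ρ₂) Γ with hN
  have hNi : Inv (prodRep ρ₁ ρ₂) N := inv_MM _ G
  have hΓN : Γ ≤ N := le_MM _ G
  have hNt : N ≠ ⊤ := MM_ne_top ρ₁ ρ₂ p hΓ
  -- projections
  have hf : N.map (LinearMap.fst k V₁ V₂) = ⊤ := by
    refine (hI₁.2 _ ?_).resolve_left ?_
    · rintro g _ ⟨x, hx, rfl⟩
      exact ⟨_, hNi g x hx, rfl⟩
    · obtain ⟨x, hx, hx1⟩ := h₁
      intro h0
      have : x.1 ∈ N.map (LinearMap.fst k V₁ V₂) := ⟨x, hΓN hx, rfl⟩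
      rw [h0] at this
      exact hx1 ((Submodule.mem_bot k).1 this)
  have hs : N.map (LinearMap.snd k V₁ V₂) = ⊤ := by
    refine (hI₂.2 _ ?_).resolve_left ?_
    · rintro g _ ⟨x, hx, rfl⟩
      exact ⟨_, hNi g x hx, rfl⟩
    · obtain ⟨x, hx, hx1⟩ := h₂
      intro h0
      have : x.2 ∈ N.map (LinearMap.snd k V₁ V₂) := ⟨x, hΓN hx, rfl⟩
      rw [h0] at this
      exact hx1 ((Submodule.mem_bot k).1 this)
  -- kernels
  have hl : N.comap (LinearMap.inl k V₁ V₂) = ⊥ := by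
    refine (hI₁.2 _ ?_).resolve_right ?_
    · intro g x hx
      have h1 := hNi g _ hx
      show ((ρ₁ g x, 0) : V₁ × V₂) ∈ N
      have h2 : prodRep ρ₁ ρ₂ g (LinearMap.inl k V₁ V₂ x) = (ρ₁ g x, 0) := by
        rw [prodRep_apply]; simp
      rwa [h2] at h1
    · intro h0
      apply hNt
      rw [eq_top_iff]
      rintro ⟨x, y⟩ -
      have h1 : y ∈ N.map (LinearMap.snd k V₁ V₂) := hs ▸ Submodule.mem_top
      obtain ⟨⟨x', y'⟩, hx', e⟩ := h1
      have e' : y' = y := e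
      subst e'
      have h2 : x - x' ∈ N.comap (LinearMap.inl k V₁ V₂) := h0 ▸ Submodule.mem_top
      have h3 : ((x - x', 0) : V₁ × V₂) ∈ N := h2
      have h4 := add_mem h3 hx'
      simpa using h4
  have hr : N.comap (LinearMap.inr k V₁ V₂) = ⊥ := by
    refine (hI₂.2 _ ?_).resolve_right ?_
    · intro g x hx
      have h1 := hNi g _ hx
      show ((0, ρ₂ g x) : V₁ × V₂) ∈ N
      have h2 : prodRep ρ₁ ρ₂ g (LinearMap.inr k V₁ V₂ x) = (0, ρ₂ g x) := by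
        rw [prodRep_apply]; simp
      rwa [h2] at h1
    · intro h0
      apply hNt
      rw [eq_top_iff]
      rintro ⟨x, y⟩ -
      have h1 : x ∈ N.map (LinearMap.fst k V₁ V₂) := hf ▸ Submodule.mem_top
      obtain ⟨⟨x', y'⟩, hx', e⟩ := h1
      have e' : x' = x := e
      subst e'
      have h2 : y - y' ∈ N.comap (LinearMap.inr k V₁ V₂) := h0 ▸ Submodule.mem_top
      have h3 : ((0, y - y') : V₁ × V₂) ∈ N := h2
      have h4 := add_mem h3 hx'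
      simpa using h4
  -- the equivalences
  let f₁ : N →ₗ[k] V₁ := (LinearMap.fst k V₁ V₂) ∘ₗ N.subtype
  let f₂ : N →ₗ[k] V₂ := (LinearMap.snd k V₁ V₂) ∘ₗ N.subtype
  have b₁ : Function.Bijective f₁ := by
    constructor
    · rw [← LinearMap.ker_eq_bot, LinearMap.ker_eq_bot']
      rintro ⟨⟨x, y⟩, hxy⟩ e
      have e' : x = 0 := e
      subst e'
      have h1 : y ∈ N.comap (LinearMap.inr k V₁ V₂) := hxy
      rw [hr] at h1
      have h2 : y = 0 := (Submodule.mem_bot k).1 h1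
      subst h2
      rfl
    · intro x
      have h1 : x ∈ N.map (LinearMap.fst k V₁ V₂) := hf ▸ Submodule.mem_top
      obtain ⟨y, hy, e⟩ := h1
      exact ⟨⟨y, hy⟩, e⟩
  have b₂ : Function.Bijective f₂ := by
    constructor
    · rw [← LinearMap.ker_eq_bot, LinearMap.ker_eq_bot']
      rintro ⟨⟨x, y⟩, hxy⟩ e
      have e' : y = 0 := e
      subst e'
      have h1 : x ∈ N.comap (LinearMap.inl k V₁ V₂) := hxy
      rw [hl] at h1
      have h2 : x = 0 := (Submodule.mem_bot k).1 h1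
      subst h2
      rfl
    · intro x
      have h1 : x ∈ N.map (LinearMap.snd k V₁ V₂) := hs ▸ Submodule.mem_top
      obtain ⟨y, hy, e⟩ := h1
      exact ⟨⟨y, hy⟩, e⟩
  let e₁ := LinearEquiv.ofBijective f₁ b₁
  let e₂ := LinearEquiv.ofBijective f₂ b₂
  have hφ : ∀ x : N, (e₁.symm.trans e₂) (x : V₁ × V₂).1 = (x : V₁ × V₂).2 := by
    intro x
    show e₂ (e₁.symm (e₁ x)) = _
    rw [LinearEquiv.symm_apply_apply]
    rfl
  refine ⟨e₁.symm.trans e₂, fun g x => ?_, fun x hx => hφ ⟨x, hΓN hx⟩⟩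
  obtain ⟨y, rfl⟩ := e₁.surjective x
  have h1 : ρ₁ g (e₁ y) = ((⟨_, hNi g _ y.2⟩ : N) : V₁ × V₂).1 := rfl
  rw [h1, hφ]
  show ρ₂ g (y : V₁ × V₂).2 = ρ₂ g (e₂ (e₁.symm (e₁ y)))
  rw [LinearEquiv.symm_apply_apply]
  rfl

end Graph

end Cfsg.Agent.H943.SL2Mod
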