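import Cfsg.Agent.H943.SL2Mod

/-!
# The type of an irreducible module (helper943)

`exists_type` : an irreducible representation of `SL(2, F)` of finite dimension in the defining characteristic contains
a minimal torus-stable space `D` of `U`-fixed vectors with `S = 0` on `D`, or `S = -1` on `D` and `D` fixed by the torus.
-/

set_option autoImplicit false
set_option linter.unusedSectionVars false

namespace Cfsg.Agent.H943.SL2Mod

open Matrix Cfsg.Agent.H943.SL2Rel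

variable {k : Type*} [Field k] {F : Type*} [Field F]

variable {V : Type*} [AddCommGroup V] [Module k V] (ρ : Representation k (SpecialLinearGroup (Fin 2) F) V)

/-- the vectors fixed by the unipotent group -/
def UU : Submodule k V where
  carrier := {v | ∀ t : F, ρ (u t) v = v}
  zero_mem' := fun t => map_zero _
  add_mem' := fun {x y} hx hy t => by rw [map_add, hx t, hy t]
  smul_mem' := fun c x hx t => by rw [map_smul, hx t]

theorem tinv_UU : TInv ρ (UU ρ) := by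
  intro a d hd t
  have ha : (a : F) ^ 2 ≠ 0 := pow_ne_zero _ a.ne_zero
  have h1 : u t * h a = h a * u (((a : F) ^ 2)⁻¹ * t) := by
    rw [h_u, mul_inv_cancel_left₀ ha]
  rw [apply_mul, h1, map_mul]
  show ρ (h a) (ρ (u _) d) = _
  rw [hd]

theorem ufix_of_le {D : Submodule k V} (h : D ≤ UU ρ) : UFix ρ D := fun t _ hd => h hd t

/-- minimal torus-stable subspaces exist -/
theorem exists_tsimple [FiniteDimensional k V] {D : Submodule k V} (hD : D ≠ ⊥) (hT : TInv ρ D) :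
    ∃ D' ≤ D, TSimple ρ D' := by
  obtain ⟨D', ⟨h1, h2, h3⟩, hmin⟩ := (wellFounded_lt (α := Submodule k V)).has_min
    {D' : Submodule k V | D' ≠ ⊥ ∧ TInv ρ D' ∧ D' ≤ D} ⟨D, hD, hT, le_rfl⟩
  refine ⟨D', h3, h1, h2, fun D'' hle hT'' => ?_⟩
  by_contra hcon
  push Not at hcon
  exact hmin D'' ⟨hcon.1, hT'', hle.trans h3⟩ (lt_of_le_of_ne hle hcon.2)

variable [Fintype F] [DecidableEq F]

theorem u_SS (s : F) (d : V) : ρ (u s) (SS ρ d) = SS ρ d := by
  rw [SS_apply, map_sum]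
  refine Fintype.sum_equiv (Equiv.addLeft s) _ _ fun t => ?_
  rw [apply_mul, ← u_add]
  rfl

theorem SS_h (a : Fˣ) (d : V) : SS ρ (ρ (h a) d) = ρ (h a⁻¹) (SS ρ d) := by
  have ha : (a : F) ^ 2 ≠ 0 := pow_ne_zero _ a.ne_zero
  have key : ∀ t : F, ρ (u t) (ρ w (ρ (h a) d)) = ρ (h a⁻¹) (ρ (u ((a : F) ^ 2 * t)) (ρ w d)) := by
    intro t
    have h1 : (w : SpecialLinearGroup (Fin 2) F) * h a = h a⁻¹ * w := by rw [h_w, inv_inv]
    have h2 : ((a⁻¹ : Fˣ) : F) ^ 2 * ((a : F) ^ 2 * t) = t := by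
      rw [← mul_assoc, ← mul_pow, ← Units.val_mul, inv_mul_cancel, Units.val_one, one_pow, one_mul]
    rw [apply_mul3, mul_assoc, h1, ← mul_assoc, apply_mul3, h_u, h2]
  rw [SS_apply, SS_apply, map_sum, Finset.sum_congr rfl fun t _ => key t]
  exact Equiv.sum_comp (Equiv.mulLeft₀ ((a : F) ^ 2) ha) fun t => ρ (h a⁻¹) (ρ (u t) (ρ w d))

theorem SS_mem_UU (d : V) : SS ρ d ∈ UU ρ := fun t => u_SS ρ t d

/-- the trace over the torus -/
def Tr : V →ₗ[k] V := ∑ a : Fˣ, ρ (h a)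

theorem Tr_apply (v : V) : Tr ρ v = ∑ a : Fˣ, ρ (h a) v := by
  simp [Tr]

theorem h_Tr (b : Fˣ) (v : V) : ρ (h b) (Tr ρ v) = Tr ρ v := by
  rw [Tr_apply, map_sum]
  refine Fintype.sum_equiv (Equiv.mulLeft b) _ _ fun a => ?_
  rw [apply_mul, ← h_mul]
  rfl

variable (p : ℕ) [Fact p.Prime] [CharP k p] [CharP F p]

include p in
theorem SS_SS {d : V} (hd : d ∈ UU ρ) : SS ρ (SS ρ d) = SS ρ (Tr ρ d) := by
  have h1 : ρ w (SS ρ d) = ρ (h (-1)) d + ∑ a : Fˣ, ρ (u (-(a : F)⁻¹)) (ρ w (ρ (h (-a)) d)) := by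
    rw [SS_apply, map_sum, ← Finset.add_sum_erase _ _ (Finset.mem_univ (0 : F)), u_zero, map_one,
      Module.End.one_apply, ww]
    congr 1
    symm
    refine Finset.sum_bij (fun (a : Fˣ) _ => (a : F)) (fun a _ => Finset.mem_erase.2 ⟨a.ne_zero, Finset.mem_univ _⟩)
      (fun a _ b _ e => Units.ext e) (fun b hb => ⟨Units.mk0 b (Finset.ne_of_mem_erase hb), Finset.mem_univ _, rfl⟩) ?_
    intro a _
    have hU : UFix ρ (UU ρ) := ufix_of_le ρ le_rfl
    rw [wuw ρ hU a.ne_zero hd]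
    congr 3
    have e : (mi (a : F) a.ne_zero)⁻¹ = -a := by
      rw [inv_eq_iff_mul_eq_one]
      apply Units.ext
      show (-(a : F)⁻¹) * (-(a : F)) = 1
      rw [neg_mul_neg, inv_mul_cancel₀ a.ne_zero]
    rw [e]
  have h2 : ∀ (v : V) (s : F), ∑ t : F, ρ (u t) (ρ (u s) v) = ∑ t : F, ρ (u t) v := by
    intro v s
    refine Fintype.sum_equiv (Equiv.addRight s) _ _ fun t => ?_
    rw [apply_mul, ← u_add]
    rfl
  have h3 : SS ρ (SS ρ d) = ∑ t : F, ρ (u t) (ρ w (SS ρ d)) := SS_apply ρ _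
  rw [h3, h1]
  simp only [map_add, map_sum, Finset.sum_add_distrib]
  rw [Finset.sum_comm]
  have h4 : ∑ t : F, ρ (u t) (ρ (h (-1)) d) = 0 := by
    have h5 : ρ (h (-1)) d ∈ UU ρ := tinv_UU ρ _ _ hd
    rw [Finset.sum_congr rfl fun t _ => h5 t, Finset.sum_const, Finset.card_univ, ← Nat.cast_smul_eq_nsmul k]
    have h6 : ((Fintype.card F : ℕ) : k) = 0 := by
      rw [CharP.cast_eq_zero_iff k p]
      obtain ⟨n, -, hn⟩ := FiniteField.card F p
      rw [hn]
      exact dvd_pow_self p n.2.ne'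
    rw [h6, zero_smul]
  rw [h4, zero_add, Tr_apply, map_sum]
  refine Fintype.sum_equiv (Equiv.neg Fˣ) _ _ fun a => ?_
  rw [h2]
  exact (SS_apply ρ _).symm

include p in
/-- **the type of an irreducible representation** -/
theorem exists_type [FiniteDimensional k V] (hI : Irr ρ) : ∃ (D : Submodule k V) (c : k), Good ρ D c ∧
    TSimple ρ D ∧ (c = 0 ∨ (c = -1 ∧ ∀ a, ∀ d ∈ D, ρ (h a) d = d)) := by
  classical
  have := hI.1
  have hUU : UU ρ ≠ ⊥ := by
    obtain ⟨v, hv, hf⟩ := exists_ufix ρ p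
    intro h0
    have h1 : v ∈ UU ρ := hf
    rw [h0] at h1
    exact hv ((Submodule.mem_bot k).1 h1)
  obtain ⟨D, hDU, hD⟩ := exists_tsimple ρ hUU (tinv_UU ρ)
  -- the kernel of `S`
  have hK : TInv ρ (D ⊓ LinearMap.ker (SS ρ)) := by
    intro a d hd
    refine ⟨hD.2.1 a d hd.1, ?_⟩
    have h1 : SS ρ d = 0 := hd.2
    show SS ρ (ρ (h a) d) = 0
    rw [SS_h, h1, map_zero]
  rcases hD.2.2 _ inf_le_left hK with h0 | h0
  · -- `S` is injective on `D`
    have hinj : ∀ d ∈ D, SS ρ d = 0 → d = 0 := by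
      intro d hd h1
      have h2 : d ∈ D ⊓ LinearMap.ker (SS ρ) := ⟨hd, h1⟩
      rw [h0] at h2
      exact (Submodule.mem_bot k).1 h2
    let D₁ := D.map (SS ρ)
    have hD₁ : D₁ ≠ ⊥ := by
      obtain ⟨d, hd, hd0⟩ := Submodule.exists_mem_ne_zero_of_ne_bot hD.1
      intro h1
      have h2 : SS ρ d ∈ D₁ := Submodule.mem_map_of_mem hd
      rw [h1] at h2
      exact hd0 (hinj d hd ((Submodule.mem_bot k).1 h2))
    have hT₁ : TInv ρ D₁ := by
      rintro a _ ⟨d, hd, rfl⟩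
      refine ⟨ρ (h a⁻¹) d, hD.2.1 _ _ hd, ?_⟩
      rw [SS_h, inv_inv]
    have hU₁ : D₁ ≤ UU ρ := by
      rintro _ ⟨d, hd, rfl⟩
      exact SS_mem_UU ρ d
    obtain ⟨D₂, hD₂, hS₂⟩ := exists_tsimple ρ hD₁ hT₁
    -- the fixed points of the torus
    have hF : TInv ρ (D ⊓ ⨅ a, LinearMap.ker (ρ (h a) - 1)) := by
      intro a d hd
      refine ⟨hD.2.1 a d hd.1, ?_⟩
      have h1 : ρ (h a) d = d := by
        have := (Submodule.mem_iInf _).1 hd.2 a
        rwa [LinearMap.mem_ker, LinearMap.sub_apply, Module.End.one_apply, sub_eq_zero] at this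
      rw [h1]
      exact hd.2
    have hfix : ∀ d, (∀ a, ρ (h a) d = d) → d ∈ ⨅ a, LinearMap.ker (ρ (h a) - 1) := by
      intro d hd
      refine (Submodule.mem_iInf _).2 fun a => ?_
      rw [LinearMap.mem_ker, LinearMap.sub_apply, Module.End.one_apply, sub_eq_zero]
      exact hd a
    rcases hD.2.2 _ inf_le_left hF with h1 | h1
    · refine ⟨D₂, 0, ⟨hS₂.2.1, ufix_of_le ρ (hD₂.trans hU₁), ?_⟩, hS₂, Or.inl rfl⟩
      intro d hd
      obtain ⟨d', hd', rfl⟩ := hD₂ hd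
      have h2 : Tr ρ d' ∈ D ⊓ ⨅ a, LinearMap.ker (ρ (h a) - 1) := by
        refine ⟨?_, hfix _ fun a => h_Tr ρ a d'⟩
        rw [Tr_apply]
        exact sum_mem fun a _ => hD.2.1 _ _ hd'
      rw [h1] at h2
      rw [SS_SS ρ p (hDU hd'), (Submodule.mem_bot k).1 h2, map_zero, zero_smul]
    · have hfx : ∀ a, ∀ d ∈ D, ρ (h a) d = d := by
        intro a d hd
        rw [← h1] at hd
        have := (Submodule.mem_iInf _).1 hd.2 a
        rwa [LinearMap.mem_ker, LinearMap.sub_apply, Module.End.one_apply, sub_eq_zero] at this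
      refine ⟨D₂, -1, ⟨hS₂.2.1, ufix_of_le ρ (hD₂.trans hU₁), ?_⟩, hS₂, Or.inr ⟨rfl, ?_⟩⟩
      · intro d hd
        obtain ⟨d', hd', rfl⟩ := hD₂ hd
        rw [SS_SS ρ p (hDU hd'), Tr_apply, Finset.sum_congr rfl fun a _ => hfx a d' hd', Finset.sum_const,
          Finset.card_univ, map_nsmul, ← Nat.cast_smul_eq_nsmul k, Fintype.card_units]
        congr 1
        have h6 : ((Fintype.card F : ℕ) : k) = 0 := by
          rw [CharP.cast_eq_zero_iff k p]
          obtain ⟨n, -, hn⟩ := FiniteField.card F p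
          rw [hn]
          exact dvd_pow_self p n.2.ne'
        rw [Nat.cast_sub Fintype.card_pos, h6, Nat.cast_one, zero_sub]
      · intro a d hd
        obtain ⟨d', hd', rfl⟩ := hD₂ hd
        have h2 := SS_h ρ a⁻¹ d'
        rw [inv_inv, hfx _ _ hd'] at h2
        exact h2.symm
  · refine ⟨D, 0, ⟨hD.2.1, ufix_of_le ρ hDU, ?_⟩, hD, Or.inl rfl⟩
    intro d hd
    rw [← h0] at hd
    rw [zero_smul]
    exact hd.2

end Cfsg.Agent.H943.SL2Mod
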