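import Cfsg.Agent.H943.SL2End

/-!
# The modules `V_b` (helper943)

`k` a field with an embedding `ι : F → k`; `V_b` is the submodule generated by `x ^ b` in the functions on `F²`,
`b ≤ q - 1`; it is spanned by the monomials `x ^ m y ^ (b - m)` with `C(b, m) ≠ 0`; it is irreducible.
-/

set_option autoImplicit false
set_option linter.unusedSectionVars false

namespace Cfsg.Agent.H943.SL2Mod

open Matrix Cfsg.Agent.H943.SL2Rel Cfsg.Agent.H943.RepAdd

variable {k : Type*} [Field k] {F : Type*} [Field F] [Fintype F] [DecidableEq F] (ι : F →+* k)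

/-- the action on functions on row vectors -/
def fRep (k : Type*) [Field k] (F : Type*) [Field F] : Representation k (SpecialLinearGroup (Fin 2) F) (F × F → k) where
  toFun g :=
    { toFun := fun f z => f (z.1 * g.1 0 0 + z.2 * g.1 1 0, z.1 * g.1 0 1 + z.2 * g.1 1 1)
      map_add' := fun f f' => rfl
      map_smul' := fun c f => rfl }
  map_one' := by
    refine LinearMap.ext fun f => funext fun z => ?_
    show f (z.1 * (1 : Matrix (Fin 2) (Fin 2) F) 0 0 + z.2 * (1 : Matrix (Fin 2) (Fin 2) F) 1 0,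
      z.1 * (1 : Matrix (Fin 2) (Fin 2) F) 0 1 + z.2 * (1 : Matrix (Fin 2) (Fin 2) F) 1 1) = f z
    simp
  map_mul' a b := by
    refine LinearMap.ext fun f => funext fun z => ?_
    show f (z.1 * (a.1 * b.1) 0 0 + z.2 * (a.1 * b.1) 1 0, z.1 * (a.1 * b.1) 0 1 + z.2 * (a.1 * b.1) 1 1) =
      f ((z.1 * a.1 0 0 + z.2 * a.1 1 0) * b.1 0 0 + (z.1 * a.1 0 1 + z.2 * a.1 1 1) * b.1 1 0,
        (z.1 * a.1 0 0 + z.2 * a.1 1 0) * b.1 0 1 + (z.1 * a.1 0 1 + z.2 * a.1 1 1) * b.1 1 1)
    rw [Matrix.mul_apply, Matrix.mul_apply, Matrix.mul_apply, Matrix.mul_apply]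
    simp only [Fin.sum_univ_two]
    congr 2
    · ring
    · ring

theorem fRep_u (t : F) (f : F × F → k) (x y : F) : fRep k F (u t) f (x, y) = f (x, x * t + y) := by
  show f (x * 1 + y * 0, x * t + y * 1) = _
  rw [mul_one, mul_zero, add_zero, mul_one]

theorem fRep_w (f : F × F → k) (x y : F) : fRep k F w f (x, y) = f (-y, x) := by
  show f (x * 0 + y * (-1), x * 1 + y * 0) = _
  rw [mul_zero, zero_add, mul_one, mul_zero, add_zero, mul_neg_one]

theorem fRep_h (a : Fˣ) (f : F × F → k) (x y : F) : fRep k F (h a) f (x, y) = f (x * a, y * (a : F)⁻¹) := by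
  show f (x * a + y * 0, x * 0 + y * (a : F)⁻¹) = _
  rw [mul_zero, mul_zero, add_zero, zero_add]

/-- the monomial `x ^ m y ^ (b - m)` -/
def mon (b m : ℕ) : F × F → k := fun z => ι z.1 ^ m * ι z.2 ^ (b - m)

theorem mon_self (b : ℕ) (z : F × F) : mon ι b b z = ι z.1 ^ b := by
  unfold mon
  rw [Nat.sub_self, pow_zero, mul_one]

theorem h_mon (a : Fˣ) (b m : ℕ) : fRep k F (h a) (mon ι b m) = (ι a ^ m * (ι a)⁻¹ ^ (b - m)) • mon ι b m := by
  funext z
  obtain ⟨x, y⟩ := z
  rw [fRep_h]
  show ι (x * a) ^ m * ι (y * (a : F)⁻¹) ^ (b - m) = (ι a ^ m * (ι a)⁻¹ ^ (b - m)) * (ι x ^ m * ι y ^ (b - m))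
  rw [map_mul, map_mul, map_inv₀, mul_pow, mul_pow]
  ring

theorem uw_mon (b : ℕ) (t : F) : fRep k F (u t) (fRep k F w (mon ι b b)) =
    ∑ m ∈ Finset.range (b + 1), ((-1) ^ b * ι t ^ m * (b.choose m : k)) • mon ι b m := by
  funext z
  obtain ⟨x, y⟩ := z
  rw [fRep_u, fRep_w, mon_self, Finset.sum_apply]
  show ι (-(x * t + y)) ^ b = ∑ m ∈ Finset.range (b + 1), ((-1) ^ b * ι t ^ m * (b.choose m : k)) * (ι x ^ m * ι y ^ (b - m))
  rw [map_neg, map_add, map_mul, neg_pow, add_pow, Finset.mul_sum]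
  refine Finset.sum_congr rfl fun m _ => ?_
  rw [mul_pow]
  ring

/-- the type -/
def Db (b : ℕ) : Submodule k (F × F → k) := Submodule.span k {mon ι b b}

/-- the module `V_b` -/
def Vb (b : ℕ) : Submodule k (F × F → k) := MM (fRep k F) (Db ι b)

theorem mon_mem_Db (b : ℕ) : mon ι b b ∈ Db ι b := Submodule.mem_span_singleton_self _

theorem SS_mon {b : ℕ} : SS (fRep k F) (mon ι b b) = fun z => if z.1 = 0 then
    (Fintype.card F : k) * ((-1) ^ b * ι z.2 ^ b) else (-1) ^ b * ι (∑ s : F, s ^ b) := by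
  funext z
  obtain ⟨x, y⟩ := z
  rw [SS_apply, Finset.sum_apply]
  have h1 : ∀ t : F, fRep k F (u t) (fRep k F w (mon ι b b)) (x, y) = (-1) ^ b * ι (x * t + y) ^ b := by
    intro t
    rw [fRep_u, fRep_w, mon_self, map_neg, neg_pow]
  rw [Finset.sum_congr rfl fun t _ => h1 t, ← Finset.mul_sum]
  by_cases hx : x = 0
  · simp only [hx, zero_mul, zero_add, Finset.sum_const, Finset.card_univ, nsmul_eq_mul, if_true]
    ring
  · rw [if_neg hx]
    congr 1
    rw [map_sum]
    refine Fintype.sum_equiv ((Equiv.mulLeft₀ x hx).trans (Equiv.addRight y)) _ _ fun t => ?_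
    rw [← map_pow]
    rfl

variable (p : ℕ) [Fact p.Prime] [CharP k p] [CharP F p]

include p in
theorem card_zero : ((Fintype.card F : ℕ) : k) = 0 := by
  rw [CharP.cast_eq_zero_iff k p]
  obtain ⟨n, -, hn⟩ := FiniteField.card F p
  rw [hn]
  exact dvd_pow_self p n.2.ne'

include p in
theorem SS_mon_lt {b : ℕ} (hb : b < Fintype.card F - 1) : SS (fRep k F) (mon ι b b) = 0 := by
  rw [SS_mon, card_zero (k := k) (F := F) p, FiniteField.sum_pow_lt_card_sub_one _ b hb]
  funext z
  by_cases hz : z.1 = 0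
  · rw [if_pos hz, zero_mul]; rfl
  · rw [if_neg hz, map_zero, mul_zero]; rfl

theorem sum_pow_card : ∑ s : F, s ^ (Fintype.card F - 1) = -1 := by
  have h1 : ∑ s : F, s ^ (Fintype.card F - 1) = ∑ s ∈ Finset.univ.erase (0 : F), (1 : F) := by
    rw [← Finset.add_sum_erase _ _ (Finset.mem_univ (0 : F)), zero_pow, zero_add]
    · exact Finset.sum_congr rfl fun s hs => FiniteField.pow_card_sub_one_eq_one s (Finset.ne_of_mem_erase hs)
    · have : 1 < Fintype.card F := Fintype.one_lt_card
      omega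
  rw [h1, Finset.sum_const, Finset.card_erase_of_mem (Finset.mem_univ _), Finset.card_univ, nsmul_eq_mul, mul_one,
    Nat.cast_sub Fintype.card_pos, Nat.cast_one, FiniteField.cast_card_eq_zero, zero_sub]

include p in
theorem SS_mon_eq (hodd : Odd (Fintype.card F)) : SS (fRep k F) (mon ι (Fintype.card F - 1) (Fintype.card F - 1)) =
    (-1 : k) • mon ι (Fintype.card F - 1) (Fintype.card F - 1) := by
  rw [SS_mon, card_zero (k := k) (F := F) p, sum_pow_card]
  funext z
  have h0 : Fintype.card F - 1 ≠ 0 := by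
    have : 1 < Fintype.card F := Fintype.one_lt_card
    omega
  have he : (-1 : k) ^ (Fintype.card F - 1) = 1 := by
    apply Even.neg_one_pow
    obtain ⟨r, hr⟩ := hodd
    exact ⟨r, by omega⟩
  show _ = (-1 : k) * mon ι (Fintype.card F - 1) (Fintype.card F - 1) z
  rw [mon_self]
  by_cases hz : z.1 = 0
  · rw [if_pos hz, zero_mul, hz, map_zero, zero_pow h0, mul_zero]
  · rw [if_neg hz, ← map_pow, FiniteField.pow_card_sub_one_eq_one _ hz, map_one, map_neg, map_one, he, one_mul, mul_one]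

/-- the scalar of `V_b` -/
def cb (k : Type*) [Field k] (F : Type*) [Fintype F] (b : ℕ) : k := if b < Fintype.card F - 1 then 0 else -1

include p in
theorem good_Db (hodd : Odd (Fintype.card F)) {b : ℕ} (hb : b ≤ Fintype.card F - 1) :
    Good (fRep k F) (Db ι b) (cb k F b) := by
  constructor
  · intro a d hd
    obtain ⟨c, rfl⟩ := Submodule.mem_span_singleton.1 hd
    rw [map_smul, h_mon]
    exact Submodule.smul_mem _ _ (Submodule.smul_mem _ _ (mon_mem_Db ι b))
  · intro t d hd
    obtain ⟨c, rfl⟩ := Submodule.mem_span_singleton.1 hd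
    rw [map_smul]
    congr 1
    funext z
    obtain ⟨x, y⟩ := z
    rw [fRep_u, mon_self, mon_self]
  · intro d hd
    obtain ⟨c, rfl⟩ := Submodule.mem_span_singleton.1 hd
    rw [map_smul]
    unfold cb
    by_cases h : b < Fintype.card F - 1
    · rw [if_pos h, SS_mon_lt ι p h, smul_zero, zero_smul]
    · have hb' : b = Fintype.card F - 1 := by omega
      rw [if_neg h, hb', SS_mon_eq ι p hodd, smul_comm]

include p in
theorem inv_Vb (hodd : Odd (Fintype.card F)) {b : ℕ} (hb : b ≤ Fintype.card F - 1) : Inv (fRep k F) (Vb ι b) :=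
  inv_MM _ (good_Db ι p hodd hb)

include p in
theorem Db_le (hodd : Odd (Fintype.card F)) {b : ℕ} (hb : b ≤ Fintype.card F - 1) : Db ι b ≤ Vb ι b :=
  le_MM _ (good_Db ι p hodd hb)

/-- the monomials occurring in `V_b` -/
def Bb (k : Type*) [Field k] (b : ℕ) : Set ℕ := {m | m ≤ b ∧ (b.choose m : k) ≠ 0}

theorem Vb_le (b : ℕ) : Vb ι b ≤ Submodule.span k (mon ι b '' Bb k b) := by
  refine Submodule.span_le.2 ?_
  rintro _ ⟨t, d, hd, rfl⟩
  obtain ⟨c, rfl⟩ := Submodule.mem_span_singleton.1 hd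
  rw [map_smul, map_smul, uw_mon]
  refine Submodule.smul_mem _ _ (sum_mem fun m hm => ?_)
  by_cases h0 : (b.choose m : k) = 0
  · rw [h0, mul_zero, zero_smul]
    exact Submodule.zero_mem _
  · exact Submodule.smul_mem _ _ (Submodule.subset_span ⟨m, ⟨Nat.lt_succ_iff.1 (Finset.mem_range.1 hm), h0⟩, rfl⟩)

/-- functions which are polynomials of small degree -/
theorem coeff_zero (hι : Function.Injective ι) {n : ℕ} (hn : n < Fintype.card F) (c : ℕ → k)
    (h : ∀ t : F, ∑ j ∈ Finset.range (n + 1), c j * ι t ^ j = 0) : ∀ j ≤ n, c j = 0 := by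
  let P : Polynomial k := ∑ j ∈ Finset.range (n + 1), Polynomial.C (c j) * Polynomial.X ^ j
  have hP : P = 0 := by
    refine Polynomial.eq_zero_of_natDegree_lt_card_of_eval_eq_zero P (f := ι) hι ?_ ?_
    · intro t
      rw [Polynomial.eval_finsetSum]
      simpa using h t
    · refine lt_of_le_of_lt ?_ hn
      refine Polynomial.natDegree_sum_le_of_forall_le _ _ fun j hj => ?_
      exact (Polynomial.natDegree_C_mul_X_pow_le _ _).trans (Nat.lt_succ_iff.1 (Finset.mem_range.1 hj))
  intro j hj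
  have h1 : P.coeff j = c j := by
    rw [Polynomial.finsetSum_coeff]
    simp only [Polynomial.coeff_C_mul, Polynomial.coeff_X_pow, mul_ite, mul_one, mul_zero]
    rw [Finset.sum_ite_eq, if_pos (Finset.mem_range.2 (Nat.lt_succ_iff.2 hj))]
  rw [← h1, hP, Polynomial.coeff_zero]

theorem mon_indep (hι : Function.Injective ι) {b : ℕ} (hb : b < Fintype.card F) (c : ℕ → k)
    (h : ∀ y : F, ∑ m ∈ Finset.range (b + 1), c m * mon ι b m (1, y) = 0) : ∀ m ≤ b, c m = 0 := by
  have key : ∀ j ≤ b, c (b - j) = 0 := by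
    refine coeff_zero ι hι hb (fun j => c (b - j)) fun t => ?_
    rw [← Finset.sum_range_reflect]
    rw [← h t]
    refine Finset.sum_congr rfl fun m hm => ?_
    have hm' := Finset.mem_range.1 hm
    unfold mon
    rw [map_one, one_pow, one_mul]
    congr 2
    · omega
  intro m hm
  have := key (b - m) (Nat.sub_le _ _)
  rwa [Nat.sub_sub_self hm] at this

/-- elements of the span of the monomials -/
theorem mem_span_mon {b : ℕ} {f : F × F → k} (hf : f ∈ Submodule.span k (mon ι b '' Bb k b)) :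
    ∃ c : ℕ → k, f = ∑ m ∈ Finset.range (b + 1), c m • mon ι b m := by
  induction hf using Submodule.span_induction with
  | mem x hx =>
    obtain ⟨m, hm, rfl⟩ := hx
    refine ⟨fun j => if j = m then 1 else 0, ?_⟩
    rw [Finset.sum_eq_single m]
    · show mon ι b m = (if m = m then (1 : k) else 0) • mon ι b m
      rw [if_pos rfl, one_smul]
    · intro j _ hj
      show (if j = m then (1 : k) else 0) • mon ι b j = 0
      rw [if_neg hj, zero_smul]
    · intro h0
      exact absurd (Finset.mem_range.2 (Nat.lt_succ_iff.2 hm.1)) h0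
  | zero => exact ⟨fun _ => 0, by simp⟩
  | add x y _ _ hx hy =>
    obtain ⟨c, rfl⟩ := hx
    obtain ⟨c', rfl⟩ := hy
    refine ⟨fun j => c j + c' j, ?_⟩
    rw [← Finset.sum_add_distrib]
    exact Finset.sum_congr rfl fun m _ => (add_smul _ _ _).symm
  | smul a x _ hx =>
    obtain ⟨c, rfl⟩ := hx
    refine ⟨fun j => a * c j, ?_⟩
    rw [Finset.smul_sum]
    exact Finset.sum_congr rfl fun m _ => (mul_smul _ _ _).symm

/-- the fixed vectors of the unipotent group in `V_b` -/
theorem fixed_Vb (hι : Function.Injective ι) {b : ℕ} (hb : b < Fintype.card F) {f : F × F → k} (hf : f ∈ Vb ι b)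
    (hU : ∀ t : F, fRep k F (u t) f = f) : f ∈ Db ι b := by
  obtain ⟨c, rfl⟩ := mem_span_mon ι (Vb_le ι b hf)
  have h1 : ∀ m ≤ b, (if m = b then 0 else c m) = 0 := by
    refine mon_indep ι hι hb (fun m => if m = b then 0 else c m) fun y => ?_
    have h2 := congrFun (hU y) (1, 0)
    rw [fRep_u] at h2
    rw [Finset.sum_apply, Finset.sum_apply] at h2
    have h3 : ∑ m ∈ Finset.range (b + 1), (if m = b then 0 else c m) * mon ι b m (1, y) =
        ∑ m ∈ Finset.range (b + 1), (c m • mon ι b m) (1, y) - c b := by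
      rw [Finset.sum_range_succ, Finset.sum_range_succ, if_pos rfl, zero_mul, add_zero]
      have e1 : (c b • mon ι b b) ((1 : F), y) = c b := by
        show c b * mon ι b b (1, y) = c b
        rw [mon_self, map_one, one_pow, mul_one]
      rw [e1, add_sub_cancel_right]
      refine Finset.sum_congr rfl fun m hm => ?_
      rw [if_neg (Finset.mem_range.1 hm).ne]
      rfl
    rw [h3, sub_eq_zero]
    have h4 : (1 : F) * y + 0 = y := by rw [one_mul, add_zero]
    rw [h4] at h2
    rw [h2, Finset.sum_eq_single b]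
    · show c b * mon ι b b (1, 0) = c b
      rw [mon_self, map_one, one_pow, mul_one]
    · intro m hm hmb
      show c m * mon ι b m (1, 0) = 0
      unfold mon
      have : b - m ≠ 0 := by
        have := Finset.mem_range.1 hm
        omega
      rw [map_zero, zero_pow this, mul_zero, mul_zero]
    · intro h0
      exact absurd (Finset.mem_range.2 (Nat.lt_succ_self b)) h0
  rw [Finset.sum_eq_single b]
  · exact Submodule.smul_mem _ _ (mon_mem_Db ι b)
  · intro m hm hmb
    have h2 := h1 m (Nat.lt_succ_iff.1 (Finset.mem_range.1 hm))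
    rw [if_neg hmb] at h2
    rw [h2, zero_smul]
  · intro h0
    exact absurd (Finset.mem_range.2 (Nat.lt_succ_self b)) h0

/-- the representation on `V_b` -/
def rb (hodd : Odd (Fintype.card F)) {b : ℕ} (hb : b ≤ Fintype.card F - 1) :
    Representation k (SpecialLinearGroup (Fin 2) F) (Vb ι b) :=
  subRep (fRep k F) (Vb ι b) (inv_Vb ι p hodd hb)

theorem mon_ne_zero (b : ℕ) : mon ι b b ≠ 0 := by
  intro h0
  have h1 := congrFun h0 ((1 : F), (0 : F))
  rw [mon_self, map_one, one_pow] at h1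
  exact one_ne_zero h1

/-- **`V_b` is irreducible** -/
theorem irr_rb (hι : Function.Injective ι) (hodd : Odd (Fintype.card F)) {b : ℕ} (hb : b ≤ Fintype.card F - 1) :
    Irr (rb ι p hodd hb) := by
  have hm : mon ι b b ∈ Vb ι b := Db_le ι p hodd hb (mon_mem_Db ι b)
  have hb' : b < Fintype.card F := by
    have := Fintype.card_pos (α := F)
    omega
  refine ⟨⟨⟨0, ⟨_, hm⟩, fun h0 => mon_ne_zero ι b (congrArg Subtype.val h0).symm⟩⟩, fun W hW => ?_⟩
  by_cases hW0 : W = ⊥
  · exact Or.inl hW0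
  right
  -- a fixed vector in `W`
  have : Nontrivial W := Submodule.nontrivial_iff_ne_bot.2 hW0
  let r : Representation k (SpecialLinearGroup (Fin 2) F) W := subRep (rb ι p hodd hb) W hW
  obtain ⟨v, hv, hfix⟩ := exists_ufix (k := k) (F := F) (V := W) r p
  have h1 : ((v : Vb ι b) : F × F → k) ∈ Db ι b := fixed_Vb ι hι hb' (v : Vb ι b).2 fun t =>
    congrArg (fun z : W => ((z : Vb ι b) : F × F → k)) (hfix t)
  obtain ⟨c, hc⟩ := Submodule.mem_span_singleton.1 h1
  have hc0 : c ≠ 0 := by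
    rintro rfl
    rw [zero_smul] at hc
    exact hv (Subtype.ext (Subtype.ext hc.symm))
  have h2 : (⟨_, hm⟩ : Vb ι b) ∈ W := by
    have h3 : (⟨_, hm⟩ : Vb ι b) = c⁻¹ • (v : Vb ι b) := by
      apply Subtype.ext
      show mon ι b b = c⁻¹ • ((v : Vb ι b) : F × F → k)
      rw [← hc, smul_smul, inv_mul_cancel₀ hc0, one_smul]
    rw [h3]
    exact Submodule.smul_mem _ _ v.2
  rw [eq_top_iff]
  intro x _
  have h4 : Vb ι b ≤ W.map (Vb ι b).subtype := by
    refine MM_le (fRep k F) (D := Db ι b) ?_ ?_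
    · rintro g _ ⟨y, hy, rfl⟩
      exact ⟨_, hW g y hy, rfl⟩
    · intro d hd
      obtain ⟨c, rfl⟩ := Submodule.mem_span_singleton.1 hd
      exact Submodule.smul_mem _ _ ⟨_, h2, rfl⟩
  obtain ⟨y, hy, e⟩ := h4 x.2
  rwa [← Subtype.ext (p := fun z => z ∈ Vb ι b) e]

end Cfsg.Agent.H943.SL2Mod
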