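import Cfsg.Agent.H943.SL2Vb

/-!
# Weights of the modules `V_b` (helper943)

* `finrank_eig_rb` : the multiplicities of the eigenvalues of the torus on `V_b`;
* `irr_iso` : every irreducible module over an algebraically closed field is some `V_b`, `b ≤ q - 1`.
-/

set_option autoImplicit false
set_option linter.unusedSectionVars false

namespace Cfsg.Agent.H943.SL2Mod

open Matrix Cfsg.Agent.H943.SL2Rel Cfsg.Agent.H943.RepAdd

/-- eigenspaces of a diagonal operator -/
theorem finrank_diag {k : Type*} [Field k] [DecidableEq k] {V : Type*} [AddCommGroup V] [Module k V] {I : Type*}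
    [Fintype I] [DecidableEq I] (e : (I → k) ≃ₗ[k] V) (A : Module.End k V) (μ : I → k)
    (hA : ∀ x : I → k, A (e x) = e (fun i => μ i * x i)) (ν : k) :
    Module.finrank k (LinearMap.ker (A - ν • (1 : Module.End k V))) = Fintype.card {i // μ i = ν} := by
  rw [← Module.finrank_fintype_fun_eq_card k]
  have hmem : ∀ x : I → k, e x ∈ LinearMap.ker (A - ν • (1 : Module.End k V)) ↔ ∀ i, μ i ≠ ν → x i = 0 := by
    intro x
    rw [LinearMap.mem_ker, LinearMap.sub_apply, LinearMap.smul_apply, Module.End.one_apply, sub_eq_zero, hA,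
      ← map_smul, e.injective.eq_iff]
    constructor
    · intro h i hi
      have h1 : μ i * x i = ν * x i := congrFun h i
      have h2 : (μ i - ν) * x i = 0 := by rw [sub_mul, h1, sub_self]
      exact (mul_eq_zero.1 h2).resolve_left (sub_ne_zero.2 hi)
    · intro h
      funext i
      show μ i * x i = ν * x i
      by_cases hi : μ i = ν
      · rw [hi]
      · rw [h i hi, mul_zero, mul_zero]
  let f : LinearMap.ker (A - ν • (1 : Module.End k V)) →ₗ[k] ({i // μ i = ν} → k) :=
    { toFun := fun x i => e.symm (x : V) i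
      map_add' := fun x y => by
        funext i
        show e.symm ((x : V) + (y : V)) i = e.symm (x : V) i + e.symm (y : V) i
        rw [map_add]; rfl
      map_smul' := fun c x => by
        funext i
        show e.symm (c • (x : V)) i = c • e.symm (x : V) i
        rw [map_smul]; rfl }
  refine LinearEquiv.finrank_eq (LinearEquiv.ofBijective f ⟨?_, ?_⟩)
  · intro x y h
    apply Subtype.ext
    apply e.symm.injective
    funext i
    by_cases hi : μ i = ν
    · exact congrFun h ⟨i, hi⟩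
    · have hx : e (e.symm (x : V)) ∈ LinearMap.ker (A - ν • (1 : Module.End k V)) := by
        rw [LinearEquiv.apply_symm_apply]; exact x.2
      have hy : e (e.symm (y : V)) ∈ LinearMap.ker (A - ν • (1 : Module.End k V)) := by
        rw [LinearEquiv.apply_symm_apply]; exact y.2
      rw [(hmem _).1 hx i hi, (hmem _).1 hy i hi]
  · intro g
    refine ⟨⟨e (fun i => if hi : μ i = ν then g ⟨i, hi⟩ else 0), (hmem _).2 fun i hi => dif_neg hi⟩, ?_⟩
    funext i
    show e.symm (e _) (i : I) = g i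
    rw [LinearEquiv.symm_apply_apply, dif_pos i.2]

variable {k : Type*} [Field k] [DecidableEq k] {F : Type*} [Field F] [Fintype F] [DecidableEq F] (ι : F →+* k)
variable (p : ℕ) [Fact p.Prime] [CharP k p] [CharP F p]

/-- the power sums -/
theorem power_sum_ne {e : ℕ} (he : e ≤ 2 * (Fintype.card F - 1)) (h : ∑ t : F, ι t ^ e ≠ 0) :
    e = Fintype.card F - 1 ∨ e = 2 * (Fintype.card F - 1) := by
  have hq : 1 < Fintype.card F := Fintype.one_lt_card
  have h1 : ∑ t : F, ι t ^ e = ι (∑ t : F, t ^ e) := by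
    rw [map_sum]
    exact Finset.sum_congr rfl fun t _ => (map_pow ι t e).symm
  rw [h1] at h
  have h2 : ∑ t : F, t ^ e ≠ 0 := fun h0 => h (by rw [h0, map_zero])
  by_contra hcon
  push Not at hcon
  by_cases h3 : e < Fintype.card F - 1
  · exact h2 (FiniteField.sum_pow_lt_card_sub_one F e h3)
  · have h4 : ∑ t : F, t ^ e = ∑ t : F, t ^ (e - (Fintype.card F - 1)) := by
      refine Finset.sum_congr rfl fun t _ => ?_
      have h5 : e = (e - (Fintype.card F - 1)) + (Fintype.card F - 1) := by omega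
      by_cases ht : t = 0
      · rw [ht, zero_pow (by omega), zero_pow (by omega)]
      · conv_lhs => rw [h5]
        rw [pow_add, FiniteField.pow_card_sub_one_eq_one t ht, mul_one]
    rw [h4] at h2
    exact h2 (FiniteField.sum_pow_lt_card_sub_one F _ (by omega))

theorem power_sum_eq : ∑ t : F, ι t ^ (Fintype.card F - 1) = -1 := by
  have h1 : ∑ t : F, ι t ^ (Fintype.card F - 1) = ι (∑ t : F, t ^ (Fintype.card F - 1)) := by
    rw [map_sum]
    exact Finset.sum_congr rfl fun t _ => (map_pow ι t _).symm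
  rw [h1, sum_pow_card, map_neg, map_one]

include p in
theorem mon_mem_Vb (hodd : Odd (Fintype.card F)) {b : ℕ} (hb : b ≤ Fintype.card F - 1) {m : ℕ} (hm : m ∈ Bb k b) :
    mon ι b m ∈ Vb ι b := by
  have hmb : mon ι b b ∈ Vb ι b := Db_le ι p hodd hb (mon_mem_Db ι b)
  have hS : ∑ t : F, ι t ^ (Fintype.card F - 1 - m) • fRep k F (u t) (fRep k F w (mon ι b b)) ∈ Vb ι b :=
    sum_mem fun t _ => Submodule.smul_mem _ _ (mem_MM _ t (mon_mem_Db ι b))
  have h1 : ∑ t : F, ι t ^ (Fintype.card F - 1 - m) • fRep k F (u t) (fRep k F w (mon ι b b)) =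
      ∑ m' ∈ Finset.range (b + 1), ((-1) ^ b * (b.choose m' : k) *
        ∑ t : F, ι t ^ (Fintype.card F - 1 - m + m')) • mon ι b m' := by
    have h2 : ∀ t : F, ι t ^ (Fintype.card F - 1 - m) • fRep k F (u t) (fRep k F w (mon ι b b)) =
        ∑ m' ∈ Finset.range (b + 1), ((-1) ^ b * (b.choose m' : k) * ι t ^ (Fintype.card F - 1 - m + m')) •
          mon ι b m' := by
      intro t
      rw [uw_mon, Finset.smul_sum]
      refine Finset.sum_congr rfl fun m' _ => ?_
      rw [smul_smul, pow_add]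
      congr 1
      ring
    rw [Finset.sum_congr rfl fun t _ => h2 t, Finset.sum_comm]
    refine Finset.sum_congr rfl fun m' _ => ?_
    rw [Finset.mul_sum, Finset.sum_smul]
  rw [h1, ← Finset.add_sum_erase _ _ (Finset.mem_range.2 (Nat.lt_succ_iff.2 hm.1))] at hS
  have h3 : ∑ m' ∈ (Finset.range (b + 1)).erase m, ((-1) ^ b * (b.choose m' : k) *
        ∑ t : F, ι t ^ (Fintype.card F - 1 - m + m')) • mon ι b m' ∈ Vb ι b := by
    refine sum_mem fun m' hm' => ?_
    have hne := Finset.ne_of_mem_erase hm'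
    have hle : m' ≤ b := Nat.lt_succ_iff.1 (Finset.mem_range.1 (Finset.mem_of_mem_erase hm'))
    by_cases h0 : ∑ t : F, ι t ^ (Fintype.card F - 1 - m + m') = 0
    · rw [h0, mul_zero, zero_smul]
      exact Submodule.zero_mem _
    · have hm1 := hm.1
      rcases power_sum_ne ι (by omega) h0 with h4 | h4
      · exact absurd (by omega) hne
      · have h5 : m' = b := by omega
        rw [h5]
        exact Submodule.smul_mem _ _ hmb
  have h4 := sub_mem hS h3
  rw [add_sub_cancel_right] at h4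
  have h5 : Fintype.card F - 1 - m + m = Fintype.card F - 1 := by
    have := hm.1
    omega
  rw [h5, power_sum_eq] at h4
  have h6 : (-1 : k) ^ b * (b.choose m : k) * -1 ≠ 0 :=
    mul_ne_zero (mul_ne_zero (pow_ne_zero _ (neg_ne_zero.2 one_ne_zero)) hm.2) (neg_ne_zero.2 one_ne_zero)
  have h7 := Submodule.smul_mem (Vb ι b) ((-1 : k) ^ b * (b.choose m : k) * -1)⁻¹ h4
  rwa [smul_smul, inv_mul_cancel₀ h6, one_smul] at h7

/-- the exponents occurring in `V_b` -/
def Bf (k : Type*) [Field k] [DecidableEq k] (b : ℕ) : Finset ℕ := (Finset.range (b + 1)).filter fun m => (b.choose m : k) ≠ 0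

theorem mem_Bf {b m : ℕ} : m ∈ Bf k b ↔ m ∈ Bb k b := by
  unfold Bf Bb
  rw [Finset.mem_filter, Finset.mem_range, Nat.lt_succ_iff]
  rfl

include p in
/-- coordinates on `V_b` -/
theorem exists_coord (hι : Function.Injective ι) (hodd : Odd (Fintype.card F)) {b : ℕ} (hb : b ≤ Fintype.card F - 1) :
    ∃ e : (Bf k b → k) ≃ₗ[k] Vb ι b, ∀ x, ((e x : Vb ι b) : F × F → k) = ∑ m : Bf k b, x m • mon ι b m := by
  let f : (Bf k b → k) →ₗ[k] Vb ι b :=
    { toFun := fun x => ⟨∑ m : Bf k b, x m • mon ι b m, sum_mem fun m _ =>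
        Submodule.smul_mem _ _ (mon_mem_Vb ι p hodd hb (mem_Bf.1 m.2))⟩
      map_add' := fun x y => Subtype.ext (by
        show ∑ m : Bf k b, (x m + y m) • mon ι b m = ∑ m : Bf k b, x m • mon ι b m + ∑ m : Bf k b, y m • mon ι b m
        rw [← Finset.sum_add_distrib]
        exact Finset.sum_congr rfl fun m _ => add_smul _ _ _)
      map_smul' := fun c x => Subtype.ext (by
        show ∑ m : Bf k b, (c * x m) • mon ι b m = c • ∑ m : Bf k b, x m • mon ι b m
        rw [Finset.smul_sum]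
        exact Finset.sum_congr rfl fun m _ => mul_smul _ _ _) }
  have hq : 1 < Fintype.card F := Fintype.one_lt_card
  refine ⟨LinearEquiv.ofBijective f ⟨?_, ?_⟩, fun x => rfl⟩
  · rw [← LinearMap.ker_eq_bot, LinearMap.ker_eq_bot']
    intro x hx
    have h1 : ∑ m : Bf k b, x m • mon ι b m = 0 := congrArg Subtype.val hx
    let c : ℕ → k := fun m => if hm : m ∈ Bf k b then x ⟨m, hm⟩ else 0
    have h2 : ∀ y : F, ∑ m ∈ Finset.range (b + 1), c m * mon ι b m (1, y) = 0 := by
      intro y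
      have h3 := congrFun h1 (1, y)
      rw [Finset.sum_apply] at h3
      rw [← Finset.sum_subset (Finset.filter_subset (fun m => (b.choose m : k) ≠ 0) (Finset.range (b + 1)))]
      · rw [← Finset.sum_coe_sort]
        refine Eq.trans (Finset.sum_congr rfl fun m _ => ?_) h3
        show c m * mon ι b m (1, y) = x m * mon ι b m (1, y)
        congr 1
        exact dif_pos m.2
      · intro m _ hm
        have h4 : c m = 0 := dif_neg hm
        rw [h4, zero_mul]
    funext m
    have h5 := mon_indep ι hι (by omega) c h2 m (mem_Bf.1 m.2).1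
    have h6 : c m = x m := dif_pos m.2
    rw [← h6, h5]
    rfl
  · rintro ⟨y, hy⟩
    have h1 : Submodule.span k (mon ι b '' Bb k b) ≤ (LinearMap.range f).map (Vb ι b).subtype := by
      refine Submodule.span_le.2 ?_
      rintro _ ⟨m, hm, rfl⟩
      refine ⟨f (Pi.single ⟨m, mem_Bf.2 hm⟩ 1), ⟨_, rfl⟩, ?_⟩
      show ∑ m' : Bf k b, (Pi.single (⟨m, mem_Bf.2 hm⟩ : Bf k b) (1 : k) : Bf k b → k) m' • mon ι b m' = mon ι b m
      rw [Finset.sum_eq_single (⟨m, mem_Bf.2 hm⟩ : Bf k b)]
      · rw [Pi.single_eq_same, one_smul]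
      · intro m' _ hne
        rw [Pi.single_eq_of_ne hne, zero_smul]
      · intro h0
        exact absurd (Finset.mem_univ _) h0
    obtain ⟨z, ⟨x, rfl⟩, e⟩ := h1 (Vb_le ι b hy)
    exact ⟨x, Subtype.ext e⟩

/-- **the multiplicities of the eigenvalues of the torus on `V_b`** -/
theorem finrank_eig_rb (hι : Function.Injective ι) (hodd : Odd (Fintype.card F)) {b : ℕ}
    (hb : b ≤ Fintype.card F - 1) (a : Fˣ) (ν : k) :
    Module.finrank k (eig (rb ι p hodd hb) (h a) ν) =
      ((Bf k b).filter fun m => ι a ^ m * (ι a)⁻¹ ^ (b - m) = ν).card := by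
  obtain ⟨e, he⟩ := exists_coord ι p hι hodd hb
  have h1 := finrank_diag e (rb ι p hodd hb (h a)) (fun m => ι a ^ (m : ℕ) * (ι a)⁻¹ ^ (b - m)) (by
    intro x
    apply Subtype.ext
    rw [he]
    show fRep k F (h a) ((e x : Vb ι b) : F × F → k) = _
    rw [he, map_sum]
    refine Finset.sum_congr rfl fun m _ => ?_
    rw [map_smul, h_mon, smul_smul, mul_comm]) ν
  unfold eig
  rw [h1, Fintype.card_subtype]
  rw [← Finset.card_map (Function.Embedding.subtype fun m => m ∈ Bf k b)]
  congr 1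
  ext m
  simp only [Finset.mem_map, Finset.mem_filter, Finset.mem_univ, true_and, Function.Embedding.coe_subtype]
  constructor
  · rintro ⟨m', h2, rfl⟩
    exact ⟨m'.2, h2⟩
  · rintro ⟨h2, h3⟩
    exact ⟨⟨m, h2⟩, h3, rfl⟩

include p in
theorem finrank_Vb (hι : Function.Injective ι) (hodd : Odd (Fintype.card F)) {b : ℕ}
    (hb : b ≤ Fintype.card F - 1) : Module.finrank k (Vb ι b) = (Bf k b).card := by
  obtain ⟨e, he⟩ := exists_coord ι p hι hodd hb
  rw [← LinearEquiv.finrank_eq e, Module.finrank_fintype_fun_eq_card, Fintype.card_coe]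

section Iso

variable {V : Type*} [AddCommGroup V] [Module k V] (ρ : Representation k (SpecialLinearGroup (Fin 2) F) V)

theorem tsimple_span {v : V} (hv : v ≠ 0) (hT : ∀ a : Fˣ, ∃ c : k, ρ (h a) v = c • v) :
    TSimple ρ (Submodule.span k {v}) := by
  refine ⟨fun h0 => hv (Submodule.span_singleton_eq_bot.1 h0), ?_, ?_⟩
  · intro a d hd
    obtain ⟨c, rfl⟩ := Submodule.mem_span_singleton.1 hd
    obtain ⟨c', hc'⟩ := hT a
    rw [map_smul, hc']
    exact Submodule.smul_mem _ _ (Submodule.smul_mem _ _ (Submodule.mem_span_singleton_self v))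
  · intro D' hle _
    by_cases h0 : D' = ⊥
    · exact Or.inl h0
    · right
      apply le_antisymm hle
      obtain ⟨d, hd, hd0⟩ := Submodule.exists_mem_ne_zero_of_ne_bot h0
      obtain ⟨c, rfl⟩ := Submodule.mem_span_singleton.1 (hle hd)
      have hc : c ≠ 0 := by
        rintro rfl
        exact hd0 (zero_smul _ _)
      rw [Submodule.span_singleton_le_iff_mem]
      have := Submodule.smul_mem D' c⁻¹ hd
      rwa [smul_smul, inv_mul_cancel₀ hc, one_smul] at this

variable [IsAlgClosed k] [FiniteDimensional k V]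

/-- **every irreducible module is some `V_b`** -/
theorem irr_iso (hι : Function.Injective ι) (hodd : Odd (Fintype.card F)) (hI : Irr ρ) :
    ∃ (b : ℕ) (hb : b ≤ Fintype.card F - 1) (φ : Vb ι b ≃ₗ[k] V), ∀ g x, φ (rb ι p hodd hb g x) = ρ g (φ x) := by
  obtain ⟨D, c, G, hD, hc⟩ := exists_type ρ p hI
  have hq : 1 < Fintype.card F := Fintype.one_lt_card
  -- a generator
  obtain ⟨lam, hlam⟩ := IsCyclic.exists_generator (α := Fˣ)
  have hord : orderOf lam = Fintype.card F - 1 := by
    rw [orderOf_eq_card_of_forall_mem_zpowers hlam, Nat.card_eq_fintype_card, Fintype.card_units]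
  have hpow : ∀ a : Fˣ, ∃ i : ℕ, a = lam ^ i := by
    intro a
    obtain ⟨i, hi⟩ := mem_powers_iff_mem_zpowers.2 (hlam a)
    exact ⟨i, hi.symm⟩
  have hprim : IsPrimitiveRoot (ι lam) (Fintype.card F - 1) := by
    have h1 : IsPrimitiveRoot lam (Fintype.card F - 1) := hord ▸ IsPrimitiveRoot.orderOf lam
    have h2 : IsPrimitiveRoot (lam : F) (Fintype.card F - 1) := IsPrimitiveRoot.coe_units_iff.2 h1
    exact h2.map_of_injective hι
  -- an eigenvector
  have hDn : Nontrivial D := Submodule.nontrivial_iff_ne_bot.2 hD.1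
  obtain ⟨μ, hμ⟩ := Module.End.exists_eigenvalue ((ρ (h lam)).restrict (hD.2.1 lam))
  obtain ⟨⟨v, hvD⟩, hv⟩ := hμ.exists_hasEigenvector
  have hv0 : v ≠ 0 := fun h0 => hv.2 (Subtype.ext h0)
  have hve : ρ (h lam) v = μ • v := congrArg Subtype.val hv.apply_eq_smul
  have hvn : ∀ i : ℕ, ρ (h (lam ^ i)) v = μ ^ i • v := by
    intro i
    rw [h_pow, map_pow]
    exact pow_apply_eig ρ hve i
  have hμn : μ ^ (Fintype.card F - 1) = 1 := by
    have h1 := hvn (Fintype.card F - 1)
    rw [← hord, pow_orderOf_eq_one, h_one, map_one, hord] at h1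
    have h2 : (μ ^ (Fintype.card F - 1) - 1) • v = 0 := by
      rw [sub_smul, ← h1, one_smul]
      exact sub_self _
    exact sub_eq_zero.1 ((smul_eq_zero.1 h2).resolve_right hv0)
  have : NeZero (Fintype.card F - 1) := ⟨by omega⟩
  obtain ⟨j, hj, hjμ⟩ := hprim.eq_pow_of_pow_eq_one hμn
  have hva : ∀ a : Fˣ, ρ (h a) v = ι a ^ j • v := by
    intro a
    obtain ⟨i, rfl⟩ := hpow a
    rw [hvn, ← hjμ, Units.val_pow_eq_pow_val, map_pow, ← pow_mul, ← pow_mul, mul_comm]
  -- the parameter
  obtain ⟨b, hb, hbc, hba⟩ : ∃ b, b ≤ Fintype.card F - 1 ∧ cb k F b = c ∧ ∀ a : Fˣ, ρ (h a) v = ι a ^ b • v := by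
    rcases hc with rfl | ⟨rfl, hT⟩
    · exact ⟨j, hj.le, if_pos hj, hva⟩
    · refine ⟨Fintype.card F - 1, le_rfl, if_neg (lt_irrefl _), fun a => ?_⟩
      rw [hT a v hvD, ← map_pow, FiniteField.pow_card_sub_one_eq_one _ a.ne_zero, map_one, one_smul]
  have hmb : mon ι b b ∈ Vb ι b := Db_le ι p hodd hb (mon_mem_Db ι b)
  let m₀ : Vb ι b := ⟨_, hmb⟩
  have hm₀ : m₀ ≠ 0 := fun h0 => mon_ne_zero ι b (congrArg Subtype.val h0)
  obtain ⟨f, hf⟩ : ∃ f : Vb ι b →ₗ[k] k, f m₀ = 1 := by
    by_contra hcon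
    push Not at hcon
    apply hm₀
    have h1 : ∀ g : Vb ι b →ₗ[k] k, g m₀ = 0 := by
      intro g
      by_contra hg
      exact hcon ((g m₀)⁻¹ • g) (by rw [LinearMap.smul_apply, smul_eq_mul, inv_mul_cancel₀ hg])
    exact (Module.forall_dual_apply_eq_zero_iff k m₀).1 h1
  let θ : Vb ι b →ₗ[k] V := f.smulRight v
  have hθ : θ m₀ = v := by
    show f m₀ • v = v
    rw [hf, one_smul]
  let D₁ : Submodule k (Vb ι b) := Submodule.span k {m₀}
  have hhm : ∀ a : Fˣ, rb ι p hodd hb (h a) m₀ = ι a ^ b • m₀ := by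
    intro a
    apply Subtype.ext
    show fRep k F (h a) (mon ι b b) = ι a ^ b • mon ι b b
    rw [h_mon, Nat.sub_self, pow_zero, mul_one]
  have hgood := good_Db ι p hodd hb
  have hum : ∀ t, rb ι p hodd hb (u t) m₀ = m₀ := by
    intro t
    apply Subtype.ext
    exact hgood.ufix t _ (mon_mem_Db ι b)
  have hsm : SS (rb ι p hodd hb) m₀ = cb k F b • m₀ := by
    apply Subtype.ext
    rw [SS_apply, Submodule.coe_sum]
    show ∑ t : F, fRep k F (u t) (fRep k F w (mon ι b b)) = cb k F b • mon ι b b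
    rw [← SS_apply, hgood.ss _ (mon_mem_Db ι b)]
  have G₁ : Good (rb ι p hodd hb) D₁ c := by
    constructor
    · intro a d hd
      obtain ⟨x, rfl⟩ := Submodule.mem_span_singleton.1 hd
      rw [map_smul, hhm]
      exact Submodule.smul_mem _ _ (Submodule.smul_mem _ _ (Submodule.mem_span_singleton_self _))
    · intro t d hd
      obtain ⟨x, rfl⟩ := Submodule.mem_span_singleton.1 hd
      rw [map_smul, hum]
    · intro d hd
      obtain ⟨x, rfl⟩ := Submodule.mem_span_singleton.1 hd
      rw [map_smul, hsm, hbc, smul_comm]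
  have hθh : ∀ a, ∀ d ∈ D₁, θ (rb ι p hodd hb (h a) d) = ρ (h a) (θ d) := by
    intro a d hd
    obtain ⟨x, rfl⟩ := Submodule.mem_span_singleton.1 hd
    rw [map_smul, map_smul, map_smul, map_smul, hhm, map_smul, hθ, hba]
  have hΓ := graph_good (rb ι p hodd hb) ρ G₁ θ hθh (by
    intro t d hd
    obtain ⟨x, rfl⟩ := Submodule.mem_span_singleton.1 hd
    rw [map_smul, map_smul, hθ, G.ufix t v hvD]) (by
    intro d hd
    obtain ⟨x, rfl⟩ := Submodule.mem_span_singleton.1 hd
    rw [map_smul, map_smul, hθ, G.ss v hvD, smul_comm])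
  have hTs : TSimple (rb ι p hodd hb) D₁ := tsimple_span _ hm₀ fun a => ⟨_, hhm a⟩
  have hmem : LinearMap.prod LinearMap.id θ m₀ ∈ D₁.map (LinearMap.prod LinearMap.id θ) :=
    Submodule.mem_map_of_mem (Submodule.mem_span_singleton_self _)
  obtain ⟨φ, h1, -⟩ := exists_iso (rb ι p hodd hb) ρ p hΓ (graph_tsimple (rb ι p hodd hb) ρ hTs θ hθh)
    (irr_rb ι p hι hodd hb) hI ⟨_, hmem, hm₀⟩ ⟨_, hmem, by
      show θ m₀ ≠ 0
      rw [hθ]
      exact hv0⟩
  exact ⟨b, hb, φ, h1⟩

end Iso

end Cfsg.Agent.H943.SL2Mod
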